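import Mathlib

/-!
# Odd groups of automorphisms of an abelian group of order eight
-/

namespace CfsgLib.Blocks.KFive

variable {A : Type*} [CommGroup A] [Finite A]

/-- An automorphism of odd order fixing two nonidentity elements is trivial. -/
theorem auto_eq_one (h8 : Nat.card A = 8) {α : MulAut A} (hodd : Odd (orderOf α)) {u y : A}
    (hu : u ≠ 1) (hy : y ≠ 1) (huy : u ≠ y) (hau : α u = u) (hay : α y = y) : α = 1 := by
  classical
  let F : Subgroup A :=
    { carrier := {z | α z = z}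
      one_mem' := map_one α
      mul_mem' := fun {a b} (ha : α a = a) (hb : α b = b) => show α (a * b) = a * b by
        rw [map_mul, ha, hb]
      inv_mem' := fun {a} (ha : α a = a) => show α a⁻¹ = a⁻¹ by rw [map_inv, ha] }
  have hF3 : 3 ≤ Nat.card F := by
    have hsub : ({1, u, y} : Set A) ⊆ (F : Set A) := by
      rintro z (rfl | rfl | rfl)
      exacts [F.one_mem, hau, hay]
    have := Set.ncard_le_ncard hsub
    rwa [Set.ncard_insert_of_notMem (by simp [hu.symm, hy.symm]), Set.ncard_pair huy,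
      ← Nat.card_coe_set_eq] at this
  have hidx : F.index = 1 ∨ F.index = 2 := by
    have h := F.card_mul_index
    rw [h8] at h
    have h0 : F.index ≤ 2 := by nlinarith
    rcases Nat.eq_zero_or_pos F.index with h1 | h1
    · rw [h1, mul_zero] at h; omega
    · omega
  refine MulEquiv.ext fun z => ?_
  show α z = z
  by_cases hz : z ∈ F
  · exact hz
  have h2 : F.index = 2 := hidx.resolve_left fun h => hz (Subgroup.index_eq_one.1 h ▸ Subgroup.mem_top z)
  have hαz : α z ∉ F := fun h => hz (α.injective (h : α (α z) = α z))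
  have hk : α (z⁻¹ * α z) = z⁻¹ * α z := show z⁻¹ * α z ∈ F by
    rw [Subgroup.mul_mem_iff_of_index_two h2, inv_mem_iff]
    exact iff_of_false hz hαz
  have hpow : ∀ n : ℕ, (α ^ n) z = z * (z⁻¹ * α z) ^ n := by
    intro n
    induction n with
    | zero => simp
    | succ n ih =>
      rw [pow_succ', MulAut.mul_apply, ih, map_mul, map_pow, hk, pow_succ', ← mul_assoc z,
        mul_inv_cancel_left]
  have h1 := hpow (orderOf α)
  rw [pow_orderOf_eq_one, MulAut.one_apply, left_eq_mul] at h1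
  have h3 : (z⁻¹ * α z) ^ 8 = 1 := by rw [← h8]; exact pow_card_eq_one'
  have h4 : (z⁻¹ * α z) = 1 := by
    rw [← orderOf_eq_one_iff]
    have hcop : Nat.Coprime (2 ^ 3) (orderOf α) :=
      ((Nat.coprime_two_left).2 hodd).pow_left 3
    exact Nat.eq_one_of_dvd_coprimes hcop (orderOf_dvd_of_pow_eq_one h3)
      (orderOf_dvd_of_pow_eq_one h1)
  exact (inv_mul_eq_one.1 h4).symm

section Group

variable {E : Subgroup (MulAut A)} (hodd : Odd (Nat.card E))

include hodd

theorem orderOf_odd {α : MulAut A} (hα : α ∈ E) : Odd (orderOf α) :=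
  hodd.of_dvd_nat (Subgroup.orderOf_dvd_natCard E hα)

theorem orbit_odd (x : A) : Odd (MulAction.orbit E x).ncard := by
  haveI : Finite E := Finite.of_injective _ (Subtype.coe_injective (p := fun α => α ∈ E))
  refine hodd.of_dvd_nat ?_
  rw [← MulAction.index_stabilizer E x]
  exact Subgroup.index_dvd_card _

/-- A stable set of at most two elements is fixed pointwise. -/
theorem fixed_of_small {S : Set A} (hS : ∀ α ∈ E, ∀ x ∈ S, α x ∈ S) (h2 : S.ncard ≤ 2) {x : A}
    (hx : x ∈ S) : ∀ α ∈ E, α x = x := by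
  intro α hα
  have hsub : MulAction.orbit E x ⊆ S := by
    rintro _ ⟨β, rfl⟩
    exact hS β β.2 x hx
  have h1 := Set.ncard_le_ncard hsub
  have h3 := orbit_odd hodd x
  have h4 : (MulAction.orbit E x).ncard ≤ 1 := by
    rcases h3 with ⟨k, hk⟩
    omega
  exact (Set.ncard_le_one (Set.toFinite _)).1 h4 _ ⟨⟨α, hα⟩, rfl⟩ _ (MulAction.mem_orbit_self x)

/-- With a nontrivial group of automorphisms the group is elementary. -/
theorem sq_eq_one (h8 : Nat.card A = 8) (hE : E ≠ ⊥) (x : A) : x * x = 1 := by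
  classical
  by_contra hx
  apply hE
  set f : A →* A := powMonoidHom 2 with hf
  have hfx : ∀ z, f z = z ^ 2 := fun z => rfl
  have hker : ∀ α : MulAut A, ∀ z ∈ f.ker, α z ∈ f.ker := fun α z hz => by
    rw [MonoidHom.mem_ker, hfx] at hz ⊢
    rw [← map_pow, hz, map_one]
  have hrange : ∀ α : MulAut A, ∀ z ∈ f.range, α z ∈ f.range := by
    rintro α _ ⟨z, rfl⟩
    exact ⟨α z, (map_pow α z 2).symm⟩
  have hmul : Nat.card f.ker * Nat.card f.range = 8 := by
    rw [← h8, ← Subgroup.index_ker, Subgroup.card_mul_index]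
  have hxr : x ^ 2 ∈ f.range := ⟨x, rfl⟩
  have hR2 : 2 ≤ Nat.card f.range := by
    by_contra hc
    have h1 : Nat.card f.range = 1 := by have := Nat.card_pos (α := f.range); omega
    rw [Subgroup.card_eq_one] at h1
    rw [h1, Subgroup.mem_bot, sq] at hxr
    exact hx hxr
  obtain ⟨y, hy⟩ := exists_prime_orderOf_dvd_card' 2 (show 2 ∣ Nat.card f.range by
    have h1 : Nat.card f.range ∣ 2 ^ 3 := ⟨Nat.card f.ker, by rw [mul_comm, hmul]; norm_num⟩
    obtain ⟨k, -, hk⟩ := (Nat.dvd_prime_pow Nat.prime_two).1 h1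
    rcases k with _ | k
    · omega
    · exact hk ▸ dvd_pow_self 2 k.succ_ne_zero)
  have hyR : (y : A) ∈ f.range := y.2
  have hyK : (y : A) ∈ f.ker := by
    rw [MonoidHom.mem_ker, hfx, ← orderOf_dvd_iff_pow_eq_one, Subgroup.orderOf_coe, hy]
  have hy1 : (y : A) ≠ 1 := fun e => by
    rw [← Subgroup.orderOf_coe, e, orderOf_one] at hy; omega
  -- a stable subgroup of order two inside a stable subgroup of order four
  obtain ⟨U, W, hU, hW, hUc, hWc, hyU, hyW⟩ : ∃ U W : Subgroup A,
      (∀ α : MulAut A, ∀ z ∈ U, α z ∈ U) ∧ (∀ α : MulAut A, ∀ z ∈ W, α z ∈ W) ∧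
      Nat.card U = 2 ∧ Nat.card W = 4 ∧ (y : A) ∈ U ∧ (y : A) ∈ W := by
    have hK2 : 2 ≤ Nat.card f.ker := by
      have : ({1, (y : A)} : Set A) ⊆ (f.ker : Set A) := by
        rintro z (rfl | rfl)
        exacts [one_mem _, hyK]
      have := Set.ncard_le_ncard this
      rwa [Set.ncard_pair hy1.symm, ← Nat.card_coe_set_eq] at this
    have h4 : Nat.card f.ker ≤ 4 := by nlinarith
    interval_cases hk : Nat.card f.ker
    · exact ⟨f.ker, f.range, hker, hrange, hk, by omega, hyK, hyR⟩
    · omega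
    · exact ⟨f.range, f.ker, hrange, hker, by omega, hk, hyR, hyK⟩
  have hUfix : ∀ α ∈ E, α (y : A) = y :=
    fixed_of_small hodd (S := (U : Set A)) (fun α _ z hz => hU α z hz)
      (by rw [← Nat.card_coe_set_eq]; exact hUc.le) hyU
  set S : Set A := (W : Set A) \ {1, (y : A)} with hS
  have hScard : S.ncard = 2 := by
    rw [hS, Set.ncard_diff (by rintro z (rfl | rfl); exacts [one_mem _, hyW]),
      Set.ncard_pair hy1.symm, ← Nat.card_coe_set_eq]
    show Nat.card W - 2 = 2
    omega
  obtain ⟨w, hw⟩ := (Set.ncard_pos (Set.toFinite S)).1 (by omega)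
  refine (Subgroup.eq_bot_iff_forall E).2 fun α hα => ?_
  have hwfix := fixed_of_small hodd (S := S) (fun β hβ z hz => ⟨hW β z hz.1, fun h => hz.2 ?_⟩)
    hScard.le hw α hα
  · exact auto_eq_one h8 (orderOf_odd hodd hα) hy1 (fun e => hw.2 (Or.inl e))
      (fun e => hw.2 (Or.inr e.symm)) (hUfix α hα) hwfix
  · rcases h with h | h
    · exact Or.inl (β.injective (h.trans (map_one β).symm))
    · exact Or.inr (β.injective (h.trans (hUfix β hβ).symm))

/-- Either a nonidentity element is fixed and two others have trivial stabilizers and lie in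
different orbits, or the action is transitive with trivial stabilizers of pairs. -/
theorem cases_of_eight (h8 : Nat.card A = 8) :
    (∃ u v : A, u ≠ 1 ∧ v ≠ 1 ∧ (∀ α ∈ E, α u ≠ v) ∧ (∀ α ∈ E, α u = u → α = 1) ∧
      (∀ α ∈ E, α v = v → α = 1)) ∨
    ∀ u v : A, u ≠ 1 → v ≠ 1 → ∃ α ∈ E, α u = v := by
  classical
  haveI : Fintype A := Fintype.ofFinite A
  have hne : ∀ α : MulAut A, ∀ x : A, x ≠ 1 → α x ≠ 1 := fun α x hx e =>
    hx (α.injective (e.trans (map_one α).symm))
  have horb1 : ∀ x : A, x ≠ 1 → ∀ z ∈ MulAction.orbit E x, z ≠ 1 := by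
    rintro x hx _ ⟨β, rfl⟩
    exact hne β x hx
  by_cases hfix : ∃ y : A, y ≠ 1 ∧ ∀ α ∈ E, α y = y
  · obtain ⟨y, hy, hyf⟩ := hfix
    left
    obtain ⟨u, hu⟩ : ∃ u, u ∉ ({1, y} : Set A) := by
      by_contra hc
      push Not at hc
      have h1 : (Set.univ : Set A).ncard ≤ ({1, y} : Set A).ncard :=
        Set.ncard_le_ncard fun z _ => hc z
      rw [Set.ncard_univ, h8, Set.ncard_pair hy.symm] at h1
      omega
    simp only [Set.mem_insert_iff, Set.mem_singleton_iff, not_or] at hu
    have hO : ∀ z ∈ MulAction.orbit E u, z ∉ ({1, y} : Set A) := by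
      rintro _ ⟨β, rfl⟩ (h | h)
      · exact hne β u hu.1 h
      · exact hu.2 ((β : MulAut A).injective (h.trans (hyf β β.2).symm))
    have hcard : (MulAction.orbit E u).ncard ≤ 5 := by
      have h1 := Set.ncard_le_ncard (show MulAction.orbit E u ⊆ ({1, y} : Set A)ᶜ from hO)
      rw [Set.ncard_compl, h8, Set.ncard_pair hy.symm] at h1
      obtain ⟨k, hk⟩ := orbit_odd hodd u
      omega
    obtain ⟨v, hv⟩ : ∃ v, v ∉ MulAction.orbit E u ∪ ({1, y} : Set A) := by
      by_contra hc
      push Not at hc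
      have h1 : (Set.univ : Set A).ncard ≤ _ := Set.ncard_le_ncard fun z _ => hc z
      have h2 := Set.ncard_union_le (MulAction.orbit E u) ({1, y} : Set A)
      rw [Set.ncard_univ, h8] at h1
      rw [Set.ncard_pair hy.symm] at h2
      omega
    simp only [Set.mem_union, Set.mem_insert_iff, Set.mem_singleton_iff, not_or] at hv
    exact ⟨u, v, hu.1, hv.2.1, fun α hα e => hv.1 ⟨⟨α, hα⟩, e⟩,
      fun α hα e => auto_eq_one h8 (orderOf_odd hodd hα) hu.1 hy hu.2 e (hyf α hα),
      fun α hα e => auto_eq_one h8 (orderOf_odd hodd hα) hv.2.1 hy hv.2.2 e (hyf α hα)⟩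
  · right
    push Not at hfix
    have h3 : ∀ x : A, x ≠ 1 → 3 ≤ (MulAction.orbit E x).ncard := by
      intro x hx
      obtain ⟨k, hk⟩ := orbit_odd hodd x
      obtain ⟨α, hα, hαx⟩ := hfix x hx
      by_contra hc
      exact hαx ((Set.ncard_le_one (Set.toFinite (MulAction.orbit E x))).1 (by omega) _ ⟨⟨α, hα⟩, rfl⟩ _
        (MulAction.mem_orbit_self x))
    intro u v hu hv
    by_contra hc
    push Not at hc
    have hd : ∀ x z : A, z ∉ MulAction.orbit E x →
        Disjoint (MulAction.orbit E x) (MulAction.orbit E z) := fun x z hz =>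
      Set.disjoint_left.2 fun w hwx hwz => hz (by
        rw [← MulAction.orbit_eq_iff.2 hwx, MulAction.orbit_eq_iff.2 hwz]
        exact MulAction.mem_orbit_self z)
    have huv : v ∉ MulAction.orbit E u := by
      rintro ⟨β, e⟩
      exact hc β β.2 e
    have h7 : ({1} : Set A)ᶜ.ncard = 7 := by rw [Set.ncard_compl, h8, Set.ncard_singleton]
    have hsub : ∀ x : A, x ≠ 1 → MulAction.orbit E x ⊆ ({1} : Set A)ᶜ := fun x hx z hz =>
      horb1 x hx z hz
    have hab := Set.ncard_union_eq (hd u v huv)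
    have h1 := Set.ncard_le_ncard (Set.union_subset (hsub u hu) (hsub v hv))
    obtain ⟨k, hk⟩ := orbit_odd hodd u
    obtain ⟨l, hl⟩ := orbit_odd hodd v
    rw [h7, hab] at h1
    obtain ⟨w, hw1, hw⟩ : ∃ w, w ≠ 1 ∧ w ∉ MulAction.orbit E u ∪ MulAction.orbit E v := by
      by_contra hc'
      push Not at hc'
      have := Set.ncard_le_ncard (show ({1} : Set A)ᶜ ⊆ _ from hc')
      rw [h7, hab] at this
      omega
    rw [Set.mem_union, not_or] at hw
    have h4 := Set.ncard_le_ncard
      (Set.union_subset (Set.union_subset (hsub u hu) (hsub v hv)) (hsub w hw1))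
    rw [Set.ncard_union_eq (Set.disjoint_union_left.2 ⟨hd u w hw.1, hd v w hw.2⟩), hab, h7] at h4
    have := h3 u hu
    have := h3 v hv
    have := h3 w hw1
    omega

end Group

end CfsgLib.Blocks.KFive
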