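import Mathlib

/-!
# Five nonzero integers with squares summing to eight
-/

namespace CfsgLib.Blocks.KFive

variable {ι : Type*}

/-- One of the five squares is four and the others are one. -/
theorem exists_four {s : Finset ι} (hs : s.card = 5) {x : ι → ℤ} (h0 : ∀ i ∈ s, x i ≠ 0)
    (h8 : ∑ i ∈ s, x i ^ 2 = 8) :
    ∃ i ∈ s, x i ^ 2 = 4 ∧ ∀ j ∈ s, j ≠ i → x j ^ 2 = 1 := by
  classical
  have hsum : ∑ i ∈ s, (x i ^ 2 - 1) = 3 := by
    rw [Finset.sum_sub_distrib, h8, Finset.sum_const, hs]; norm_num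
  have hnn : ∀ i ∈ s, 0 ≤ x i ^ 2 - 1 := fun i hi => by
    have : 0 < x i ^ 2 := pow_two_pos_of_ne_zero (h0 i hi)
    omega
  have hbig : ∀ i ∈ s, x i ^ 2 ≠ 1 → 3 ≤ x i ^ 2 - 1 := fun i hi h1 => by
    have h0' := h0 i hi
    have : x i ≤ -2 ∨ 2 ≤ x i := by
      by_contra hc
      push Not at hc
      have : x i = 1 ∨ x i = -1 := by omega
      rcases this with h | h <;> exact h1 (by rw [h]; norm_num)
    rcases this with h | h <;> nlinarith
  obtain ⟨i, hi, hi1⟩ : ∃ i ∈ s, x i ^ 2 ≠ 1 := by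
    by_contra hc
    push Not at hc
    rw [Finset.sum_eq_zero fun i hi => by rw [hc i hi, sub_self]] at hsum
    norm_num at hsum
  rw [← Finset.add_sum_erase _ _ hi] at hsum
  have h3 := hbig i hi hi1
  have hrest : 0 ≤ ∑ j ∈ s.erase i, (x j ^ 2 - 1) :=
    Finset.sum_nonneg fun j hj => hnn j (Finset.mem_of_mem_erase hj)
  refine ⟨i, hi, by omega, fun j hj hji => ?_⟩
  have h4 := (Finset.sum_eq_zero_iff_of_nonneg fun j hj => hnn j (Finset.mem_of_mem_erase hj)).1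
    (show ∑ j ∈ s.erase i, (x j ^ 2 - 1) = 0 by omega) j (Finset.mem_erase.2 ⟨hji, hj⟩)
  omega

/-- A column orthogonal to the multiplicities is determined up to sign. -/
theorem col_shape {s : Finset ι} (hs : s.card = 5) {d a : ι → ℤ} {i : ι} (hi : i ∈ s)
    (hdi : d i = 2) (hd : ∀ j ∈ s, j ≠ i → d j = 1) (ha0 : ∀ j ∈ s, a j ≠ 0)
    (ha8 : ∑ j ∈ s, a j ^ 2 = 8) (had : ∑ j ∈ s, a j * d j = 0) :
    a i ^ 2 = 4 ∧ ∀ j ∈ s, j ≠ i → 2 * a j = -a i := by
  classical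
  obtain ⟨l, hl, hl4, hone⟩ := exists_four hs ha0 ha8
  have hlv : a l = 2 ∨ a l = -2 := by
    rcases sq_eq_sq_iff_eq_or_eq_neg.1 (show a l ^ 2 = 2 ^ 2 by rw [hl4]; norm_num) with h | h
    · exact Or.inl h
    · exact Or.inr h
  have hpm : ∀ j ∈ s, j ≠ l → a j = 1 ∨ a j = -1 := fun j hj hjl => sq_eq_one_iff.1 (hone j hj hjl)
  obtain rfl : l = i := by
    by_contra hne
    rw [← Finset.add_sum_erase _ _ hi,
      ← Finset.add_sum_erase _ _ (Finset.mem_erase.2 ⟨hne, hl⟩), hdi, hd l hl hne, mul_one] at had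
    have hcard : ((s.erase i).erase l).card = 3 := by
      rw [Finset.card_erase_of_mem (Finset.mem_erase.2 ⟨hne, hl⟩), Finset.card_erase_of_mem hi, hs]
    obtain ⟨x, y, z, hxy, hxz, hyz, heq⟩ := Finset.card_eq_three.1 hcard
    rw [heq, Finset.sum_insert (by simp [hxy, hxz]), Finset.sum_insert (by simp [hyz]),
      Finset.sum_singleton] at had
    have hm : ∀ w ∈ ({x, y, z} : Finset ι), (a w = 1 ∨ a w = -1) ∧ d w = 1 := fun w hw => by
      rw [← heq] at hw
      simp only [Finset.mem_erase] at hw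
      exact ⟨hpm w hw.2.2 hw.1, hd w hw.2.2 hw.2.1⟩
    obtain ⟨hx, hx'⟩ := hm x (by simp)
    obtain ⟨hy, hy'⟩ := hm y (by simp)
    obtain ⟨hz, hz'⟩ := hm z (by simp)
    have hiv := hpm i hi (Ne.symm hne)
    rw [hx', hy', hz', mul_one, mul_one, mul_one] at had
    omega
  refine ⟨hl4, fun j hj hji => ?_⟩
  rw [← Finset.add_sum_erase _ _ hi, hdi,
    Finset.sum_congr rfl fun j hj => by
      rw [hd j (Finset.mem_of_mem_erase hj) (Finset.ne_of_mem_erase hj), mul_one]] at had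
  have hcard : (s.erase l).card = 4 := by rw [Finset.card_erase_of_mem hi, hs]
  have h1 : ∀ j ∈ s.erase l, a j ^ 2 = 1 := fun j hj =>
    hone j (Finset.mem_of_mem_erase hj) (Finset.ne_of_mem_erase hj)
  have hsum : ∑ j ∈ s.erase l, a j = -(a l * 2) := by linarith
  have h0 : ∑ j ∈ s.erase l, (2 * a j + a l) ^ 2 = 0 := by
    rw [Finset.sum_congr rfl fun j hj => show (2 * a j + a l) ^ 2 = 8 + 4 * a l * a j by
      rw [add_sq, mul_pow, h1 j hj, hl4]; ring]
    rw [Finset.sum_add_distrib, ← Finset.mul_sum, Finset.sum_const, hcard,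
      hsum]
    norm_num
    nlinarith
  have h2 := (Finset.sum_eq_zero_iff_of_nonneg fun j _ => sq_nonneg _).1 h0 j
    (Finset.mem_erase.2 ⟨hji, hj⟩)
  have h3 := pow_eq_zero_iff two_ne_zero |>.1 h2
  omega

/-- Two orthogonal columns are not both orthogonal to the multiplicities. -/
theorem not_two_cols {s : Finset ι} (hs : s.card = 5) {d a b : ι → ℤ} (hd0 : ∀ i ∈ s, 0 < d i)
    (hd8 : ∑ i ∈ s, d i ^ 2 = 8) (ha0 : ∀ i ∈ s, a i ≠ 0) (ha8 : ∑ i ∈ s, a i ^ 2 = 8)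
    (had : ∑ i ∈ s, a i * d i = 0) (hb0 : ∀ i ∈ s, b i ≠ 0) (hb8 : ∑ i ∈ s, b i ^ 2 = 8)
    (hbd : ∑ i ∈ s, b i * d i = 0) (hab : ∑ i ∈ s, a i * b i = 0) : False := by
  classical
  obtain ⟨i, hi, hi4, hone⟩ := exists_four hs (fun j hj => (hd0 j hj).ne') hd8
  have hdi : d i = 2 := by have := hd0 i hi; nlinarith
  have hd : ∀ j ∈ s, j ≠ i → d j = 1 := fun j hj hji => by
    have := hd0 j hj; have := hone j hj hji; nlinarith
  obtain ⟨hai, ha⟩ := col_shape hs hi hdi hd ha0 ha8 had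
  obtain ⟨hbi, hb⟩ := col_shape hs hi hdi hd hb0 hb8 hbd
  have h4 : ∑ j ∈ s.erase i, 4 * (a j * b j) = 4 * (a i * b i) := by
    rw [Finset.sum_congr rfl fun j hj => show 4 * (a j * b j) = a i * b i by
        linear_combination (2 * b j) * ha j (Finset.mem_of_mem_erase hj) (Finset.ne_of_mem_erase hj)
          - a i * hb j (Finset.mem_of_mem_erase hj) (Finset.ne_of_mem_erase hj),
      Finset.sum_const, Finset.card_erase_of_mem hi, hs]
    norm_num
  rw [← Finset.mul_sum] at h4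
  rw [← Finset.add_sum_erase _ _ hi] at hab
  have h5 : a i * b i = 0 := by linarith
  rcases mul_eq_zero.1 h5 with h | h
  · exact ha0 i hi h
  · exact hb0 i hi h

/-- Seven and nine are not sums of five nonzero squares. -/
theorem five_squares {n : ℕ} {s : Finset ι} (hs : s.card = 5)
    {d : ι → ℕ} (hd : ∀ i ∈ s, 0 < d i) (hsum : ∑ i ∈ s, d i ^ 2 = n) : n ≠ 7 ∧ n ≠ 9 := by
  classical
  have hval : ∀ i ∈ s, d i ^ 2 = 1 ∨ d i ^ 2 = 4 ∨ d i ^ 2 = 9 ∨ 16 ≤ d i ^ 2 := by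
    intro i hi
    have h0 := hd i hi
    rcases Nat.lt_or_ge (d i) 4 with h4 | h4
    · interval_cases d i <;> simp
    · exact Or.inr (Or.inr (Or.inr (by nlinarith)))
  obtain ⟨a, t, hat, rfl, ht⟩ := Finset.card_eq_succ.1 hs
  obtain ⟨b, u, hbu, rfl, hu⟩ := Finset.card_eq_succ.1 ht
  obtain ⟨x, y, z, hxy, hxz, hyz, rfl⟩ := Finset.card_eq_three.1 hu
  rw [Finset.sum_insert hat, Finset.sum_insert hbu, Finset.sum_insert (by simp [hxy, hxz]),
    Finset.sum_insert (by simp [hyz]), Finset.sum_singleton] at hsum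
  have h1 := hval a (by simp)
  have h2 := hval b (by simp)
  have h3 := hval x (by simp)
  have h4 := hval y (by simp)
  have h6 := hval z (by simp)
  omega

end CfsgLib.Blocks.KFive
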