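import Mathlib.LinearAlgebra.FiniteDimensional.Lemmas
import Mathlib.LinearAlgebra.Eigenspace.Triangularizable
import Mathlib.LinearAlgebra.BilinearMap
import Mathlib.LinearAlgebra.Dual.Lemmas

/-!
# Low degrees of a graded algebra without annihilators

The pieces `V`, `U`, `X` are the degrees one, two and three of an algebra generated in degree one,
in which nothing of degree below three annihilates the degree one part on either side.
-/

namespace CfsgLib.Blocks.KFive

open Module

set_option linter.unusedVariables false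
set_option linter.unusedSectionVars false

variable {k : Type*} [Field k]

section Linear

variable {M P Q : Type*} [AddCommGroup M] [Module k M] [AddCommGroup P] [Module k P]
  [AddCommGroup Q] [Module k Q]

theorem sub_of_top {ι : Type*} {v : ι → M} (h : Submodule.span k (Set.range v) = ⊤)
    {S : Submodule k M} (hS : ∀ i, v i ∈ S) (x : M) : x ∈ S :=
  (Submodule.span_le.2 (Set.range_subset_iff.2 hS)) (h ▸ Submodule.mem_top)

theorem finrank_le_of_all_mem [FiniteDimensional k M] {S : Submodule k M} (h : ∀ x, x ∈ S) :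
    finrank k M ≤ finrank k S := by
  rw [show S = ⊤ from eq_top_iff.2 fun x _ => h x, finrank_top]

theorem finrank_span_pair_le (a b : M) : finrank k (Submodule.span k ({a, b} : Set M)) ≤ 2 := by
  classical
  have h : ({a, b} : Set M) = (({a, b} : Finset M) : Set M) := by simp
  rw [h]
  exact (finrank_span_finset_le_card _).trans Finset.card_le_two

theorem finrank_span_three_le (a b c : M) :
    finrank k (Submodule.span k ({a, b, c} : Set M)) ≤ 3 := by
  classical
  have h : ({a, b, c} : Set M) = (({a, b, c} : Finset M) : Set M) := by simp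
  rw [h]
  exact (finrank_span_finset_le_card _).trans Finset.card_le_three

/-- Rank at most one. -/
def LeOne (f : P →ₗ[k] Q) : Prop := ∃ q : Q, ∀ x, f x ∈ Submodule.span k {q}

theorem leOne_of_finrank [FiniteDimensional k Q] {f : P →ₗ[k] Q}
    (h : finrank k (LinearMap.range f) ≤ 1) : LeOne f := by
  obtain ⟨q, hq⟩ := (finrank_le_one_iff.1 h)
  refine ⟨(q : Q), fun x => ?_⟩
  obtain ⟨c, hc⟩ := hq ⟨f x, LinearMap.mem_range_self f x⟩
  exact Submodule.mem_span_singleton.2 ⟨c, by simpa using congrArg Subtype.val hc⟩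

theorem finrank_range_of_leOne [FiniteDimensional k Q] {f : P →ₗ[k] Q} (h : LeOne f) :
    finrank k (LinearMap.range f) ≤ 1 := by
  obtain ⟨q, hq⟩ := h
  refine (Submodule.finrank_mono (t := Submodule.span k {q}) ?_).trans ?_
  · rintro _ ⟨x, rfl⟩
    exact hq x
  · exact (finrank_span_le_card _).trans (by simp)

theorem leOne_of_ker [FiniteDimensional k P] [FiniteDimensional k Q] {f : P →ₗ[k] Q}
    {S : Submodule k P} (hS : ∀ x ∈ S, f x = 0) (h : finrank k P ≤ finrank k S + 1) : LeOne f := by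
  refine leOne_of_finrank ?_
  have h1 := LinearMap.finrank_range_add_finrank_ker f
  have h2 : finrank k S ≤ finrank k (LinearMap.ker f) :=
    Submodule.finrank_mono fun x hx => LinearMap.mem_ker.2 (hS x hx)
  omega

/-- A space of maps of rank at most one without a common zero has a common line of values. -/
theorem rank_one_common [FiniteDimensional k P] [FiniteDimensional k Q]
    (L : M →ₗ[k] P →ₗ[k] Q) (h1 : ∀ a, LeOne (L a))
    (h0 : ∀ x, (∀ a, L a x = 0) → x = 0) (hP : 2 ≤ finrank k P) :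
    ∃ q : Q, ∀ a x, L a x ∈ Submodule.span k {q} := by
  classical
  by_cases hz : ∀ a x, L a x = 0
  · exact ⟨0, fun a x => by rw [hz a x]; exact Submodule.zero_mem _⟩
  push Not at hz
  obtain ⟨a₀, x₀, hx₀⟩ := hz
  refine ⟨L a₀ x₀, ?_⟩
  by_contra hc
  push Not at hc
  obtain ⟨a₁, x₁, hx₁⟩ := hc
  set u := L a₀ x₀ with hu
  set w := L a₁ x₁ with hw
  have hw0 : w ≠ 0 := fun h => hx₁ (by rw [h]; exact Submodule.zero_mem _)
  have hind : ∀ s t : k, s • u + t • w = 0 → s = 0 ∧ t = 0 := by
    intro s t h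
    by_cases ht : t = 0
    · refine ⟨?_, ht⟩
      rw [ht, zero_smul, add_zero] at h
      exact (smul_eq_zero.1 h).resolve_right hx₀
    · exfalso
      refine hx₁ (Submodule.mem_span_singleton.2 ⟨-(t⁻¹ * s), ?_⟩)
      have : w = t⁻¹ • (-(s • u)) := by
        rw [← eq_neg_of_add_eq_zero_right h, smul_smul, inv_mul_cancel₀ ht, one_smul]
      rw [this, smul_neg, smul_smul, neg_smul]
  have hline : ∀ (a : M) (x₂ : P) (x : P), L a x₂ ≠ 0 → ∃ c : k, L a x = c • L a x₂ := by
    intro a x₂ x hne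
    obtain ⟨q, hq⟩ := h1 a
    obtain ⟨s, hs⟩ := Submodule.mem_span_singleton.1 (hq x₂)
    obtain ⟨t, ht⟩ := Submodule.mem_span_singleton.1 (hq x)
    have hs0 : s ≠ 0 := fun h => hne (by rw [← hs, h, zero_smul])
    exact ⟨t * s⁻¹, by rw [← hs, ← ht, smul_smul, mul_assoc, inv_mul_cancel₀ hs0, mul_one]⟩
  have hker : ∀ x, L a₀ x = 0 ↔ L a₁ x = 0 := by
    intro x
    have hsum : ∀ y z : P, ∀ f g f' g' : k, L a₀ y = f • u → L a₁ y = g • w →
        L a₀ z = f' • u → L a₁ z = g' • w → f * g' = f' * g := by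
      intro y z f g f' g' e1 e2 e3 e4
      obtain ⟨q, hq⟩ := h1 (a₀ + a₁)
      obtain ⟨s, hs⟩ := Submodule.mem_span_singleton.1 (hq y)
      obtain ⟨t, ht⟩ := Submodule.mem_span_singleton.1 (hq z)
      rw [map_add, LinearMap.add_apply, e1, e2] at hs
      rw [map_add, LinearMap.add_apply, e3, e4] at ht
      have h : (t * f - s * f') • u + (t * g - s * g') • w = 0 := by
        have : t • (s • q) = s • (t • q) := smul_comm _ _ _
        rw [hs, ht, smul_add, smul_add, smul_smul, smul_smul, smul_smul, smul_smul] at this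
        rw [sub_smul, sub_smul]
        linear_combination (norm := module) this
      obtain ⟨e, e'⟩ := hind _ _ h
      by_cases hs0 : s = 0
      · rw [hs0, zero_smul] at hs
        obtain ⟨rfl, rfl⟩ := hind f g hs.symm
        ring
      · refine mul_left_cancel₀ hs0 ?_
        linear_combination g * e - f * e'
    obtain ⟨f0, hf0⟩ := hline a₀ x₀ x hx₀
    obtain ⟨g0, hg0⟩ := hline a₁ x₁ x hw0
    obtain ⟨g1, hg1⟩ := hline a₁ x₁ x₀ hw0
    obtain ⟨f1, hf1⟩ := hline a₀ x₀ x₁ hx₀
    have e1 : (1 : k) * g0 = f0 * g1 := hsum x₀ x 1 g1 f0 g0 (by rw [one_smul]) hg1 hf0 hg0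
    have e2 : f1 * g0 = f0 * 1 := hsum x₁ x f1 1 f0 g0 hf1 (by rw [one_smul]) hf0 hg0
    constructor
    · intro h
      rw [hf0, smul_eq_zero] at h
      rw [hg0, ← one_mul g0, e1, h.resolve_right hx₀, zero_mul, zero_smul]
    · intro h
      rw [hg0, smul_eq_zero] at h
      rw [hf0, ← mul_one f0, ← e2, h.resolve_right hw0, mul_zero, zero_smul]
  have hk0 : 0 < finrank k (LinearMap.ker (L a₀)) := by
    have h2 := LinearMap.finrank_range_add_finrank_ker (L a₀)
    have h3 := finrank_range_of_leOne (h1 a₀)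
    omega
  have hne : LinearMap.ker (L a₀) ≠ ⊥ := fun h => by rw [h, finrank_bot] at hk0; omega
  obtain ⟨x, hx, hxne⟩ := Submodule.exists_mem_ne_zero_of_ne_bot hne
  refine hxne (h0 x fun a => ?_)
  by_contra hax
  -- the image of `a` avoids one of the two lines
  obtain ⟨q, hq⟩ := h1 a
  have hx0' : L a₀ x = 0 := hx
  have hx1' : L a₁ x = 0 := (hker x).1 hx0'
  obtain ⟨q₀, hq₀⟩ := h1 (a + a₀)
  obtain ⟨q₁, hq₁⟩ := h1 (a + a₁)
  obtain ⟨s₀, hs₀⟩ := Submodule.mem_span_singleton.1 (hq₀ x)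
  obtain ⟨t₀, ht₀⟩ := Submodule.mem_span_singleton.1 (hq₀ x₀)
  obtain ⟨s₁, hs₁⟩ := Submodule.mem_span_singleton.1 (hq₁ x)
  obtain ⟨t₁, ht₁⟩ := Submodule.mem_span_singleton.1 (hq₁ x₁)
  rw [map_add, LinearMap.add_apply, hx0', add_zero] at hs₀
  rw [map_add, LinearMap.add_apply, hx1', add_zero] at hs₁
  rw [map_add, LinearMap.add_apply] at ht₀ ht₁
  have hs₀0 : s₀ ≠ 0 := fun h => hax (by rw [← hs₀, h, zero_smul])
  have hs₁0 : s₁ ≠ 0 := fun h => hax (by rw [← hs₁, h, zero_smul])
  set z := L a x with hz'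
  have hu' : u ∈ Submodule.span k {z} := by
    obtain ⟨c, hc⟩ := hline a x x₀ hax
    refine Submodule.mem_span_singleton.2 ⟨t₀ * s₀⁻¹ - c, ?_⟩
    rw [sub_smul, ← smul_smul, ← hc, show s₀⁻¹ • z = q₀ by
      rw [← hs₀, smul_smul, inv_mul_cancel₀ hs₀0, one_smul], ht₀]
    abel
  have hw' : w ∈ Submodule.span k {z} := by
    obtain ⟨c, hc⟩ := hline a x x₁ hax
    refine Submodule.mem_span_singleton.2 ⟨t₁ * s₁⁻¹ - c, ?_⟩
    rw [sub_smul, ← smul_smul, ← hc, show s₁⁻¹ • z = q₁ by
      rw [← hs₁, smul_smul, inv_mul_cancel₀ hs₁0, one_smul], ht₁]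
    abel
  obtain ⟨α, hα⟩ := Submodule.mem_span_singleton.1 hu'
  obtain ⟨β, hβ⟩ := Submodule.mem_span_singleton.1 hw'
  have h := hind β (-α) (by rw [← hα, ← hβ, smul_smul, smul_smul, ← add_smul]; ring_nf; simp)
  exact hx₀ (by rw [← hα, show α = 0 by simpa using h.2, zero_smul])

/-- The kernels of two maps of rank at most one on a space of dimension three meet. -/
theorem exists_common_zero [FiniteDimensional k P] [FiniteDimensional k Q] {f g : P →ₗ[k] Q}
    (hf : LeOne f) (hg : LeOne g) (hP : 3 ≤ finrank k P) :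
    ∃ x, x ≠ 0 ∧ f x = 0 ∧ g x = 0 := by
  have h1 := LinearMap.finrank_range_add_finrank_ker f
  have h2 := LinearMap.finrank_range_add_finrank_ker g
  have h3 := finrank_range_of_leOne hf
  have h4 := finrank_range_of_leOne hg
  have h5 := Submodule.finrank_sup_add_finrank_inf_eq (LinearMap.ker f) (LinearMap.ker g)
  have h6 := Submodule.finrank_le (LinearMap.ker f ⊔ LinearMap.ker g)
  have hne : LinearMap.ker f ⊓ LinearMap.ker g ≠ ⊥ := fun h => by
    rw [h, finrank_bot] at h5; omega
  obtain ⟨x, hx, hx0⟩ := Submodule.exists_mem_ne_zero_of_ne_bot hne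
  exact ⟨x, hx0, hx.1, hx.2⟩

/-- A map to a space of smaller dimension has a nonzero zero. -/
theorem exists_zero_of_lt [FiniteDimensional k P] [FiniteDimensional k Q] (f : P →ₗ[k] Q)
    (h : finrank k Q < finrank k P) : ∃ x, x ≠ 0 ∧ f x = 0 := by
  have h1 := LinearMap.finrank_range_add_finrank_ker f
  have h2 := Submodule.finrank_le (LinearMap.range f)
  have hne : LinearMap.ker f ≠ ⊥ := fun h' => by rw [h', finrank_bot] at h1; omega
  obtain ⟨x, hx, hx0⟩ := Submodule.exists_mem_ne_zero_of_ne_bot hne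
  exact ⟨x, hx0, hx⟩

end Linear

section Tower

variable (k) (V U X : Type*) [AddCommGroup V] [Module k V] [AddCommGroup U] [Module k U]
  [AddCommGroup X] [Module k X]

/-- The degrees one, two and three. -/
structure Tower where
  m : V →ₗ[k] V →ₗ[k] U
  l : V →ₗ[k] U →ₗ[k] X
  r : U →ₗ[k] V →ₗ[k] X
  assoc : ∀ a b c, r (m a b) c = l a (m b c)
  spanU : Submodule.span k (Set.range fun q : V × V => m q.1 q.2) = ⊤
  spanX : Submodule.span k (Set.range fun q : V × U => l q.1 q.2) = ⊤
  mf : ∀ a, (∀ b, m a b = 0) → a = 0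
  mf' : ∀ b, (∀ a, m a b = 0) → b = 0
  lf : ∀ u, (∀ a, l a u = 0) → u = 0
  rf : ∀ u, (∀ a, r u a = 0) → u = 0

variable {k V U X}

namespace Tower

variable (T : Tower k V U X)

theorem memU {S : Submodule k U} (h : ∀ a b, T.m a b ∈ S) (u : U) : u ∈ S :=
  sub_of_top T.spanU (fun q : V × V => h q.1 q.2) u

theorem memX {S : Submodule k X} (h : ∀ a u, T.l a u ∈ S) (x : X) : x ∈ S :=
  sub_of_top T.spanX (fun q : V × U => h q.1 q.2) x

theorem extU {Q : Type*} [AddCommGroup Q] [Module k Q] {f g : U →ₗ[k] Q} (h : ∀ a b, f (T.m a b) = g (T.m a b)) (u : U) : f u = g u :=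
  T.memU (S := LinearMap.eqLocus f g) h u

theorem memX3 {S : Submodule k X} (h : ∀ a b c, T.l a (T.m b c) ∈ S) (x : X) : x ∈ S :=
  T.memX (fun a u => T.memU (S := S.comap (T.l a)) (h a) u) x

/-- No nonzero element of degree one kills degree two from the left. -/
theorem l_ne {a : V} (h : ∀ u, T.l a u = 0) : a = 0 :=
  T.mf a fun b => T.rf _ fun c => by rw [T.assoc, h]

theorem r_ne {a : V} (h : ∀ u, T.r u a = 0) : a = 0 :=
  T.mf' a fun b => T.lf _ fun c => by rw [← T.assoc, h]

theorem zero_of_mul {a b : V} (h : T.m a b = 0) (c : V) : T.l a (T.m b c) = 0 := by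
  rw [← T.assoc, h, map_zero, LinearMap.zero_apply]

theorem zero_of_mul' {a b : V} (h : T.m a b = 0) (c : V) : T.r (T.m c a) b = 0 := by
  rw [T.assoc, h, map_zero]

/-- The opposite. -/
def opp : Tower k V U X where
  m := T.m.flip
  l := T.r.flip
  r := T.l.flip
  assoc a b c := (T.assoc c b a).symm
  spanU := by
    rw [eq_top_iff]
    exact fun u _ => T.memU (S := Submodule.span k (Set.range fun q : V × V => T.m.flip q.1 q.2))
      (fun a b => Submodule.subset_span ⟨(b, a), rfl⟩) u
  spanX := by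
    rw [eq_top_iff]
    refine fun x _ => T.memX3 (fun a b c => ?_) x
    rw [← T.assoc]
    exact Submodule.subset_span ⟨(c, T.m a b), rfl⟩
  mf := T.mf'
  mf' := T.mf
  lf := T.rf
  rf := T.lf

@[simp] theorem opp_m (a b : V) : T.opp.m a b = T.m b a := rfl
@[simp] theorem opp_l (a : V) (u : U) : T.opp.l a u = T.r u a := rfl
@[simp] theorem opp_r (a : V) (u : U) : T.opp.r u a = T.l a u := rfl

/-- Degree two consists of commutators. -/
def CommU : Prop := Submodule.span k (Set.range fun q : V × V => T.m q.1 q.2 - T.m q.2 q.1) = ⊤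

/-- Degree three consists of commutators. -/
def CommX : Prop := Submodule.span k (Set.range fun q : V × U => T.l q.1 q.2 - T.r q.2 q.1) = ⊤

theorem CommU.opp {T : Tower k V U X} (h : T.CommU) : T.opp.CommU :=
  eq_top_iff.2 fun u _ => sub_of_top h
    (S := Submodule.span k (Set.range fun q : V × V => T.opp.m q.1 q.2 - T.opp.m q.2 q.1))
    (fun q : V × V => Submodule.subset_span ⟨(q.2, q.1), rfl⟩) u

theorem CommX.opp {T : Tower k V U X} (h : T.CommX) : T.opp.CommX := by
  refine eq_top_iff.2 fun x _ => sub_of_top h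
    (S := Submodule.span k (Set.range fun q : V × U => T.opp.l q.1 q.2 - T.opp.r q.2 q.1))
    (fun q : V × U => ?_) x
  have hm : T.opp.l q.1 q.2 - T.opp.r q.2 q.1 ∈
      Submodule.span k (Set.range fun q : V × U => T.opp.l q.1 q.2 - T.opp.r q.2 q.1) :=
    Submodule.subset_span ⟨q, rfl⟩
  have := Submodule.neg_mem _ hm
  simpa using this

/-- Commutators of generators span. -/
theorem commU_of_gen (h : T.CommU) {S : Submodule k U} {g : Set V}
    (hg : Submodule.span k g = ⊤) (hS : ∀ a ∈ g, ∀ b ∈ g, T.m a b - T.m b a ∈ S) (u : U) :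
    u ∈ S := by
  let B : V →ₗ[k] V →ₗ[k] U := T.m - T.m.flip
  have hB : ∀ a b, B a b = T.m a b - T.m b a := fun a b => rfl
  have h1 : ∀ a ∈ g, ∀ b, B a b ∈ S := fun a ha b =>
    (Submodule.span_le.2 (fun c hc => show c ∈ S.comap (B a) from hS a ha c hc))
      (hg ▸ Submodule.mem_top)
  refine sub_of_top h (fun q : V × V => ?_) u
  exact (Submodule.span_le.2 (fun c hc => show c ∈ S.comap (B.flip q.2) from h1 c hc q.2))
      (hg ▸ Submodule.mem_top : q.1 ∈ Submodule.span k g)

end Tower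

end Tower

section Next

variable {V U X : Type*} [AddCommGroup V] [Module k V] [AddCommGroup U] [Module k U]
  [AddCommGroup X] [Module k X] (Y : Type*) [AddCommGroup Y] [Module k Y]

/-- The degree four. -/
structure Next (T : Tower k V U X) where
  l : V →ₗ[k] X →ₗ[k] Y
  r : X →ₗ[k] V →ₗ[k] Y
  mm : U →ₗ[k] U →ₗ[k] Y
  assoc : ∀ a u c, r (T.l a u) c = l a (T.r u c)
  assocl : ∀ a b u, l a (T.l b u) = mm (T.m a b) u
  assocr : ∀ u a b, r (T.r u a) b = mm u (T.m a b)
  span : Submodule.span k (Set.range fun q : V × X => l q.1 q.2) = ⊤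
  lf : ∀ x, (∀ a, l a x = 0) → x = 0
  rf : ∀ x, (∀ a, r x a = 0) → x = 0

variable {Y} {T : Tower k V U X}

namespace Next

variable (N : Next Y T)

theorem mem {S : Submodule k Y} (h : ∀ a x, N.l a x ∈ S) (y : Y) : y ∈ S :=
  sub_of_top N.span (fun q : V × X => h q.1 q.2) y

theorem mem3 {S : Submodule k Y} (h : ∀ a b u, N.l a (T.l b u) ∈ S) (y : Y) : y ∈ S :=
  N.mem (fun a x => T.memX (S := S.comap (N.l a)) (h a) x) y

theorem mem_r {S : Submodule k Y} (h : ∀ x a, N.r x a ∈ S) (y : Y) : y ∈ S :=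
  N.mem (fun a x => T.memX3 (S := S.comap (N.l a)) (fun p q c => show _ ∈ S by
    rw [← T.assoc, ← N.assoc]; exact h _ _) x) y

theorem mm_left (u : U) (a b : V) : N.l a (T.l b u) = N.mm (T.m a b) u := N.assocl a b u

end Next

end Next

end CfsgLib.Blocks.KFive
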