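import Mathlib.LinearAlgebra.Matrix.ToLinearEquiv
import Mathlib.LinearAlgebra.Eigenspace.Triangularizable
import Mathlib.LinearAlgebra.Matrix.ToLin
import Mathlib.RingTheory.Polynomial.Basic
import Mathlib.FieldTheory.IsAlgClosed.Basic
import Mathlib.Tactic.Module
import Mathlib.Tactic.LinearCombination

/-!
# Zeros of a determinant, and pencils of two by two matrices without eigenvalues
-/

namespace CfsgLib.Blocks.KFive

open Module Polynomial

variable {k : Type*} [Field k] [IsAlgClosed k]

/-- A polynomial in two variables with a zero has infinitely many. -/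
theorem zeros_infinite (P : Polynomial (Polynomial k))
    (h0 : (P.map (evalRingHom (0 : k))).eval 0 = 0) :
    {q : k × k | (P.map (evalRingHom q.1)).eval q.2 = 0}.Infinite := by
  classical
  rcases Nat.eq_zero_or_pos P.natDegree with hd | hd
  · obtain ⟨c, rfl⟩ := natDegree_eq_zero.1 hd
    refine Set.infinite_of_injective_forall_mem (f := fun y : k => ((0 : k), y)) ?_ ?_
    · exact fun y z h => congrArg Prod.snd h
    · intro y
      simpa using h0
  · have hlead : P.leadingCoeff ≠ 0 := leadingCoeff_ne_zero.2 fun h => by simp [h] at hd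
    have hfin : {x : k | P.leadingCoeff.IsRoot x}.Finite := finite_setOf_isRoot hlead
    have hsub : {x : k | ¬ P.leadingCoeff.IsRoot x} ⊆
        Prod.fst '' {q : k × k | (P.map (evalRingHom q.1)).eval q.2 = 0} := by
      intro x hx
      have hdeg : (P.map (evalRingHom x)).natDegree = P.natDegree :=
        natDegree_map_of_leadingCoeff_ne_zero _ hx
      obtain ⟨y, hy⟩ := IsAlgClosed.exists_root (P.map (evalRingHom x)) fun h => by
        have := natDegree_eq_zero_iff_degree_le_zero.2 h.le
        omega
      exact ⟨(x, y), hy, rfl⟩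
    intro hf
    exact Set.infinite_univ (α := k) (by
      have := hfin.union ((hf.image Prod.fst).subset hsub)
      refine this.subset fun x _ => ?_
      by_cases h : P.leadingCoeff.IsRoot x
      · exact Or.inl h
      · exact Or.inr h)

variable {V U : Type*} [AddCommGroup V] [Module k V] [FiniteDimensional k V] [AddCommGroup U]
  [Module k U] [FiniteDimensional k U]

/-- The singular members of a linear family of square maps through a singular one are many. -/
theorem singular_infinite (L : V →ₗ[k] V →ₗ[k] U) (hd : finrank k V = finrank k U) {a : V}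
    (ha : ∃ b, b ≠ 0 ∧ L a b = 0) (w₁ w₂ : V) :
    {q : k × k | ∃ b, b ≠ 0 ∧ L (a + q.1 • w₁ + q.2 • w₂) b = 0}.Infinite := by
  classical
  let bV := Module.finBasis k V
  let bU := (Module.finBasis k U).reindex (finCongr hd.symm)
  set M : V → Matrix (Fin (finrank k V)) (Fin (finrank k V)) k :=
    fun v => LinearMap.toMatrix bV bU (L v) with hM
  have key : ∀ v, (∃ b, b ≠ 0 ∧ L v b = 0) ↔ (M v).det = 0 := by
    intro v
    rw [← Matrix.exists_mulVec_eq_zero_iff]
    constructor
    · rintro ⟨b, hb, hb0⟩
      refine ⟨bV.repr b, fun h => hb ?_, ?_⟩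
      · exact bV.repr.injective (by rw [map_zero]; exact Finsupp.ext fun i => congrFun h i)
      · rw [hM, LinearMap.toMatrix_mulVec_repr, hb0, map_zero]; rfl
    · rintro ⟨c, hc, hc0⟩
      refine ⟨bV.equivFun.symm c, fun h => hc ?_, ?_⟩
      · exact bV.equivFun.symm.injective (by rw [h, map_zero])
      · have hr : ⇑(bV.repr (bV.equivFun.symm c)) = c := bV.equivFun.apply_symm_apply c
        refine bU.repr.injective ?_
        rw [map_zero]
        refine Finsupp.ext fun i => ?_
        have := congrFun (LinearMap.toMatrix_mulVec_repr bV bU (L v) (bV.equivFun.symm c)) i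
        rw [hr] at this
        rw [← this]
        exact congrFun hc0 i
  set P : Matrix (Fin (finrank k V)) (Fin (finrank k V)) (Polynomial (Polynomial k)) :=
    Matrix.of fun i j => C (C (M a i j) + Polynomial.X * C (M w₁ i j)) +
      Polynomial.X * C (C (M w₂ i j)) with hP
  have hev : ∀ x y : k, (P.det.map (evalRingHom x)).eval y = (M (a + x • w₁ + y • w₂)).det := by
    intro x y
    have : (P.det.map (evalRingHom x)).eval y =
        ((evalRingHom y).comp (mapRingHom (evalRingHom x))) P.det := rfl
    rw [this, RingHom.map_det]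
    congr 1
    ext i j
    simp [hP, hM]
    ring
  have h0 : (P.det.map (evalRingHom (0 : k))).eval 0 = 0 := by
    rw [hev, zero_smul, zero_smul, add_zero, add_zero, ← key]
    exact ha
  refine (zeros_infinite P.det h0).mono fun q hq => ?_
  exact (key _).2 ((hev q.1 q.2).symm.trans hq)

/-- An endomorphism without nonzero eigenvalue has a nonzero zero. -/
theorem exists_zero_of_no_eigen [Nontrivial V] (f : V →ₗ[k] V)
    (h : ∀ (c : k) (v : V), v ≠ 0 → f v = c • v → c = 0) : ∃ v, v ≠ 0 ∧ f v = 0 := by
  obtain ⟨c, hc⟩ := Module.End.exists_eigenvalue f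
  obtain ⟨v, hv⟩ := hc.exists_hasEigenvector
  have e := hv.apply_eq_smul
  refine ⟨v, hv.2, ?_⟩
  rw [e, h c v hv.2 e, zero_smul]

/-- Two endomorphisms of a space of dimension at most two all of whose combinations have no
nonzero eigenvalue have a common zero. -/
theorem pencil_common_zero [Nontrivial V] (hd : finrank k V ≤ 2) (f g : V →ₗ[k] V)
    (h : ∀ (s t c : k) (v : V), v ≠ 0 → (s • f + t • g) v = c • v → c = 0) :
    ∃ v, v ≠ 0 ∧ f v = 0 ∧ g v = 0 := by
  classical
  have hf : ∀ (c : k) (v : V), v ≠ 0 → f v = c • v → c = 0 := fun c v hv e =>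
    h 1 0 c v hv (by simpa using e)
  have hg : ∀ (c : k) (v : V), v ≠ 0 → g v = c • v → c = 0 := fun c v hv e =>
    h 0 1 c v hv (by simpa using e)
  by_cases hf0 : f = 0
  · obtain ⟨v, hv, hv0⟩ := exists_zero_of_no_eigen g hg
    exact ⟨v, hv, by rw [hf0]; rfl, hv0⟩
  obtain ⟨v, hv, hv0⟩ := exists_zero_of_no_eigen f hf
  refine ⟨v, hv, hv0, ?_⟩
  obtain ⟨w, hw⟩ : ∃ w, f w ≠ 0 := by
    by_contra hc
    push Not at hc
    exact hf0 (LinearMap.ext hc)
  have hli : LinearIndependent k ![v, w] := by
    refine LinearIndependent.pair_iff.2 fun s t hst => ?_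
    have e := congrArg f hst
    rw [map_add, map_smul, map_smul, hv0, smul_zero, zero_add, map_zero] at e
    have ht : t = 0 := (smul_eq_zero.1 e).resolve_right hw
    subst ht
    rw [zero_smul, add_zero] at hst
    exact ⟨(smul_eq_zero.1 hst).resolve_right hv, rfl⟩
  have hd2 : finrank k V = 2 := by
    have := hli.fintype_card_le_finrank
    rw [Fintype.card_fin] at this
    omega
  have hspan : ∀ x, ∃ a b : k, a • v + b • w = x := by
    intro x
    have htop := hli.span_eq_top_of_card_eq_finrank (by rw [Fintype.card_fin, hd2])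
    rw [Matrix.range_cons_cons_empty] at htop
    exact Submodule.mem_span_pair.1 (htop ▸ Submodule.mem_top)
  have huniq : ∀ a b : k, a • v + b • w = 0 → a = 0 ∧ b = 0 := LinearIndependent.pair_iff.1 hli
  obtain ⟨α, β, hfw⟩ := hspan (f w)
  obtain ⟨a, c, hgv⟩ := hspan (g v)
  obtain ⟨b, d, hgw⟩ := hspan (g w)
  have hβ : β = 0 := by
    by_contra hβ
    refine hβ (hf β (w + (α / β) • v) (fun he => ?_) ?_)
    · have e : (α / β) • v + (1 : k) • w = 0 := by rw [one_smul, add_comm]; exact he
      exact one_ne_zero (huniq _ _ e).2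
    · rw [map_add, map_smul, hv0, smul_zero, add_zero, ← hfw, smul_add, smul_smul,
        mul_div_cancel₀ _ hβ]
      abel
  subst hβ
  rw [zero_smul, add_zero] at hfw
  have hα : α ≠ 0 := fun e => hw (by rw [← hfw, e, zero_smul])
  have hdet : ∀ s : k, c ≠ 0 → (b + s * α) * c = a * d := by
    intro s hc
    obtain ⟨x, hx, hx0⟩ := exists_zero_of_no_eigen (s • f + (1 : k) • g)
      (fun e z hz he => h s 1 e z hz he)
    obtain ⟨ξ, η, rfl⟩ := hspan x
    simp only [LinearMap.add_apply, LinearMap.smul_apply, map_add, map_smul, hv0, one_smul,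
      smul_zero, zero_add, ← hfw, ← hgv, ← hgw, smul_add, smul_smul] at hx0
    obtain ⟨e1, e2⟩ := huniq (ξ * a + η * (b + s * α)) (ξ * c + η * d) (by
      linear_combination (norm := module) hx0)
    have hη : η ≠ 0 := by
      intro hη
      rw [hη, zero_mul, add_zero] at e2
      rcases mul_eq_zero.1 e2 with hξ | hξ
      · exact hx (by rw [hξ, hη, zero_smul, zero_smul, add_zero])
      · exact hc hξ
    refine mul_left_cancel₀ hη ?_
    linear_combination c * e1 - a * e2
  have hc0 : c = 0 := by
    by_contra hc
    have e := (hdet 1 hc).trans (hdet 0 hc).symm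
    have : α * c = 0 := by linear_combination e
    exact hc ((mul_eq_zero.1 this).resolve_left hα)
  subst hc0
  rw [zero_smul, add_zero] at hgv
  rw [← hgv, hg a v hv hgv.symm, zero_smul]

end CfsgLib.Blocks.KFive
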