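import Cfsg.Agent.Lib.Blocks.KFive.Base
import Cfsg.Agent.Lib.Blocks.KFive.Singular

/-!
# Elements of degree one with one dimensional products in degree three
-/

namespace CfsgLib.Blocks.KFive

open Module

set_option linter.unusedVariables false
set_option linter.unusedSectionVars false

variable {k : Type*} [Field k] {V U X : Type*} [AddCommGroup V] [Module k V] [AddCommGroup U]
  [Module k U] [AddCommGroup X] [Module k X] (T : Tower k V U X)

namespace Tower

/-- Some nonzero element of degree one is killed by `a`. -/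
def Sing (a : V) : Prop := ∃ b, b ≠ 0 ∧ T.m a b = 0

/-- Singular with one dimensional products in degree three. -/
def Good (a : V) : Prop := T.Sing a ∧ LeOne (T.l a)

/-- No element has one dimensional products on both sides. -/
def NoConfig : Prop := ∀ b, b ≠ 0 → LeOne (T.m b) → LeOne (T.m.flip b) → False

theorem NoConfig.opp {T : Tower k V U X} (h : T.NoConfig) : T.opp.NoConfig :=
  fun b hb h1 h2 => h b hb h2 h1

end Tower

theorem pair_of_not_smul {a b : V} (ha : a ≠ 0) (hb : ∀ c : k, b ≠ c • a) :
    LinearIndependent k ![a, b] := by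
  refine LinearIndependent.pair_iff.2 fun s t hst => ?_
  by_cases ht : t = 0
  · subst ht
    rw [zero_smul, add_zero] at hst
    exact ⟨(smul_eq_zero.1 hst).resolve_right ha, rfl⟩
  · exfalso
    refine hb (-(t⁻¹ * s)) ?_
    have := congrArg (t⁻¹ • ·) (eq_neg_of_add_eq_zero_right hst)
    simp only [smul_smul, smul_neg, inv_mul_cancel₀ ht, one_smul] at this
    rw [this, neg_smul]

variable [FiniteDimensional k V] [FiniteDimensional k U] [FiniteDimensional k X]
variable {T}

/-- A zero of `a` with two dimensional products makes `a` good. -/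
theorem good_of_kernel (hU : finrank k U = 3) {a b : V} (hb : b ≠ 0) (hab : T.m a b = 0)
    (h : ¬ LeOne (T.m b)) : T.Good a := by
  refine ⟨⟨b, hb, hab⟩, leOne_of_ker (S := LinearMap.range (T.m b)) ?_ ?_⟩
  · rintro _ ⟨c, rfl⟩
    exact T.zero_of_mul hab c
  · have : ¬ finrank k (LinearMap.range (T.m b)) ≤ 1 := fun h' => h (leOne_of_finrank h')
    omega

/-- Two independent zeros on one side give a one dimensional range on the other. -/
theorem leOne_flip_of_two (hV : finrank k V = 3) {h a a' : V} (hi : LinearIndependent k ![a, a'])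
    (e : T.m a h = 0) (e' : T.m a' h = 0) : LeOne (T.m.flip h) := by
  refine leOne_of_ker (S := Submodule.span k (Set.range ![a, a'])) ?_ ?_
  · intro x hx
    refine (Submodule.span_le.2 ?_ : _ ≤ LinearMap.ker (T.m.flip h)) hx
    rintro _ ⟨i, rfl⟩
    fin_cases i
    exacts [e, e']
  · rw [finrank_span_eq_card hi, Fintype.card_fin, hV]

/-- Two independent elements with one dimensional products are good. -/
theorem good_of_pair (hV : finrank k V = 3) (hU : finrank k U = 3) (hn : T.NoConfig) {b b' : V}
    (hi : LinearIndependent k ![b, b']) (h1 : LeOne (T.m b)) (h2 : LeOne (T.m b')) :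
    T.Good b := by
  obtain ⟨h, hh, e, e'⟩ := exists_common_zero h1 h2 hV.ge
  exact good_of_kernel hU hh e fun h' => hn h hh h' (leOne_flip_of_two hV hi e e')

/-- The zeros of a singular element that is not good. -/
theorem kernel_of_bad (hU : finrank k U = 3) {a : V} (ha : T.Sing a) (hg : ¬ T.Good a) :
    ∃ b, b ≠ 0 ∧ T.m a b = 0 ∧ LeOne (T.m b) := by
  obtain ⟨b, hb, hab⟩ := ha
  exact ⟨b, hb, hab, by_contra fun h => hg (good_of_kernel hU hb hab h)⟩

/-- Three good elements forming a basis. -/
def ThreeGood (T : Tower k V U X) : Prop :=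
  ∃ g : Fin 3 → V, LinearIndependent k g ∧ ∀ i, T.Good (g i)

/-- Among three singular elements, pairwise independent, one is good, unless good elements form a
basis. -/
theorem three_bad (hV : finrank k V = 3) (hU : finrank k U = 3) (hn : T.NoConfig) (hc : T.CommU)
    {a : Fin 3 → V} (ha : ∀ i, T.Sing (a i)) (hb : ∀ i, ¬ T.Good (a i))
    (hi : ∀ i j, i ≠ j → LinearIndependent k ![a i, a j]) : ThreeGood T := by
  classical
  choose b hb0 hab hb1 using fun i => kernel_of_bad hU (ha i) (hb i)
  have hbi : ∀ i j, i ≠ j → LinearIndependent k ![b i, b j] := by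
    intro i j hij
    refine pair_of_not_smul (hb0 i) fun c hc => ?_
    have hc0 : c ≠ 0 := fun h => hb0 j (by rw [hc, h, zero_smul])
    have e : T.m (a j) (b i) = 0 := by
      have := hab j
      rw [hc, map_smul] at this
      exact (smul_eq_zero.1 this).resolve_left hc0
    exact hn _ (hb0 i) (hb1 i) (leOne_flip_of_two hV (hi i j hij) (hab i) e)
  have hbg : ∀ i, T.Good (b i) := fun i => by
    obtain ⟨j, hj⟩ : ∃ j, i ≠ j := ⟨i + 1, by revert i; decide⟩
    exact good_of_pair hV hU hn (hbi i j hj) (hb1 i) (hb1 j)
  by_cases hli : LinearIndependent k b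
  · exact ⟨b, hli, hbg⟩
  exfalso
  have h01 := hbi 0 1 (by decide)
  -- the third lies in the plane of the first two
  obtain ⟨s, t, hst⟩ : ∃ s t : k, s • b 0 + t • b 1 = b 2 := by
    by_contra hne
    push Not at hne
    have : LinearIndependent k ![b 2, b 0, b 1] := linearIndependent_finCons.2 ⟨h01, fun hm => by
      rw [Matrix.range_cons_cons_empty] at hm
      obtain ⟨s, t, e⟩ := Submodule.mem_span_pair.1 hm
      exact hne s t e⟩
    refine hli ?_
    have e := this.comp ![1, 2, 0] (by decide)
    convert e using 1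
    funext i
    fin_cases i <;> rfl
  have hpair : ∀ i, i ≠ 2 → ∀ c : k, b 2 ≠ c • b i := by
    intro i hi2 c hc'
    have := LinearIndependent.pair_iff.1 (hbi i 2 hi2) (-c) 1 (by rw [hc', one_smul, neg_smul]; abel)
    exact one_ne_zero this.2
  have hs : s ≠ 0 := fun h => hpair 1 (by decide) t (by rw [← hst, h, zero_smul, zero_add])
  have ht : t ≠ 0 := fun h => hpair 0 (by decide) s (by rw [← hst, h, zero_smul, add_zero])
  have hne : ∀ i, ∃ v, T.m (b i) v ≠ 0 := fun i => by
    by_contra h
    push Not at h
    exact hb0 i (T.mf _ h)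
  obtain ⟨u, hu⟩ := hb1 0
  obtain ⟨u', hu'⟩ := hb1 1
  by_cases hsame : ∀ v, T.m (b 1) v ∈ Submodule.span k {u}
  · -- one line of products
    set W := Submodule.span k (Set.range ![b 0, b 1]) with hW
    have hWu : ∀ w ∈ W, ∀ v, T.m w v ∈ Submodule.span k {u} := by
      intro w hw v
      refine (Submodule.span_le.2 ?_ : W ≤ Submodule.comap (T.m.flip v) (Submodule.span k {u})) hw
      rintro _ ⟨i, rfl⟩
      fin_cases i
      exacts [hu v, hsame v]
    have hbad : ∀ i, a i ∉ W := by
      intro i hmem
      have hw1 : LeOne (T.m (a i)) := ⟨u, hWu _ hmem⟩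
      have hai : a i ≠ 0 := fun h => hb i (by
        refine ⟨ha i, ⟨0, fun x => ?_⟩⟩
        rw [h, map_zero, LinearMap.zero_apply]; exact Submodule.zero_mem _)
      by_cases h0 : ∀ c : k, b 0 ≠ c • a i
      · exact hb i (good_of_pair hV hU hn (pair_of_not_smul hai h0) hw1 (hb1 0))
      · push Not at h0
        obtain ⟨c, hc'⟩ := h0
        refine hb i (good_of_pair hV hU hn (pair_of_not_smul hai fun d hd => ?_) hw1 (hb1 1))
        have := LinearIndependent.pair_iff.1 h01 d (-c) (by rw [hd, hc', smul_smul, smul_smul,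
          ← add_smul, show d * c + -c * d = 0 by ring, zero_smul])
        have hc0 : c ≠ 0 := fun h => hb0 0 (by rw [hc', h, zero_smul])
        exact hc0 (by simpa using this.2)
    have htop : Submodule.span k ({a 0, b 0, b 1} : Set V) = ⊤ := by
      have hli3 : LinearIndependent k ![a 0, b 0, b 1] := linearIndependent_finCons.2 ⟨h01, hbad 0⟩
      have := hli3.span_eq_top_of_card_eq_finrank (by rw [Fintype.card_fin, hV])
      rw [eq_top_iff, ← this, Submodule.span_le]
      rintro _ ⟨i, rfl⟩
      fin_cases i <;> exact Submodule.subset_span (by simp)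
    obtain ⟨c, w, hw, e⟩ : ∃ c : k, ∃ w ∈ W, c • a 0 + w = a 1 := by
      obtain ⟨c, w, hw, e⟩ := Submodule.mem_span_insert.1
        (htop ▸ Submodule.mem_top : a 1 ∈ Submodule.span k ({a 0, b 0, b 1} : Set V))
      exact ⟨c, w, by rw [hW, Matrix.range_cons_cons_empty]; exact hw, e.symm⟩
    have hc0 : c ≠ 0 := fun h => hbad 1 (by rw [← e, h, zero_smul, zero_add]; exact hw)
    have hcross : T.m (a 0) (b 1) ∈ Submodule.span k {u} := by
      have h' := hab 1
      rw [← e, map_add, LinearMap.add_apply, map_smul, LinearMap.smul_apply] at h'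
      have : T.m (a 0) (b 1) = -(c⁻¹ • T.m w (b 1)) := by
        rw [← smul_neg, ← eq_neg_of_add_eq_zero_left h', smul_smul, inv_mul_cancel₀ hc0, one_smul]
      rw [this]
      exact Submodule.neg_mem _ (Submodule.smul_mem _ _ (hWu w hw _))
    have hb0W : b 0 ∈ W := Submodule.subset_span ⟨0, rfl⟩
    have hb1W : b 1 ∈ W := Submodule.subset_span ⟨1, rfl⟩
    have := finrank_le_of_all_mem (S := Submodule.span k ({u} : Set U)) fun x => by
      refine T.commU_of_gen hc htop ?_ x
      rintro x hx y hy
      have key : ∀ z ∈ ({b 0, b 1} : Set V), ∀ v, T.m z v ∈ Submodule.span k {u} := by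
        rintro z (rfl | rfl) v
        exacts [hWu _ hb0W v, hWu _ hb1W v]
      have key' : ∀ z ∈ ({b 0, b 1} : Set V), T.m (a 0) z ∈ Submodule.span k {u} := by
        rintro z (rfl | rfl)
        · rw [hab 0]; exact Submodule.zero_mem _
        · exact hcross
      rcases hx with hx | hx <;> rcases hy with hy | hy
      · rw [hx, hy, sub_self]; exact Submodule.zero_mem _
      · exact Submodule.sub_mem _ (hx ▸ key' y hy) (key y hy x)
      · exact Submodule.sub_mem _ (key x hx y) (hy ▸ key' x hx)
      · exact Submodule.sub_mem _ (key x hx y) (key y hy x)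
    have h' := finrank_span_le_card (R := k) ({u} : Set U)
    simp at h'
    omega
  · push Not at hsame
    obtain ⟨v₁, hv₁⟩ := hsame
    obtain ⟨v₀, hv₀⟩ := hne 0
    choose f hf using fun v => Submodule.mem_span_singleton.1 (hu v)
    choose g hg using fun v => Submodule.mem_span_singleton.1 (hu' v)
    have huu : ∀ x y : k, x • u + y • u' = 0 → x = 0 ∧ y = 0 := by
      intro x y h
      by_cases hy : y = 0
      · subst hy
        rw [zero_smul, add_zero] at h
        refine ⟨(smul_eq_zero.1 h).resolve_right fun h' => hv₀ ?_, rfl⟩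
        rw [← hf, h', smul_zero]
      · exfalso
        refine hv₁ (Submodule.mem_span_singleton.2 ⟨-(g v₁ * (y⁻¹ * x)), ?_⟩)
        have := congrArg (y⁻¹ • ·) (eq_neg_of_add_eq_zero_right h)
        simp only [smul_smul, smul_neg, inv_mul_cancel₀ hy, one_smul] at this
        rw [← hg, this, smul_neg, smul_smul, neg_smul]
    obtain ⟨u'', hu''⟩ := hb1 2
    choose e he using fun v => Submodule.mem_span_singleton.1 (hu'' v)
    have hprop : ∀ v v', f v * g v' = f v' * g v := by
      intro v v'
      have h3 : ∀ v, e v • u'' = (s * f v) • u + (t * g v) • u' := fun v => by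
        rw [he, ← hst, map_add, LinearMap.add_apply, map_smul, map_smul, LinearMap.smul_apply,
          LinearMap.smul_apply, ← hf, ← hg, smul_smul, smul_smul]
      obtain ⟨p, q⟩ := huu (e v' * (s * f v) - e v * (s * f v'))
        (e v' * (t * g v) - e v * (t * g v')) (by
          have := congrArg (e v' • ·) (h3 v)
          have h' := congrArg (e v • ·) (h3 v')
          simp only [smul_add, smul_smul] at this h'
          rw [mul_comm (e v) (e v'), this] at h'
          linear_combination (norm := module) h')
      have p' : e v' * f v - e v * f v' = 0 :=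
        (mul_eq_zero.1 (show s * (e v' * f v - e v * f v') = 0 by linear_combination p)).resolve_left hs
      have q' : e v' * g v - e v * g v' = 0 :=
        (mul_eq_zero.1 (show t * (e v' * g v - e v * g v') = 0 by linear_combination q)).resolve_left ht
      by_cases hev : e v = 0
      · by_cases hev' : e v' = 0
        · obtain ⟨p, q⟩ := huu (s * f v) (t * g v) (by rw [← h3, hev, zero_smul])
          have hfv : f v = 0 := (mul_eq_zero.1 p).resolve_left hs
          have hgv : g v = 0 := (mul_eq_zero.1 q).resolve_left ht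
          rw [hfv, hgv]; ring
        · rw [hev, zero_mul, sub_zero, mul_eq_zero] at p' q'
          rw [p'.resolve_left hev', q'.resolve_left hev']; ring
      · refine mul_left_cancel₀ hev ?_
        linear_combination g v * p' - f v * q'
    have hfv₀ : f v₀ ≠ 0 := fun h => hv₀ (by rw [← hf, h, zero_smul])
    set κ := g v₀ / f v₀ with hκ
    have hgκ : ∀ v, g v = κ * f v := fun v => by
      rw [hκ, div_mul_eq_mul_div, eq_div_iff hfv₀]
      linear_combination hprop v₀ v
    -- a common zero inside the plane
    let W := Submodule.span k (Set.range ![b 0, b 1])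
    have hinter : LinearMap.ker (T.m (b 0)) ⊓ W ≠ ⊥ := by
      intro h'
      have e1 := Submodule.finrank_sup_add_finrank_inf_eq (LinearMap.ker (T.m (b 0))) W
      have e2 := LinearMap.finrank_range_add_finrank_ker (T.m (b 0))
      have e3 := finrank_range_of_leOne (hb1 0)
      have e4 := Submodule.finrank_le (LinearMap.ker (T.m (b 0)) ⊔ W)
      have e5 : finrank k W = 2 := by rw [finrank_span_eq_card h01, Fintype.card_fin]
      rw [h', finrank_bot] at e1
      omega
    obtain ⟨h, ⟨hh1, hh2⟩, hh0⟩ := Submodule.exists_mem_ne_zero_of_ne_bot hinter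
    obtain ⟨σ, τ, rfl⟩ : ∃ σ τ : k, σ • b 0 + τ • b 1 = h := by
      have : h ∈ Submodule.span k ({b 0, b 1} : Set V) := by rwa [← Matrix.range_cons_cons_empty]
      exact Submodule.mem_span_pair.1 this
    set h := σ • b 0 + τ • b 1
    have z0 : T.m (b 0) h = 0 := hh1
    have z1 : T.m (b 1) h = 0 := by
      have : f h = 0 := by
        by_contra hfh
        refine hfh ((smul_eq_zero.1 ((hf h).trans z0)).resolve_right fun h' => hv₀ ?_)
        rw [← hf, h', smul_zero]
      rw [← hg, hgκ, this, mul_zero, zero_smul]
    refine hn h hh0 ⟨σ • u + (τ * κ) • u', fun v => Submodule.mem_span_singleton.2 ⟨f v, ?_⟩⟩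
      (leOne_flip_of_two hV h01 z0 z1)
    simp only [h, map_add, map_smul, LinearMap.add_apply, LinearMap.smul_apply, ← hf, ← hg, hgκ,
      smul_add, smul_smul]
    congr 1 <;> congr 1 <;> ring

/-- Either good elements form a basis, or degree three has dimension at most two and comes from
two good elements. -/
theorem goods_or_small [IsAlgClosed k] (hV : finrank k V = 3) (hU : finrank k U = 3)
    (hn : T.NoConfig) (hc : T.CommU) :
    ThreeGood T ∨ ∃ g g', T.Good g ∧ T.Good g' ∧
      ∀ x, x ∈ LinearMap.range (T.l g) ⊔ LinearMap.range (T.l g') := by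
  classical
  by_cases h3 : ThreeGood T
  · exact Or.inl h3
  right
  -- a plane containing the good elements
  set G := Submodule.span k {a | T.Good a} with hG
  obtain ⟨g, hgs, hgr, hgi⟩ := exists_linearIndependent k {a | T.Good a}
  have hG2 : finrank k G ≤ 2 := by
    by_contra hgt
    haveI := hgi.setFinite.fintype
    have hcard : Fintype.card g = finrank k G := by
      rw [← finrank_span_eq_card hgi, Subtype.range_coe, hgr]
    obtain ⟨e⟩ : Nonempty (Fin 3 ↪ g) := Function.Embedding.nonempty_of_card_le (by
      rw [Fintype.card_fin, hcard]; omega)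
    exact h3 ⟨fun i => (e i : V), hgi.comp e e.injective, fun i => hgs (e i).2⟩
  obtain ⟨W, hGW, hW2⟩ : ∃ W : Submodule k V, G ≤ W ∧ finrank k W = 2 := by
    obtain ⟨C, hC⟩ := Submodule.exists_isCompl G
    have hdim := Submodule.finrank_add_eq_of_isCompl hC
    obtain ⟨f, hf⟩ := exists_linearIndependent_of_le_finrank (R := k) (M := C)
      (n := 2 - finrank k G) (by omega)
    refine ⟨G ⊔ (Submodule.span k (Set.range f)).map C.subtype, le_sup_left, ?_⟩
    have hd : Disjoint G ((Submodule.span k (Set.range f)).map C.subtype) :=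
      hC.disjoint.mono_right (Submodule.map_subtype_le _ _)
    have e := Submodule.finrank_sup_add_finrank_inf_eq G
      ((Submodule.span k (Set.range f)).map C.subtype)
    rw [hd.eq_bot, finrank_bot, ← (Submodule.equivMapOfInjective C.subtype C.injective_subtype
      _).finrank_eq, finrank_span_eq_card hf, Fintype.card_fin] at e
    omega
  have hbad : ∀ a, a ∉ W → ¬ T.Good a := fun a ha hg => ha (hGW (Submodule.subset_span hg))
  obtain ⟨⟨w₁, w₂⟩, hwi, hwW⟩ : ∃ w : V × V, LinearIndependent k ![w.1, w.2] ∧
      Submodule.span k (Set.range ![w.1, w.2]) = W := by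
    obtain ⟨f, hf⟩ := exists_linearIndependent_of_le_finrank (R := k) (M := W) (n := 2) hW2.ge
    have hf' : LinearIndependent k ![(f 0 : V), (f 1 : V)] := by
      have h := hf.map' W.subtype W.ker_subtype
      have e : (⇑W.subtype ∘ f) = ![(f 0 : V), (f 1 : V)] := by
        funext i
        fin_cases i <;> rfl
      rw [e] at h
      exact h
    refine ⟨(f 0, f 1), hf', Submodule.eq_of_le_of_finrank_eq (Submodule.span_le.2 ?_) ?_⟩
    · rintro _ ⟨i, rfl⟩
      fin_cases i
      exacts [(f 0).2, (f 1).2]
    · rw [finrank_span_eq_card hf', Fintype.card_fin, hW2]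
  simp only at hwi hwW
  have hw₁ : w₁ ∈ W := hwW ▸ Submodule.subset_span ⟨0, rfl⟩
  have hw₂ : w₂ ∈ W := hwW ▸ Submodule.subset_span ⟨1, rfl⟩
  have hWmem : ∀ w ∈ W, ∃ x y : k, x • w₁ + y • w₂ = w := fun w hw => by
    rw [← hwW, Matrix.range_cons_cons_empty] at hw
    exact Submodule.mem_span_pair.1 hw
  have hW0 : ∀ x y : k, x • w₁ + y • w₂ = 0 → x = 0 ∧ y = 0 := LinearIndependent.pair_iff.1 hwi
  have hsing : ∀ a, T.Sing a → a ∈ W := by
    intro a ha
    by_contra haW
    have hinf := singular_infinite T.m (by omega) ha w₁ w₂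
    obtain ⟨s, hs, hcard⟩ := hinf.exists_subset_card_eq 3
    let e : Fin 3 ≃ s := (Fintype.equivFinOfCardEq (by simpa using hcard)).symm
    set c : Fin 3 → V := fun i => a + (e i : k × k).1 • w₁ + (e i : k × k).2 • w₂ with hc'
    have hcW : ∀ i, c i ∉ W := fun i hm => haW (by
      have := W.sub_mem (W.sub_mem hm (W.smul_mem (e i : k × k).2 hw₂))
        (W.smul_mem (e i : k × k).1 hw₁)
      simpa [hc'] using this)
    refine h3 (three_bad hV hU hn hc (a := c) (fun i => hs (e i).2) (fun i => hbad _ (hcW i))
      fun i j hij => ?_)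
    have hci : c i ≠ 0 := fun h => hcW i (h ▸ W.zero_mem)
    refine pair_of_not_smul hci fun d hd => hij ?_
    have hd1 : d = 1 := by
      by_contra hne
      refine haW ?_
      have hm : (1 - d) • a ∈ W := by
        have : (1 - d) • a = (d * (e i : k × k).1 - (e j : k × k).1) • w₁ +
            (d * (e i : k × k).2 - (e j : k × k).2) • w₂ := by
          simp only [hc'] at hd
          linear_combination (norm := module) hd
        rw [this]
        exact W.add_mem (W.smul_mem _ hw₁) (W.smul_mem _ hw₂)
      exact (W.smul_mem_iff (sub_ne_zero.2 (Ne.symm hne))).1 hm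
    subst hd1
    obtain ⟨p, q⟩ := hW0 ((e i : k × k).1 - (e j : k × k).1)
      ((e i : k × k).2 - (e j : k × k).2) (by
        simp only [hc', one_smul] at hd
        linear_combination (norm := module) -hd)
    exact e.injective (Subtype.ext (Prod.ext (sub_eq_zero.1 p) (sub_eq_zero.1 q)))
  obtain ⟨e, he⟩ : ∃ e, e ∉ W := by
    by_contra h
    push Not at h
    have := finrank_le_of_all_mem h
    omega
  have hinj : Function.Injective (T.m e) := by
    rw [injective_iff_map_eq_zero]
    intro v hv
    by_contra hv0
    exact he (hsing e ⟨v, hv0, hv⟩)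
  let E : V ≃ₗ[k] U := LinearEquiv.ofBijective (T.m e) ⟨hinj,
    (LinearMap.injective_iff_surjective_of_finrank_eq_finrank (by omega)).1 hinj⟩
  have hE : ∀ v, E v = T.m e v := fun v => rfl
  have hEs : ∀ u, T.m e (E.symm u) = u := fun u => E.apply_symm_apply u
  have hnoeig : ∀ w ∈ W, ∀ (c : k) (v : V), v ≠ 0 → T.m w v = c • T.m e v → c = 0 := by
    intro w hw c v hv hwv
    by_contra hc0
    have : w - c • e ∈ W := hsing _ ⟨v, hv, by
      rw [map_sub, LinearMap.sub_apply, map_smul, LinearMap.smul_apply, hwv, sub_self]⟩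
    exact he ((W.smul_mem_iff hc0).1 (by
      have := W.sub_mem hw this
      rwa [sub_sub_cancel] at this))
  set S : Submodule k U := LinearMap.range (T.m w₁) ⊔ LinearMap.range (T.m w₂) with hS
  have hWS : ∀ w ∈ W, ∀ v, T.m w v ∈ S := by
    intro w hw v
    obtain ⟨x, y, rfl⟩ := hWmem w hw
    rw [map_add, LinearMap.add_apply, map_smul, map_smul, LinearMap.smul_apply, LinearMap.smul_apply]
    exact S.add_mem (S.smul_mem _ (Submodule.mem_sup_left (LinearMap.mem_range_self _ v)))
      (S.smul_mem _ (Submodule.mem_sup_right (LinearMap.mem_range_self _ v)))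
  by_cases hS3 : S = ⊤
  · -- two good elements in the plane
    have hWsing : ∀ w ∈ W, T.Sing w := by
      intro w hw
      haveI : Nontrivial V := Module.nontrivial_of_finrank_pos (R := k) (by omega)
      obtain ⟨v, hv, hv0⟩ := exists_zero_of_no_eigen (E.symm.toLinearMap.comp (T.m w))
        (fun c v hv h => hnoeig w hw c v hv (by
          have := congrArg E h
          simpa [hE, hEs] using this))
      refine ⟨v, hv, ?_⟩
      have := congrArg E hv0
      simpa using this
    have hpick : ∀ a : Fin 3 → V, (∀ i, a i ∈ W) →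
        (∀ i j, i ≠ j → LinearIndependent k ![a i, a j]) → ∃ i, T.Good (a i) := by
      intro a haW hai
      by_contra h
      push Not at h
      exact h3 (three_bad hV hU hn hc (fun i => hWsing _ (haW i)) h hai)
    obtain ⟨s, hs0, hs1⟩ : ∃ s : k, s ≠ 0 ∧ s ≠ 1 := by
      by_contra h
      push Not at h
      have : (Set.univ : Set k) ⊆ {0, 1} := fun x _ => (em (x = 0)).imp id (h x)
      exact Set.infinite_univ ((Set.toFinite _).subset this)
    let pts : Fin 4 → k × k := ![(1, 0), (0, 1), (1, 1), (1, s)]
    let wp : Fin 4 → V := fun i => (pts i).1 • w₁ + (pts i).2 • w₂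
    have hwp : ∀ i j, i ≠ j → LinearIndependent k ![wp i, wp j] := by
      intro i j hij
      refine LinearIndependent.pair_iff.2 fun x y h => ?_
      obtain ⟨p, q⟩ := hW0 (x * (pts i).1 + y * (pts j).1) (x * (pts i).2 + y * (pts j).2) (by
        linear_combination (norm := module) h)
      have hdet : (pts i).1 * (pts j).2 - (pts i).2 * (pts j).1 ≠ 0 := by
        fin_cases i <;> fin_cases j <;> first
          | exact absurd rfl hij
          | simp [pts, sub_eq_zero, hs0, hs1, hs1.symm]
      refine ⟨(mul_eq_zero.1 (?_ : x * ((pts i).1 * (pts j).2 - (pts i).2 * (pts j).1) = 0)).resolve_right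
          hdet, (mul_eq_zero.1
          (?_ : y * ((pts i).1 * (pts j).2 - (pts i).2 * (pts j).1) = 0)).resolve_right hdet⟩
      · linear_combination (pts j).2 * p - (pts j).1 * q
      · linear_combination (pts i).1 * q - (pts i).2 * p
    have hwW' : ∀ i, wp i ∈ W := fun i => W.add_mem (W.smul_mem _ hw₁) (W.smul_mem _ hw₂)
    obtain ⟨i, hi⟩ := hpick (fun i => wp (Fin.castSucc i)) (fun i => hwW' _)
      (fun i j h => hwp _ _ fun h' => h (Fin.castSucc_injective _ h'))
    obtain ⟨j, hj⟩ := hpick (fun j => wp ((Fin.castSucc i).succAbove j)) (fun j => hwW' _)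
      (fun a b h => hwp _ _ fun h' => h (Fin.succAbove_right_injective h'))
    have hg := hwp _ _ (Fin.succAbove_ne (Fin.castSucc i) j).symm
    set g := wp (Fin.castSucc i)
    set g' := wp ((Fin.castSucc i).succAbove j)
    refine ⟨g, g', hi, hj, fun x => ?_⟩
    have hgW : g ∈ W := hwW' _
    have hg'W : g' ∈ W := hwW' _
    clear_value g g'
    have hspan : Submodule.span k (Set.range ![g, g']) = W := by
      refine Submodule.eq_of_le_of_finrank_eq (Submodule.span_le.2 ?_) ?_
      · rintro _ ⟨l, rfl⟩
        fin_cases l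
        exacts [hgW, hg'W]
      · rw [finrank_span_eq_card hg, Fintype.card_fin, hW2]
    have key : ∀ w ∈ W, ∀ u, T.l w u ∈ LinearMap.range (T.l g) ⊔ LinearMap.range (T.l g') := by
      intro w hw u
      rw [← hspan, Matrix.range_cons_cons_empty] at hw
      obtain ⟨p, q, rfl⟩ := Submodule.mem_span_pair.1 hw
      rw [map_add, LinearMap.add_apply, map_smul, map_smul, LinearMap.smul_apply,
        LinearMap.smul_apply]
      exact Submodule.add_mem _
        (Submodule.smul_mem _ _ (Submodule.mem_sup_left (LinearMap.mem_range_self _ u)))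
        (Submodule.smul_mem _ _ (Submodule.mem_sup_right (LinearMap.mem_range_self _ u)))
    refine T.memX3 (fun a b c => ?_) x
    rw [← T.assoc]
    refine (show S ≤ Submodule.comap (T.r.flip c)
      (LinearMap.range (T.l g) ⊔ LinearMap.range (T.l g')) from ?_) (hS3 ▸ Submodule.mem_top)
    refine sup_le ?_ ?_
    · rintro _ ⟨v, rfl⟩
      rw [Submodule.mem_comap, LinearMap.flip_apply]
      rw [T.assoc]; exact key w₁ hw₁ _
    · rintro _ ⟨v, rfl⟩
      rw [Submodule.mem_comap, LinearMap.flip_apply]
      rw [T.assoc]; exact key w₂ hw₂ _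
  · exfalso
    have hS2 : finrank k S ≤ 2 := by
      have := Submodule.finrank_lt hS3
      omega
    set Q : Submodule k V := S.map E.symm.toLinearMap with hQ
    have hQ2 : finrank k Q ≤ 2 := (Submodule.finrank_map_le _ _).trans hS2
    have hmapsQ : ∀ w ∈ W, ∀ v ∈ Q, (E.symm.toLinearMap.comp (T.m w)) v ∈ Q := fun w hw v _ =>
      Submodule.mem_map_of_mem (hWS w hw v)
    haveI : Nontrivial Q := by
      refine Submodule.nontrivial_iff_ne_bot.2 fun hbot => ?_
      have : w₁ = 0 := T.mf w₁ fun v => by
        have hm : E.symm (T.m w₁ v) ∈ Q := Submodule.mem_map_of_mem (hWS w₁ hw₁ v)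
        rw [hbot, Submodule.mem_bot, LinearEquiv.map_eq_zero_iff] at hm
        exact hm
      exact one_ne_zero (hW0 1 0 (by rw [this, smul_zero, zero_smul, add_zero])).1
    obtain ⟨⟨b, hbQ⟩, hb, e1, e2⟩ := pencil_common_zero hQ2
      ((E.symm.toLinearMap.comp (T.m w₁)).restrict (hmapsQ w₁ hw₁))
      ((E.symm.toLinearMap.comp (T.m w₂)).restrict (hmapsQ w₂ hw₂))
      (fun s t c v hv h => by
        have h' := congrArg E (congrArg Subtype.val h)
        simp only [LinearMap.add_apply, LinearMap.smul_apply, Submodule.coe_add,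
          Submodule.coe_smul, LinearMap.restrict_apply, LinearMap.comp_apply,
          LinearEquiv.coe_coe, map_add, map_smul, hE, hEs] at h'
        refine hnoeig (s • w₁ + t • w₂) (W.add_mem (W.smul_mem _ hw₁) (W.smul_mem _ hw₂)) c v
          (fun h0 => hv (Subtype.ext h0)) ?_
        rw [map_add, LinearMap.add_apply, map_smul, map_smul, LinearMap.smul_apply,
          LinearMap.smul_apply]
        exact h')
    have hb0 : b ≠ 0 := fun h => hb (Subtype.ext h)
    have z : ∀ w ∈ W, T.m w b = 0 := by
      have a1 : E.symm (T.m w₁ b) = 0 := congrArg Subtype.val e1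
      have a2 : E.symm (T.m w₂ b) = 0 := congrArg Subtype.val e2
      rw [LinearEquiv.map_eq_zero_iff] at a1 a2
      intro w hw
      obtain ⟨x, y, rfl⟩ := hWmem w hw
      simp [a1, a2]
    have hbflip : LeOne (T.m.flip b) := leOne_flip_of_two hV hwi (z w₁ hw₁) (z w₂ hw₂)
    by_cases hbW : b ∈ W
    · have hrange : LinearMap.range (T.m b) = S := by
        refine Submodule.eq_of_le_of_finrank_le ?_ ?_
        · rintro _ ⟨v, rfl⟩
          exact hWS b hbW v
        · by_contra hlt
          push Not at hlt
          exact hn b hb0 (leOne_of_finrank (by omega)) hbflip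
      have hzero : ∀ w ∈ W, ∀ w' ∈ W, T.m w w' = 0 := fun w hw w' hw' => T.rf _ fun v => by
        rw [T.assoc]
        obtain ⟨d, hd⟩ := (hrange.ge (hWS w' hw' v) : T.m w' v ∈ LinearMap.range (T.m b))
        rw [← hd]
        exact T.zero_of_mul (z w hw) d
      have htop : Submodule.span k ({e, w₁, w₂} : Set V) = ⊤ := by
        have hli3 : LinearIndependent k ![e, w₁, w₂] :=
          linearIndependent_finCons.2 ⟨hwi, fun h => he (hwW ▸ h)⟩
        have := hli3.span_eq_top_of_card_eq_finrank (by rw [Fintype.card_fin, hV])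
        rw [eq_top_iff, ← this, Submodule.span_le]
        rintro _ ⟨i, rfl⟩
        fin_cases i <;> exact Submodule.subset_span (by simp)
      have := finrank_le_of_all_mem (S := Submodule.span k
        ({T.m e w₁ - T.m w₁ e, T.m e w₂ - T.m w₂ e} : Set U)) fun x => by
        refine T.commU_of_gen hc htop ?_ x
        rintro p (hp | hp | hp) q (hq | hq | hq) <;> rw [hp, hq] <;>
          first
          | (rw [sub_self]; exact Submodule.zero_mem _)
          | (rw [hzero _ hw₁ _ hw₂, hzero _ hw₂ _ hw₁, sub_self]; exact Submodule.zero_mem _)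
          | (refine Submodule.subset_span ?_; simp; done)
          | (refine neg_mem_iff.1 ?_; rw [neg_sub]; refine Submodule.subset_span ?_; simp; done)
      have h' := finrank_span_pair_le (k := k) (T.m e w₁ - T.m w₁ e) (T.m e w₂ - T.m w₂ e)
      omega
    · have hbinj : Function.Injective (T.m b) := by
        rw [injective_iff_map_eq_zero]
        intro v hv
        by_contra hv0
        exact hbW (hsing b ⟨v, hv0, hv⟩)
      have hbs := (LinearMap.injective_iff_surjective_of_finrank_eq_finrank
        (by omega : finrank k V = finrank k U)).1 hbinj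
      have : w₁ = 0 := T.l_ne fun u => by
        obtain ⟨v, rfl⟩ := hbs u
        exact T.zero_of_mul (z w₁ hw₁) v
      exact one_ne_zero (hW0 1 0 (by rw [this, smul_zero, zero_smul, add_zero])).1

end CfsgLib.Blocks.KFive
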