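import Cfsg.Agent.Lib.Blocks.KFive.Base
import Cfsg.Agent.Lib.Blocks.KFive.Good
import Mathlib.LinearAlgebra.Dimension.OrzechProperty

/-!
# Two generators: the shape of degree two
-/

namespace CfsgLib.Blocks.KFive

open Module

set_option linter.unusedVariables false
set_option linter.unusedSectionVars false

variable {k : Type*} [Field k] {V U X : Type*} [AddCommGroup V] [Module k V] [AddCommGroup U]
  [Module k U] [AddCommGroup X] [Module k X] [FiniteDimensional k V] [FiniteDimensional k U]
  [FiniteDimensional k X]

theorem top_of_pair {P : Type*} [AddCommGroup P] [Module k P] (hP : finrank k P = 2) {a b : P}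
    (h : LinearIndependent k ![a, b]) (z : P) : z ∈ Submodule.span k ({a, b} : Set P) := by
  have htop := h.span_eq_top_of_card_eq_finrank (by rw [Fintype.card_fin, hP])
  rw [Matrix.range_cons_cons_empty] at htop
  exact htop ▸ Submodule.mem_top

/-- With two generators and degree three spanned by commutators there are generators with zero
squares. -/
theorem exists_square_zero [IsAlgClosed k] (T : Tower k V U X) (hV : finrank k V = 2)
    (hU : finrank k U = 2) (hc : T.CommX) (hX : 2 ≤ finrank k X) :
    ∃ x y, LinearIndependent k ![x, y] ∧ T.m x x = 0 ∧ T.m y y = 0 ∧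
      LinearIndependent k ![T.m x y, T.m y x] ∧
      LinearIndependent k ![T.l x (T.m y x), T.l y (T.m x y)] ∧
      ∀ z, z ∈ Submodule.span k ({T.l x (T.m y x), T.l y (T.m x y)} : Set X) := by
  classical
  haveI : Nontrivial V := Module.nontrivial_of_finrank_pos (R := k) (by omega)
  -- a zero divisor
  obtain ⟨a, ha, b, hb, hab⟩ : ∃ a, a ≠ 0 ∧ ∃ b, b ≠ 0 ∧ T.m a b = 0 := by
    by_contra hne
    push Not at hne
    obtain ⟨f, hf⟩ := exists_linearIndependent_of_le_finrank (R := k) (M := V) (n := 2) hV.ge
    have hinj : Function.Injective (T.m (f 0)) := (injective_iff_map_eq_zero _).2 fun v hv => by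
      by_contra hv0
      exact hne (f 0) (hf.ne_zero 0) v hv0 hv
    let E := LinearEquiv.ofBijective (T.m (f 0)) ⟨hinj,
      (LinearMap.injective_iff_surjective_of_finrank_eq_finrank (by omega)).1 hinj⟩
    obtain ⟨c, hc'⟩ := Module.End.exists_eigenvalue (E.symm.toLinearMap.comp (T.m (f 1)))
    obtain ⟨v, hv⟩ := hc'.exists_hasEigenvector
    have e : T.m (f 1) v = c • T.m (f 0) v := by
      have := congrArg E hv.apply_eq_smul
      simp [E] at this
      exact this
    refine hne (f 1 - c • f 0) (fun h => ?_) v hv.2 (by
      rw [map_sub, LinearMap.sub_apply, map_smul, LinearMap.smul_apply, e, sub_self])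
    have := Fintype.linearIndependent_iff.1 hf ![-c, 1] (by
      rw [Fin.sum_univ_two]
      simp only [Matrix.cons_val_zero, Matrix.cons_val_one, one_smul, neg_smul]
      rw [← h]; abel) 1
    simp at this
  have hb1 : LeOne (T.m b) := by
    by_contra h
    have hr : ¬ finrank k (LinearMap.range (T.m b)) ≤ 1 := fun h' => h (leOne_of_finrank h')
    have htop : LinearMap.range (T.m b) = ⊤ := Submodule.eq_top_of_finrank_eq (by
      have := Submodule.finrank_le (LinearMap.range (T.m b))
      omega)
    refine ha (T.l_ne fun u => ?_)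
    obtain ⟨c, rfl⟩ := (htop ▸ Submodule.mem_top : u ∈ LinearMap.range (T.m b))
    exact T.zero_of_mul hab c
  have ha1 : LeOne (T.m.flip a) := by
    by_contra h
    have hr : ¬ finrank k (LinearMap.range (T.m.flip a)) ≤ 1 := fun h' => h (leOne_of_finrank h')
    have htop : LinearMap.range (T.m.flip a) = ⊤ := Submodule.eq_top_of_finrank_eq (by
      have := Submodule.finrank_le (LinearMap.range (T.m.flip a))
      omega)
    refine hb (T.r_ne fun u => ?_)
    obtain ⟨c, rfl⟩ := (htop ▸ Submodule.mem_top : u ∈ LinearMap.range (T.m.flip a))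
    exact T.zero_of_mul' hab c
  have hXle : ∀ w : X, (∀ z, z ∈ Submodule.span k ({w} : Set X)) → False := fun w h => by
    have := (finrank_le_of_all_mem h).trans (finrank_span_le_card _)
    simp at this
    omega
  -- the two annihilating elements are proportional
  obtain ⟨y, hy0, hyy, hy1, hy1'⟩ : ∃ y, y ≠ 0 ∧ T.m y y = 0 ∧ LeOne (T.m y) ∧
      LeOne (T.m.flip y) := by
    by_cases hdep : ∀ c : k, b ≠ c • a
    · exfalso
      have hli := pair_of_not_smul ha hdep
      have hgen := top_of_pair hV hli
      obtain ⟨q, hq⟩ := hb1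
      obtain ⟨q', hq'⟩ := ha1
      by_cases hba : T.m b a = 0
      · -- then everything commutes
        have hcomm : ∀ v w, T.m v w = T.m w v := fun v w => by
          obtain ⟨s, t, rfl⟩ := Submodule.mem_span_pair.1 (hgen v)
          obtain ⟨s', t', rfl⟩ := Submodule.mem_span_pair.1 (hgen w)
          simp only [map_add, map_smul, LinearMap.add_apply, LinearMap.smul_apply, hab, hba,
            smul_zero, add_zero, zero_add, smul_smul, mul_comm]
        refine hXle 0 (sub_of_top hc fun q => ?_)
        obtain ⟨v, u⟩ := q
        have : (T.l v u : X) = T.r u v := T.extU (f := T.l v) (g := T.r.flip v) (fun p q => by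
          rw [LinearMap.flip_apply, ← T.assoc, hcomm v p, T.assoc, hcomm v q, ← T.assoc]) u
        rw [this, sub_self]
        exact Submodule.zero_mem _
      · have h1 : ∀ u, u ∈ Submodule.span k {T.m b a} := by
          have key : ∀ (z : U) (q : U), T.m b a ∈ Submodule.span k {q} →
              z ∈ Submodule.span k {q} → z ∈ Submodule.span k {T.m b a} := by
            intro z q hba' hz
            obtain ⟨s, hs⟩ := Submodule.mem_span_singleton.1 hba'
            obtain ⟨r, hr⟩ := Submodule.mem_span_singleton.1 hz
            have hs0 : s ≠ 0 := fun h => hba (by rw [← hs, h, zero_smul])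
            exact Submodule.mem_span_singleton.2 ⟨r * s⁻¹, by
              rw [← hs, smul_smul, mul_assoc, inv_mul_cancel₀ hs0, mul_one, hr]⟩
          refine T.memU fun v w => ?_
          obtain ⟨s, t, rfl⟩ := Submodule.mem_span_pair.1 (hgen v)
          obtain ⟨s', t', rfl⟩ := Submodule.mem_span_pair.1 (hgen w)
          simp only [map_add, map_smul, LinearMap.add_apply, LinearMap.smul_apply, hab, smul_zero,
            add_zero, smul_add, smul_smul]
          repeat' (first | exact Submodule.zero_mem _ | refine Submodule.add_mem _ ?_ ?_ |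
            refine Submodule.smul_mem _ _ ?_)
          all_goals first
            | exact Submodule.mem_span_singleton_self _
            | exact key _ q' (hq' b) (hq' a)
            | exact key _ q (hq a) (hq b)
        have := (finrank_le_of_all_mem h1).trans (finrank_span_le_card _)
        simp at this
        omega
    · push Not at hdep
      obtain ⟨c, rfl⟩ := hdep
      have hc0 : c ≠ 0 := fun h => hb (by rw [h, zero_smul])
      refine ⟨a, ha, ?_, ?_, ha1⟩
      · rw [map_smul] at hab
        exact (smul_eq_zero.1 hab).resolve_left hc0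
      · obtain ⟨q, hq⟩ := hb1
        refine ⟨q, fun v => ?_⟩
        have := Submodule.smul_mem _ c⁻¹ (hq v)
        rwa [map_smul, LinearMap.smul_apply, smul_smul, inv_mul_cancel₀ hc0, one_smul] at this
  obtain ⟨x, hx⟩ : ∃ x, x ∉ Submodule.span k {y} := by
    by_contra h
    push Not at h
    have := (finrank_le_of_all_mem h).trans (finrank_span_le_card _)
    simp at this
    omega
  have hli : LinearIndependent k ![y, x] :=
    pair_of_not_smul hy0 fun c h => hx (Submodule.mem_span_singleton.2 ⟨c, h.symm⟩)
  have hgen := top_of_pair hV hli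
  have hyx : T.m y x ≠ 0 := fun h => hy0 (T.mf y fun v => by
    obtain ⟨s, t, rfl⟩ := Submodule.mem_span_pair.1 (hgen v)
    simp [hyy, h])
  have hUgen : ∀ u, u ∈ Submodule.span k ({T.m x x, T.m x y, T.m y x} : Set U) := T.memU fun v w => by
    obtain ⟨s, t, rfl⟩ := Submodule.mem_span_pair.1 (hgen v)
    obtain ⟨s', t', rfl⟩ := Submodule.mem_span_pair.1 (hgen w)
    simp only [map_add, map_smul, LinearMap.add_apply, LinearMap.smul_apply, hyy, smul_zero,
      zero_add, add_zero, smul_add, smul_smul]
    refine Submodule.add_mem _ ?_ (Submodule.add_mem _ ?_ ?_) <;>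
      refine Submodule.smul_mem _ _ (Submodule.subset_span ?_) <;> simp
  have hXgen : ∀ (S : Submodule k X), (∀ v ∈ ({y, x} : Set V),
      ∀ u ∈ ({T.m x x, T.m x y, T.m y x} : Set U), T.l v u ∈ S) → ∀ z, z ∈ S := by
    intro S h
    refine T.memX fun v u => ?_
    refine (Submodule.span_le.2 ?_ : _ ≤ S.comap (T.l v)) (hUgen u)
    intro w hw
    refine (Submodule.span_le.2 ?_ : _ ≤ S.comap (T.l.flip w)) (hgen v)
    exact fun d hd => h d hd w hw
  by_cases hdep : LinearIndependent k ![T.m x y, T.m y x]
  · -- two independent mixed products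
    obtain ⟨p, q, hxx⟩ := Submodule.mem_span_pair.1 (top_of_pair hU hdep (T.m x x))
    set A₁ := T.l x (T.m y x) with hA₁
    set A₂ := T.l y (T.m x y) with hA₂
    have z1 : T.l y (T.m y x) = 0 := T.zero_of_mul hyy x
    have z2 : T.r (T.m x y) y = 0 := T.zero_of_mul' hyy x
    have e1 : T.r (T.m y x) y = A₂ := T.assoc y x y
    have e2 : T.r (T.m x y) x = A₁ := T.assoc x y x
    have e3 : T.l y (T.m x x) = p • A₂ := by
      rw [← hxx, map_add, map_smul, map_smul, z1, smul_zero, add_zero]
    have e4 : T.l x (T.m x y) = q • A₂ := by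
      rw [← T.assoc, ← hxx, map_add, LinearMap.add_apply, map_smul, map_smul,
        LinearMap.smul_apply, LinearMap.smul_apply, z2, smul_zero, zero_add, e1]
    have e5 : T.r (T.m y x) x = p • A₂ := by rw [T.assoc, e3]
    have hspan : ∀ z, z ∈ Submodule.span k ({A₁, A₂} : Set X) := by
      have s1 : A₁ ∈ Submodule.span k ({A₁, A₂} : Set X) := Submodule.subset_span (by simp)
      have s2 : A₂ ∈ Submodule.span k ({A₁, A₂} : Set X) := Submodule.subset_span (by simp)
      refine hXgen _ ?_
      rintro v (rfl | rfl) u (rfl | rfl | rfl)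
      · rw [e3]; exact Submodule.smul_mem _ _ s2
      · exact s2
      · rw [z1]; exact Submodule.zero_mem _
      · rw [← hxx, map_add, map_smul, map_smul, e4, ← hA₁]
        exact Submodule.add_mem _ (Submodule.smul_mem _ _ (Submodule.smul_mem _ _ s2))
          (Submodule.smul_mem _ _ s1)
      · rw [e4]; exact Submodule.smul_mem _ _ s2
      · exact s1
    have hAi : LinearIndependent k ![A₁, A₂] := by
      refine linearIndependent_of_top_le_span_of_card_eq_finrank (fun z _ => ?_) ?_
      · rw [Matrix.range_cons_cons_empty]; exact hspan z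
      · have := (finrank_le_of_all_mem hspan).trans (finrank_span_pair_le _ _)
        rw [Fintype.card_fin]
        omega
    have hpq : p = q := by
      have e : T.r (T.m x x) x = T.l x (T.m x x) := T.assoc x x x
      rw [← hxx] at e
      simp only [map_add, map_smul, LinearMap.add_apply, LinearMap.smul_apply, e2, e5, e4,
        ← hA₁, smul_smul] at e
      have := LinearIndependent.pair_iff.1 hAi (p - q) (q * p - p * q) (by
        linear_combination (norm := module) e)
      exact sub_eq_zero.1 this.1
    subst hpq
    refine ⟨x - p • y, y, ?_, ?_, hyy, ?_, ?_, ?_⟩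
    · refine LinearIndependent.pair_iff.2 fun s t h => ?_
      obtain ⟨e, e'⟩ := LinearIndependent.pair_iff.1 hli (t - s * p) s (by
        linear_combination (norm := module) h)
      exact ⟨e', by rw [e', zero_mul, sub_zero] at e; exact e⟩
    · simp only [map_sub, map_smul, LinearMap.sub_apply, LinearMap.smul_apply, hyy, smul_zero,
        sub_zero]
      rw [← hxx]; abel
    · simpa [hyy] using hdep
    · simpa [hyy, z1, hA₁, hA₂] using hAi
    · simpa [hyy, z1, hA₁, hA₂] using hspan
  · -- proportional mixed products
    exfalso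
    obtain ⟨r, hr⟩ : ∃ r : k, T.m x y = r • T.m y x := by
      by_contra h
      push Not at h
      exact hdep (LinearIndependent.pair_iff.2 fun s t e =>
        ((LinearIndependent.pair_iff.1 (pair_of_not_smul hyx h)) t s (by rw [add_comm]; exact e)).symm)
    set B := T.l y (T.m x x) with hB
    have z1 : T.l y (T.m y x) = 0 := T.zero_of_mul hyy x
    have z2 : T.r (T.m y x) y = 0 := by rw [T.assoc, hr, map_smul, z1, smul_zero]
    have e1 : T.r (T.m y x) x = B := T.assoc y x x
    have e2 : T.l x (T.m y x) = r • B := by
      rw [← T.assoc, hr, map_smul, LinearMap.smul_apply, e1]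
    have e3 : T.r (T.m x x) y = (r * r) • B := by
      rw [T.assoc, hr, map_smul, e2, smul_smul]
    refine hXle B (sub_of_top hc fun q => ?_)
    obtain ⟨v, u⟩ := q
    let D : V →ₗ[k] U →ₗ[k] X := T.l - T.r.flip
    show D v u ∈ Submodule.span k {B}
    have hU2 : ∀ u, u ∈ Submodule.span k ({T.m x x, T.m y x} : Set U) := fun u => by
      refine (Submodule.span_le.2 ?_) (hUgen u)
      rintro w (rfl | rfl | rfl)
      · exact Submodule.subset_span (by simp)
      · rw [hr]; exact Submodule.smul_mem _ _ (Submodule.subset_span (by simp))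
      · exact Submodule.subset_span (by simp)
    obtain ⟨s, t, rfl⟩ := Submodule.mem_span_pair.1 (hgen v)
    obtain ⟨s', t', rfl⟩ := Submodule.mem_span_pair.1 (hU2 u)
    have d1 : D y (T.m x x) = B - (r * r) • B := by
      show T.l y (T.m x x) - T.r (T.m x x) y = _; rw [e3]
    have d2 : D y (T.m y x) = 0 := by
      show T.l y (T.m y x) - T.r (T.m y x) y = _; rw [z1, z2, sub_self]
    have d3 : D x (T.m x x) = 0 := by
      show T.l x (T.m x x) - T.r (T.m x x) x = _; rw [T.assoc, sub_self]
    have d4 : D x (T.m y x) = r • B - B := by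
      show T.l x (T.m y x) - T.r (T.m y x) x = _; rw [e1, e2]
    simp only [map_add, map_smul, LinearMap.add_apply, LinearMap.smul_apply, d1, d2, d3, d4]
    refine Submodule.mem_span_singleton.2
      ⟨s' * s * (1 - r * r) + t' * t * (r - 1), ?_⟩
    module

end CfsgLib.Blocks.KFive
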