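import Cfsg.Agent.Lib.Blocks.KFive.Levels
import Cfsg.Agent.Lib.Blocks.KFive.TwoGen
import Cfsg.Agent.Lib.Blocks.SmallLocal

/-!
# A local symmetric algebra with cocenter of dimension at most five has dimension at most fifteen
-/

namespace CfsgLib.Blocks.KFive

open Module

set_option linter.unusedVariables false
set_option linter.unusedSectionVars false

variable {k A : Type*} [Field k] [Ring A] [Algebra k A]

/-- The span of the commutators of two subspaces. -/
def comSpan (P Q : Submodule k A) : Submodule k A :=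
  Submodule.span k ((fun q : A × A => q.1 * q.2 - q.2 * q.1) '' ((P : Set A) ×ˢ (Q : Set A)))

theorem com_mem {P Q : Submodule k A} {a b : A} (ha : a ∈ P) (hb : b ∈ Q) :
    a * b - b * a ∈ comSpan P Q := Submodule.subset_span ⟨(a, b), ⟨ha, hb⟩, rfl⟩

theorem comSpan_le {P Q S : Submodule k A} (h : ∀ a ∈ P, ∀ b ∈ Q, a * b - b * a ∈ S) :
    comSpan P Q ≤ S := Submodule.span_le.2 (by
      rintro _ ⟨⟨a, b⟩, ⟨ha, hb⟩, rfl⟩
      exact h a ha b hb)

theorem finrank_step_le [FiniteDimensional k A] (P : Submodule k A) (q : A) :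
    finrank k ↥(Submodule.span k {q} ⊔ P) ≤ finrank k P + 1 := by
  have h1 := Submodule.finrank_add_le_finrank_add_finrank (Submodule.span k {q}) P
  have h2 : finrank k (Submodule.span k ({q} : Set A)) ≤ 1 :=
    (finrank_span_le_card _).trans (by simp)
  omega

/-- Generators modulo a subspace. -/
theorem exists_gens [FiniteDimensional k A] : ∀ (n : ℕ) {P Q : Submodule k A}, P ≤ Q →
    finrank k Q ≤ finrank k P + n →
    ∃ v : Fin n → A, (∀ i, v i ∈ Q) ∧ Q ≤ Submodule.span k (Set.range v) ⊔ P := by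
  intro n
  induction n with
  | zero =>
    intro P Q hPQ h
    refine ⟨Fin.elim0, fun i => i.elim0, le_sup_of_le_right ?_⟩
    exact (Submodule.eq_of_le_of_finrank_le hPQ (by omega)).ge
  | succ n ih =>
    intro P Q hPQ h
    by_cases hQP : Q ≤ P
    · exact ⟨fun _ => 0, fun _ => Q.zero_mem, le_sup_of_le_right hQP⟩
    obtain ⟨q, hq, hqP⟩ := SetLike.not_le_iff_exists.1 hQP
    have hlt : finrank k P < finrank k ↥(Submodule.span k {q} ⊔ P) :=
      Submodule.finrank_lt_finrank_of_lt (lt_of_le_not_ge le_sup_right fun h' =>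
        hqP (h' (Submodule.mem_sup_left (Submodule.mem_span_singleton_self q))))
    obtain ⟨v, hv, hsp⟩ := ih (P := Submodule.span k {q} ⊔ P)
      (sup_le ((Submodule.span_singleton_le_iff_mem _ _).2 hq) hPQ) (by omega)
    refine ⟨Fin.cons q v, Fin.cases hq hv, hsp.trans (sup_le ?_ (sup_le ?_ le_sup_right))⟩
    · refine le_sup_of_le_left (Submodule.span_mono ?_)
      rintro _ ⟨i, rfl⟩
      exact ⟨i.succ, by simp⟩
    · refine le_sup_of_le_left (Submodule.span_mono ?_)
      rintro _ rfl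
      exact ⟨0, by simp⟩

/-- A local algebra with a symmetric functional, given by its maximal ideal. -/
structure Loc (k A : Type*) [Field k] [Ring A] [Algebra k A] where
  N : Submodule k A
  t : A →ₗ[k] k
  hts : ∀ a b : A, t (a * b) = t (b * a)
  hNN : N * N ≤ N
  hnd : ∀ x ∈ N, t x = 0 → (∀ y ∈ N, t (x * y) = 0) → x = 0

namespace Loc

variable (D : Loc k A)

/-- The commutators. -/
def K : Submodule k A := comSpan D.N D.N

theorem K_le : D.K ≤ D.N * D.N := comSpan_le fun a ha b hb =>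
  Submodule.sub_mem _ (Submodule.mul_mem_mul ha hb) (Submodule.mul_mem_mul hb ha)

theorem tK {x : A} (hx : x ∈ D.K) : D.t x = 0 := by
  refine LinearMap.mem_ker.1 ((comSpan_le fun a _ b _ => ?_ : D.K ≤ LinearMap.ker D.t) hx)
  rw [LinearMap.mem_ker, map_sub, D.hts, sub_self]

theorem pow_le {i j : ℕ} (hi : 1 ≤ i) (hij : i ≤ j) : D.N ^ j ≤ D.N ^ i := by
  induction j, hij using Nat.le_induction with
  | base => exact le_rfl
  | succ j hij ih =>
    refine le_trans ?_ ih
    obtain ⟨l, rfl⟩ : ∃ l, j = l + 1 := ⟨j - 1, by omega⟩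
    calc D.N ^ (l + 1 + 1) = D.N ^ l * (D.N * D.N) := by rw [← pow_two, ← pow_add]
      _ ≤ D.N ^ l * D.N := mul_le_mul' le_rfl D.hNN
      _ = D.N ^ (l + 1) := (pow_succ _ _).symm

theorem sq_eq : D.N ^ 2 = D.N * D.N := pow_two _

theorem two_mul_le : D.N * D.N * D.N ≤ D.N ^ 3 ∧ D.N * (D.N * D.N) ≤ D.N ^ 3 := by
  constructor
  · rw [pow_succ, pow_two]
  · rw [← mul_assoc, pow_succ, pow_two]

theorem com3 {a u : A} (ha : a ∈ D.N) (hu : u ∈ D.N ^ 2) : a * u - u * a ∈ D.N ^ 3 := by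
  rw [pow_two] at hu
  exact Submodule.sub_mem _ (D.two_mul_le.2 (Submodule.mul_mem_mul ha hu))
    (D.two_mul_le.1 (Submodule.mul_mem_mul hu ha))

/-- The commutators through a set of generators. -/
theorem K_le_gens {g : Set A} (hg : g ⊆ D.N) (hgen : D.N ≤ Submodule.span k g ⊔ D.N ^ 2) :
    D.K ≤ comSpan (Submodule.span k g) (Submodule.span k g) ⊔ comSpan D.N (D.N ^ 2) := by
  refine comSpan_le fun a ha b hb => ?_
  obtain ⟨a₁, ha₁, a₂, ha₂, rfl⟩ := Submodule.mem_sup.1 (hgen ha)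
  obtain ⟨b₁, hb₁, b₂, hb₂, rfl⟩ := Submodule.mem_sup.1 (hgen hb)
  have hgN : Submodule.span k g ≤ D.N := Submodule.span_le.2 hg
  have e : (a₁ + a₂) * (b₁ + b₂) - (b₁ + b₂) * (a₁ + a₂) =
      (a₁ * b₁ - b₁ * a₁) + ((a₁ * b₂ - b₂ * a₁) - ((b₁ + b₂) * a₂ - a₂ * (b₁ + b₂))) := by
    noncomm_ring
  rw [e]
  refine Submodule.add_mem _ (Submodule.mem_sup_left (com_mem ha₁ hb₁))
    (Submodule.mem_sup_right (Submodule.sub_mem _ (com_mem (hgN ha₁) hb₂) (com_mem hb ha₂)))

theorem comSpan_span_three (x y z : A) :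
    comSpan (Submodule.span k {x, y, z}) (Submodule.span k {x, y, z}) ≤
      Submodule.span k {x * y - y * x, x * z - z * x, y * z - z * y} := by
  refine comSpan_le fun a ha b hb => ?_
  obtain ⟨a₁, w, hw, rfl⟩ := Submodule.mem_span_insert.1 ha
  obtain ⟨a₂, a₃, rfl⟩ := Submodule.mem_span_pair.1 hw
  obtain ⟨b₁, w', hw', rfl⟩ := Submodule.mem_span_insert.1 hb
  obtain ⟨b₂, b₃, rfl⟩ := Submodule.mem_span_pair.1 hw'
  refine Submodule.mem_span_insert.2 ⟨a₁ * b₂ - a₂ * b₁, _,
    Submodule.mem_span_pair.2 ⟨a₁ * b₃ - a₃ * b₁, a₂ * b₃ - a₃ * b₂, rfl⟩, ?_⟩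
  simp only [mul_add, add_mul, smul_mul_assoc, mul_smul_comm]
  module

theorem comSpan_span_two (x y : A) :
    comSpan (Submodule.span k {x, y}) (Submodule.span k {x, y}) ≤
      Submodule.span k {x * y - y * x} := by
  refine comSpan_le fun a ha b hb => ?_
  obtain ⟨a₁, a₂, rfl⟩ := Submodule.mem_span_pair.1 ha
  obtain ⟨b₁, b₂, rfl⟩ := Submodule.mem_span_pair.1 hb
  refine Submodule.mem_span_singleton.2 ⟨a₁ * b₂ - a₂ * b₁, ?_⟩
  simp only [mul_add, add_mul, smul_mul_assoc, mul_smul_comm]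
  module

variable [FiniteDimensional k A]

/-- The easy bound when the sixth power vanishes. -/
theorem bound_short (h6 : D.N ^ 6 = ⊥) :
    2 * finrank k ↥(D.N ^ 3) ≤ finrank k D.N + 1 := by
  have h3N : D.N ^ 3 ≤ D.N := (D.pow_le le_rfl (by omega)).trans (pow_one _).le
  let P : Submodule k D.N := (D.N ^ 3).comap D.N.subtype
  let B : ↥(D.N ^ 3) →ₗ[k] D.N →ₗ[k] k :=
    LinearMap.mk₂ k (fun x y => D.t ((x : A) * y))
      (fun a b c => by simp [add_mul]) (fun r a c => by simp)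
      (fun a b c => by simp [mul_add]) (fun r a c => by simp)
  let C : ↥(D.N ^ 3) →ₗ[k] Module.Dual k (D.N ⧸ P) :=
    (Submodule.liftQ P B.flip (fun y hy => LinearMap.mem_ker.2 (LinearMap.ext fun x => by
      show D.t ((x : A) * y) = 0
      have := Submodule.mul_mem_mul x.2 (show (y : A) ∈ D.N ^ 3 from hy)
      rw [← pow_add, h6, Submodule.mem_bot] at this
      rw [this, map_zero]))).flip
  let Φ : ↥(D.N ^ 3) →ₗ[k] k × Module.Dual k (D.N ⧸ P) :=
    (D.t.comp (D.N ^ 3).subtype).prod C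
  have hΦ : Function.Injective Φ := by
    rw [injective_iff_map_eq_zero]
    intro x hx
    refine Subtype.ext (D.hnd (x : A) (h3N x.2) (congrArg Prod.fst hx) fun y hy => ?_)
    exact LinearMap.congr_fun (congrArg Prod.snd hx) (Submodule.Quotient.mk ⟨y, hy⟩)
  have h1 := LinearMap.finrank_le_finrank_of_injective hΦ
  rw [Module.finrank_prod, Subspace.dual_finrank_eq, Module.finrank_self] at h1
  have h2 := Submodule.finrank_quotient_add_finrank P
  have h3 : finrank k P = finrank k ↥(D.N ^ 3) :=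
    (Submodule.comapSubtypeEquivOfLe h3N).finrank_eq
  omega

/-- The pairing filtration. -/
def filt {m : ℕ} (hm : D.N ^ (m + 1) = ⊥) : Filt k A := ⟨D.N, D.t, m, D.hts, hm⟩

theorem top_spec {m : ℕ} (hm1 : 1 ≤ m) (hm : D.N ^ (m + 1) = ⊥) {s : A} (hs : s ∈ D.N ^ m)
    (hs0 : s ≠ 0) : D.t s ≠ 0 := fun h => hs0 (D.hnd s
  ((D.pow_le le_rfl hm1).trans (pow_one _).le hs) h fun y hy => by
    have := Submodule.mul_mem_mul hs hy
    rw [← pow_succ, hm, Submodule.mem_bot] at this
    rw [this, map_zero])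

section long

variable {m : ℕ} (hm : D.N ^ (m + 1) = ⊥) (h6 : 6 ≤ m) {s : A} (hs : s ∈ D.N ^ m)
  (hts : D.t s ≠ 0)

local notation "F" => D.filt hm

include h6 hs hts in
theorem lev2_ne_zero (h : ∀ u : (D.filt hm).Lev 2, u = 0) : False := by
  have h6' : 6 ≤ (D.filt hm).top := h6
  have hall : ∀ z : (D.filt hm).Lev m, z ∈ (⊥ : Submodule k _) :=
    sub_of_top ((D.filt hm).mul_span (show 2 + (m - 2) = m by omega) (le_refl _)) fun q => by
      rw [h q.1, map_zero, LinearMap.zero_apply]; exact Submodule.zero_mem _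
  have := ((D.filt hm).cls_eq_zero (show s ∈ (D.filt hm).N ^ m from hs)).1
    ((Submodule.mem_bot k).1 (hall _)) 1 (by
      rw [show (D.filt hm).top - m = 0 from Nat.sub_self m, pow_zero, Submodule.one_eq_span]
      exact Submodule.mem_span_singleton_self _)
  rw [mul_one] at this
  exact hts this

include h6 hs hts in
theorem lev3_ne_zero (h : ∀ u : (D.filt hm).Lev 3, u = 0) : False := by
  have h6' : 6 ≤ (D.filt hm).top := h6
  have hall : ∀ z : (D.filt hm).Lev m, z ∈ (⊥ : Submodule k _) :=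
    sub_of_top ((D.filt hm).mul_span (show 3 + (m - 3) = m by omega) (le_refl _)) fun q => by
      rw [h q.1, map_zero, LinearMap.zero_apply]; exact Submodule.zero_mem _
  have := ((D.filt hm).cls_eq_zero (show s ∈ (D.filt hm).N ^ m from hs)).1
    ((Submodule.mem_bot k).1 (hall _)) 1 (by
      rw [show (D.filt hm).top - m = 0 from Nat.sub_self m, pow_zero, Submodule.one_eq_span]
      exact Submodule.mem_span_singleton_self _)
  rw [mul_one] at this
  exact hts this

include h6 hs hts in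
theorem lev_one_pos : 0 < finrank k ((D.filt hm).Lev 1) :=
  (D.filt hm).finrank_one_pos (show 1 ≤ m by omega) hs hts

/-- The generators span degree one. -/
theorem lev_one_gen {g : Set A} (hg : g ⊆ D.N) (hgen : D.N ≤ Submodule.span k g ⊔ D.N ^ 2)
    (h1 : 1 ≤ m) (z : (D.filt hm).Lev 1) :
    z ∈ Submodule.span k {w | ∃ a, ∃ ha : a ∈ D.N ^ 1, a ∈ g ∧ (D.filt hm).cls 1 ⟨a, ha⟩ = w} := by
  set S := Submodule.span k
    {w | ∃ a, ∃ ha : a ∈ D.N ^ 1, a ∈ g ∧ (D.filt hm).cls 1 ⟨a, ha⟩ = w} with hS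
  obtain ⟨⟨x, hx⟩, rfl⟩ := (D.filt hm).cls_surjective 1 z
  have key : ∀ v ∈ Submodule.span k g, ∃ hv : v ∈ D.N ^ 1, (D.filt hm).cls 1 ⟨v, hv⟩ ∈ S := by
    intro v hv
    induction hv using Submodule.span_induction with
    | mem a ha => exact ⟨(pow_one D.N).symm ▸ hg ha,
        Submodule.subset_span ⟨a, (pow_one D.N).symm ▸ hg ha, ha, rfl⟩⟩
    | zero => exact ⟨Submodule.zero_mem _, by
        rw [show (⟨0, Submodule.zero_mem _⟩ : ↥((D.filt hm).N ^ 1)) = 0 from rfl, map_zero]
        exact S.zero_mem⟩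
    | add a b _ _ ha hb =>
      obtain ⟨h1, h1'⟩ := ha
      obtain ⟨h2, h2'⟩ := hb
      exact ⟨add_mem h1 h2, by
        have := S.add_mem h1' h2'
        rwa [← map_add] at this⟩
    | smul c a _ ha =>
      obtain ⟨h1, h1'⟩ := ha
      exact ⟨Submodule.smul_mem _ c h1, by
        have := S.smul_mem c h1'
        rwa [← map_smul] at this⟩
  have hx' : x ∈ D.N := (pow_one D.N).le hx
  obtain ⟨v, hv, w, hw, hvw⟩ := Submodule.mem_sup.1 (hgen hx')
  obtain ⟨hv', hv''⟩ := key v hv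
  have e : (D.filt hm).cls 1 ⟨x, hx⟩ = (D.filt hm).cls 1 ⟨v, hv'⟩ := by
    rw [← sub_eq_zero, ← map_sub]
    exact ((D.filt hm).cls_eq_zero (Submodule.sub_mem _ hx hv')).2
      ((D.filt hm).pow_le_null (show 1 ≤ m from h1) one_lt_two
        (show x - v ∈ D.N ^ 2 by rw [← hvw, add_sub_cancel_left]; exact hw))
  rw [e]
  exact hv''

include h6 in
/-- Degree two consists of commutators when the square is commutators modulo the cube. -/
theorem commU_of_sq (h : D.N ^ 2 ≤ D.K ⊔ D.N ^ 3) :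
    ((D.filt hm).tower (show 6 ≤ m from h6)).CommU := by
  refine eq_top_iff.2 fun z _ => ?_
  obtain ⟨⟨x, hx⟩, rfl⟩ := (D.filt hm).cls_surjective 2 z
  set T := (D.filt hm).tower (show 6 ≤ m from h6) with hT
  set S := Submodule.span k (Set.range fun q : (D.filt hm).Lev 1 × (D.filt hm).Lev 1 =>
    T.m q.1 q.2 - T.m q.2 q.1) with hS
  have key : ∀ v ∈ D.K, ∃ hv : v ∈ D.N ^ 2, (D.filt hm).cls 2 ⟨v, hv⟩ ∈ S := by
    intro v hv
    induction hv using Submodule.span_induction with
    | mem q hq =>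
      obtain ⟨⟨a, b⟩, ⟨ha, hb⟩, rfl⟩ := hq
      have ha1 : a ∈ (D.filt hm).N ^ 1 := (pow_one D.N).symm ▸ ha
      have hb1 : b ∈ (D.filt hm).N ^ 1 := (pow_one D.N).symm ▸ hb
      refine ⟨(D.sq_eq).symm ▸ D.K_le (com_mem ha hb), Submodule.subset_span
        ⟨((D.filt hm).cls 1 ⟨a, ha1⟩, (D.filt hm).cls 1 ⟨b, hb1⟩), ?_⟩⟩
      exact (map_sub ((D.filt hm).cls 2) ⟨a * b, (D.filt hm).mul_mem_pow rfl ha1 hb1⟩
        ⟨b * a, (D.filt hm).mul_mem_pow rfl hb1 ha1⟩).symm
    | zero => exact ⟨Submodule.zero_mem _, by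
        rw [show (⟨0, Submodule.zero_mem _⟩ : ↥((D.filt hm).N ^ 2)) = 0 from rfl, map_zero]
        exact S.zero_mem⟩
    | add a b _ _ ha hb =>
      obtain ⟨h1, h1'⟩ := ha
      obtain ⟨h2, h2'⟩ := hb
      exact ⟨add_mem h1 h2, by
        have := S.add_mem h1' h2'
        rwa [← map_add] at this⟩
    | smul c a _ ha =>
      obtain ⟨h1, h1'⟩ := ha
      exact ⟨Submodule.smul_mem _ c h1, by
        have := S.smul_mem c h1'
        rwa [← map_smul] at this⟩
  obtain ⟨v, hv, w, hw, hvw⟩ := Submodule.mem_sup.1 (h hx)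
  obtain ⟨hv', hv''⟩ := key v hv
  have e : (D.filt hm).cls 2 ⟨x, hx⟩ = (D.filt hm).cls 2 ⟨v, hv'⟩ := by
    rw [← sub_eq_zero, ← map_sub]
    exact ((D.filt hm).cls_eq_zero (Submodule.sub_mem _ hx hv')).2
      ((D.filt hm).pow_le_null (show 2 ≤ m by omega) (by omega)
        (show x - v ∈ D.N ^ 3 by rw [← hvw, add_sub_cancel_left]; exact hw))
  rw [e]
  exact hv''

include h6 in
/-- The class of a commutator of higher degree. -/
theorem cls3_com {v : A} (hv : v ∈ comSpan D.N (D.N ^ 2)) :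
    ∃ hv' : v ∈ D.N ^ 3, (D.filt hm).cls 3 ⟨v, hv'⟩ ∈
      Submodule.span k (Set.range fun q : (D.filt hm).Lev 1 × (D.filt hm).Lev 2 =>
        ((D.filt hm).tower (show 6 ≤ m from h6)).l q.1 q.2 -
        ((D.filt hm).tower (show 6 ≤ m from h6)).r q.2 q.1) := by
  induction hv using Submodule.span_induction with
  | mem q hq =>
    obtain ⟨⟨a, b⟩, ⟨ha, hb⟩, rfl⟩ := hq
    have ha1 : a ∈ (D.filt hm).N ^ 1 := (pow_one D.N).symm ▸ ha
    refine ⟨D.com3 ha hb, Submodule.subset_span
      ⟨((D.filt hm).cls 1 ⟨a, ha1⟩, (D.filt hm).cls 2 ⟨b, hb⟩), ?_⟩⟩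
    exact (map_sub ((D.filt hm).cls 3) ⟨a * b, (D.filt hm).mul_mem_pow rfl ha1 hb⟩
      ⟨b * a, (D.filt hm).mul_mem_pow rfl hb ha1⟩).symm
  | zero => exact ⟨Submodule.zero_mem _, by
      rw [show (⟨0, Submodule.zero_mem _⟩ : ↥((D.filt hm).N ^ 3)) = 0 from rfl, map_zero]
      exact Submodule.zero_mem _⟩
  | add a b _ _ ha hb =>
    obtain ⟨h1, h1'⟩ := ha
    obtain ⟨h2, h2'⟩ := hb
    exact ⟨add_mem h1 h2, by
      have := Submodule.add_mem _ h1' h2'
      rwa [← map_add] at this⟩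
  | smul c a _ ha =>
    obtain ⟨h1, h1'⟩ := ha
    exact ⟨Submodule.smul_mem _ c h1, by
      have := Submodule.smul_mem _ c h1'
      rwa [← map_smul] at this⟩

include h6 in
/-- Degree three consists of commutators, if the commutators in the cube are. -/
theorem commX_of_cube (h : D.N ^ 3 ≤ D.K ⊔ D.N ^ 4)
    (hK : ∀ v ∈ D.K, v ∈ D.N ^ 3 → v ∈ comSpan D.N (D.N ^ 2)) :
    ((D.filt hm).tower (show 6 ≤ m from h6)).CommX := by
  refine eq_top_iff.2 fun z _ => ?_
  obtain ⟨⟨x, hx⟩, rfl⟩ := (D.filt hm).cls_surjective 3 z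
  obtain ⟨v, hv, w, hw, hvw⟩ := Submodule.mem_sup.1 (h hx)
  have hv3 : v ∈ D.N ^ 3 := by
    rw [show v = x - w by rw [← hvw, add_sub_cancel_right]]
    exact Submodule.sub_mem _ hx (D.pow_le (by omega) (by omega : 3 ≤ 4) hw)
  obtain ⟨hv', hv''⟩ := D.cls3_com hm h6 (hK v hv hv3)
  have e : (D.filt hm).cls 3 ⟨x, hx⟩ = (D.filt hm).cls 3 ⟨v, hv'⟩ := by
    rw [← sub_eq_zero, ← map_sub]
    exact ((D.filt hm).cls_eq_zero (Submodule.sub_mem _ hx hv')).2
      ((D.filt hm).pow_le_null (show 3 ≤ m by omega) (by omega)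
        (show x - v ∈ D.N ^ 4 by rw [← hvw, add_sub_cancel_left]; exact hw))
  rw [e]
  exact hv''

include hm h6 hs hts in
/-- A square that is a line modulo the cube makes the algebra commutative. -/
theorem commutative_of_line {x₀ y₀ : A} (hxy : ({x₀, y₀} : Set A) ⊆ D.N)
    (hgen : D.N ≤ Submodule.span k {x₀, y₀} ⊔ D.N ^ 2) {b : A} (hb : b ∈ D.N ^ 2)
    (hle : D.N ^ 2 ≤ Submodule.span k {b} ⊔ D.N ^ 3) : D.K = ⊥ := by
  classical
  set G := D.filt hm with hG
  have hGm : G.top = m := rfl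
  have hfil : ∀ i : ℕ, ∃ b ∈ D.N ^ (i + 2),
      D.N ^ (i + 2) ≤ Submodule.span k {b} ⊔ D.N ^ (i + 3) := by
    intro i
    induction i with
    | zero => exact ⟨b, hb, hle⟩
    | succ i ih =>
      obtain ⟨b', hb', hle'⟩ := ih
      exact CfsgLib.Blocks.filtration_step D.hNN hb' hle'
  have hline2 : finrank k (G.Lev 2) ≤ 1 := by
    refine (finrank_le_of_all_mem (S := Submodule.span k {G.cls 2 ⟨b, hb⟩}) fun z => ?_).trans
      ((finrank_span_le_card _).trans (by simp))
    obtain ⟨⟨w, hw⟩, rfl⟩ := G.cls_surjective 2 z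
    obtain ⟨u, hu, r, hr, e⟩ := Submodule.mem_sup.1 (hle hw)
    obtain ⟨c, rfl⟩ := Submodule.mem_span_singleton.1 hu
    refine Submodule.mem_span_singleton.2 ⟨c, ?_⟩
    rw [← map_smul, ← sub_eq_zero, ← map_sub]
    exact (G.cls_eq_zero (Submodule.sub_mem _ (Submodule.smul_mem _ c hb) hw)).2
      (G.pow_le_null (show 2 ≤ G.top by omega) (by omega)
        (show c • b - w ∈ D.N ^ 3 by rw [← e, sub_add_cancel_left]; exact Submodule.neg_mem _ hr))
  have h11 := G.finrank_one_le_of_line (le_refl 2) (by omega) hline2 (show 6 ≤ G.top by omega)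
  have h10 : 0 < finrank k (G.Lev 1) := D.lev_one_pos hm h6 hs hts
  haveI : Nontrivial (G.Lev 1) := Module.nontrivial_of_finrank_pos h10
  obtain ⟨q, hq⟩ := exists_ne (0 : G.Lev 1)
  obtain ⟨⟨x, hx1⟩, rfl⟩ := G.cls_surjective 1 q
  have hx : x ∈ D.N := (pow_one D.N).le hx1
  have hxpow : ∀ i, x ^ i ∈ D.N ^ i := fun i => Submodule.pow_mem_pow _ hx i
  -- every degree is spanned by a power of `x`
  have hlev : ∀ i, 1 ≤ i → i ≤ m → ∀ z : G.Lev i,
      z ∈ Submodule.span k {G.cls i ⟨x ^ i, hxpow i⟩} := by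
    intro i hi
    induction i, hi using Nat.le_induction with
    | base =>
      intro _ z
      obtain ⟨c, rfl⟩ := G.eq_smul_of_finrank_le_one h11 hq z
      refine Submodule.mem_span_singleton.2 ⟨c, ?_⟩
      congr 2
      exact Subtype.ext (pow_one x)
    | succ i hi ih =>
      intro hi1
      refine sub_of_top (G.mul_span (rfl : i + 1 = i + 1) hi1) fun r => ?_
      obtain ⟨a, c⟩ := r
      obtain ⟨s₁, rfl⟩ := Submodule.mem_span_singleton.1 (ih (by omega) a)
      obtain ⟨s₂, rfl⟩ := G.eq_smul_of_finrank_le_one h11 hq c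
      simp only [map_smul, LinearMap.smul_apply, Filt.mul_cls]
      refine Submodule.smul_mem _ _ (Submodule.smul_mem _ _ (Submodule.mem_span_singleton.2 ⟨1, ?_⟩))
      rw [one_smul]
      exact congrArg (G.cls (i + 1)) (Subtype.ext (pow_succ x i))
  have hxtop : D.t (x ^ m) ≠ 0 := by
    intro h0
    obtain ⟨c, hc⟩ := Submodule.mem_span_singleton.1 (hlev m (by omega) le_rfl (G.cls m ⟨s, hs⟩))
    rw [← map_smul, ← sub_eq_zero, ← map_sub] at hc
    have h1 := (G.cls_eq_zero (Submodule.sub_mem _ (Submodule.smul_mem _ c (hxpow m)) hs)).1 hc 1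
      (by rw [show G.top - m = 0 from Nat.sub_self m, pow_zero, Submodule.one_eq_span]
          exact Submodule.mem_span_singleton_self _)
    have h2 : D.t ((c • x ^ m - s) * 1) = 0 := h1
    rw [mul_one, map_sub, map_smul, h0, smul_zero, zero_sub, neg_eq_zero] at h2
    exact hts h2
  have hnot : ∀ i, i ≤ m → x ^ i ∉ D.N ^ (i + 1) := by
    intro i hi h'
    refine hxtop ?_
    have := Submodule.mul_mem_mul h' (hxpow (m - i))
    rw [← pow_add, ← pow_add, show i + 1 + (m - i) = m + 1 by omega, hm, Submodule.mem_bot,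
      show i + (m - i) = m by omega] at this
    rw [this, map_zero]
  -- the square consists of polynomials in `x`
  set P : Submodule k A := Submodule.span k (Set.range fun i : ℕ => x ^ (i + 2)) with hP
  have hdown : ∀ l i : ℕ, 2 ≤ i → m + 1 ≤ i + l → D.N ^ i ≤ P := by
    intro l
    induction l with
    | zero =>
      intro i hi hl
      refine (D.pow_le (by omega) (show m + 1 ≤ i by omega)).trans ?_
      rw [hm]; exact bot_le
    | succ l ih =>
      intro i hi hl
      by_cases him : m + 1 ≤ i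
      · refine (D.pow_le (by omega) him).trans ?_
        rw [hm]; exact bot_le
      obtain ⟨j, rfl⟩ : ∃ j, i = j + 2 := ⟨i - 2, by omega⟩
      obtain ⟨b', hb', hle'⟩ := hfil j
      obtain ⟨u, hu, r, hr, e⟩ := Submodule.mem_sup.1 (hle' (hxpow (j + 2)))
      obtain ⟨c, rfl⟩ := Submodule.mem_span_singleton.1 hu
      have hc : c ≠ 0 := fun h0 => hnot (j + 2) (by omega) (by
        rw [← e, h0, zero_smul, zero_add]; exact hr)
      have hnext : D.N ^ (j + 3) ≤ P := ih (j + 3) (by omega) (by omega)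
      refine hle'.trans (sup_le ((Submodule.span_singleton_le_iff_mem _ _).2 ?_) hnext)
      rw [show b' = c⁻¹ • x ^ (j + 2) - c⁻¹ • r by
        rw [← e, smul_add, smul_smul, inv_mul_cancel₀ hc, one_smul, add_sub_cancel_right]]
      exact P.sub_mem (P.smul_mem _ (Submodule.subset_span ⟨j, rfl⟩)) (P.smul_mem _ (hnext hr))
  have hN2P : D.N ^ 2 ≤ P := hdown (m + 1) 2 le_rfl (by omega)
  have hPx : ∀ u ∈ P, x * u = u * x := by
    intro u hu
    induction hu using Submodule.span_induction with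
    | mem v hv => obtain ⟨i, rfl⟩ := hv; exact ((Commute.refl x).pow_right _).eq
    | zero => simp
    | add a b _ _ ha hb => rw [mul_add, add_mul, ha, hb]
    | smul c a _ ha => rw [mul_smul_comm, smul_mul_assoc, ha]
  -- `x` commutes with everything
  have hxc : ∀ v ∈ D.N, x * v = v * x := by
    intro v hv
    set c := x * v - v * x with hc
    have hc2 : c ∈ D.N ^ 2 := by rw [D.sq_eq]; exact D.K_le (com_mem hx hv)
    have hxc0 : x * c = 0 := by
      rw [hc, mul_sub, hPx (x * v) (hN2P (by rw [D.sq_eq]; exact Submodule.mul_mem_mul hx hv)),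
        mul_assoc, sub_self]
    have hlow : ∀ i, 2 ≤ i → i ≤ m → c ∈ D.N ^ i := by
      intro i hi
      induction i, hi using Nat.le_induction with
      | base => exact fun _ => hc2
      | succ i hi ih =>
        intro hi1
        obtain ⟨j, rfl⟩ : ∃ j, i = j + 2 := ⟨i - 2, by omega⟩
        obtain ⟨b', hb', hle'⟩ := hfil j
        obtain ⟨u, hu, r, hr, e⟩ := Submodule.mem_sup.1 (hle' (ih (by omega)))
        obtain ⟨a, rfl⟩ := Submodule.mem_span_singleton.1 hu
        obtain ⟨u', hu', r', hr', e'⟩ := Submodule.mem_sup.1 (hle' (hxpow (j + 2)))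
        obtain ⟨a', rfl⟩ := Submodule.mem_span_singleton.1 hu'
        have ha' : a' ≠ 0 := fun h0 => hnot (j + 2) (by omega) (by
          rw [← e', h0, zero_smul, zero_add]; exact hr')
        have hrem : c - (a * a'⁻¹) • x ^ (j + 2) ∈ D.N ^ (j + 3) := by
          rw [← e, ← e', smul_add, smul_smul, mul_assoc, inv_mul_cancel₀ ha', mul_one,
            add_sub_add_left_eq_sub]
          exact Submodule.sub_mem _ hr (Submodule.smul_mem _ _ hr')
        have hmul : x * (c - (a * a'⁻¹) • x ^ (j + 2)) ∈ D.N ^ (j + 4) := by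
          rw [pow_succ' D.N (j + 3)]; exact Submodule.mul_mem_mul hx hrem
        rw [mul_sub, hxc0, zero_sub, mul_smul_comm, ← pow_succ', Submodule.neg_mem_iff] at hmul
        have ha : a * a'⁻¹ = 0 := by
          by_contra h0
          exact hnot (j + 3) (by omega) ((Submodule.smul_mem_iff _ h0).1 hmul)
        rwa [ha, zero_smul, sub_zero] at hrem
    refine sub_eq_zero.1 ((fun h : c = 0 => h) ?_)
    by_contra hc0
    exact (D.top_spec (by omega) hm (hlow m (by omega) le_rfl) hc0) (D.tK (com_mem hx hv))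
  refine le_bot_iff.1 ((D.K_le_gens hxy hgen).trans (sup_le ?_ ?_))
  · refine (comSpan_span_two x₀ y₀).trans ((Submodule.span_singleton_le_iff_mem _ _).2 ?_)
    obtain ⟨q₀, hq₀⟩ : ∃ q₀ : A, ∀ v ∈ ({x₀, y₀} : Set A),
        ∃ α β : k, ∃ w ∈ D.N ^ 2, v = α • x + β • q₀ + w := by
      -- one of the two generators completes `x`
      obtain ⟨a, b, hab⟩ : ∃ a b : k, ∃ w ∈ D.N ^ 2, a • x₀ + b • y₀ + w = x := by
        obtain ⟨u, hu, w, hw, e⟩ := Submodule.mem_sup.1 (hgen hx)
        obtain ⟨a, b, rfl⟩ := Submodule.mem_span_pair.1 hu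
        exact ⟨a, b, w, hw, e⟩
      obtain ⟨w, hw, e⟩ := hab
      by_cases ha : a = 0
      · have hb0 : b ≠ 0 := by
          intro hb0
          apply hq
          rw [G.cls_eq_zero]
          refine G.pow_le_null (show 1 ≤ G.top by omega) one_lt_two ?_
          rw [← e, ha, hb0, zero_smul, zero_smul, zero_add, zero_add]
          exact hw
        refine ⟨x₀, ?_⟩
        rintro v (rfl | rfl)
        · exact ⟨0, 1, 0, Submodule.zero_mem _, by simp⟩
        · refine ⟨b⁻¹, 0, -(b⁻¹ • w), Submodule.neg_mem _ (Submodule.smul_mem _ _ hw), ?_⟩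
          rw [← e, ha, zero_smul, zero_add, smul_add, smul_smul, inv_mul_cancel₀ hb0, one_smul]
          abel
      · refine ⟨y₀, ?_⟩
        rintro v (rfl | rfl)
        · refine ⟨a⁻¹, -(a⁻¹ * b), -(a⁻¹ • w),
            Submodule.neg_mem _ (Submodule.smul_mem _ _ hw), ?_⟩
          rw [← e, smul_add, smul_add, smul_smul, inv_mul_cancel₀ ha, one_smul, smul_smul, neg_smul]
          abel
        · exact ⟨0, 1, 0, Submodule.zero_mem _, by simp⟩
    rw [Submodule.mem_bot]
    obtain ⟨α, β, w, hw, ex⟩ := hq₀ x₀ (by simp)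
    obtain ⟨α', β', w', hw', ey⟩ := hq₀ y₀ (by simp)
    have hxP : ∀ u ∈ P, ∀ v ∈ D.N, u * v = v * u := by
      intro u hu v hv
      induction hu using Submodule.span_induction with
      | mem z hz => obtain ⟨i, rfl⟩ := hz; exact (Commute.pow_left (hxc v hv) _).eq
      | zero => simp
      | add a b _ _ ha hb => rw [mul_add, add_mul, ha, hb]
      | smul c a _ ha => rw [mul_smul_comm, smul_mul_assoc, ha]
    have hN2N : D.N ^ 2 ≤ D.N := (pow_two D.N).le.trans D.hNN
    have hzero : ∀ p ∈ D.N, ∀ p' ∈ D.N, ∀ γ γ' : k,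
        (∃ δ : k, ∃ r ∈ D.N ^ 2, p = γ • x + δ • q₀ + r) →
        (∃ δ : k, ∃ r ∈ D.N ^ 2, p' = γ' • x + δ • q₀ + r) → p * p' = p' * p := by
      rintro p hp p' hp' γ γ' ⟨δ, r, hr, ep⟩ ⟨δ', r', hr', ep'⟩
      have h1 : Commute x p' := hxc p' hp'
      have h2 : Commute r p' := hxP r (hN2P hr) p' hp'
      by_cases hδ : δ = 0
      · rw [ep, hδ, zero_smul, add_zero]
        exact ((h1.smul_left γ).add_left h2).eq
      · have hqN : q₀ ∈ D.N := by
          have : q₀ = δ⁻¹ • (p - γ • x - r) := by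
            rw [ep, show γ • x + δ • q₀ + r - γ • x - r = δ • q₀ by abel, smul_smul,
              inv_mul_cancel₀ hδ, one_smul]
          rw [this]
          exact D.N.smul_mem _ (D.N.sub_mem (D.N.sub_mem hp (D.N.smul_mem _ hx)) (hN2N hr))
        have hq1 : Commute q₀ p' := by
          rw [ep']
          exact (((Commute.symm (hxc q₀ hqN : Commute x q₀)).smul_right γ').add_right
            ((Commute.refl q₀).smul_right δ')).add_right
              (Commute.symm (hxP r' (hN2P hr') q₀ hqN : Commute r' q₀))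
        rw [ep]
        exact (((h1.smul_left γ).add_left (hq1.smul_left δ)).add_left h2).eq
    rw [hzero x₀ (hxy (by simp)) y₀ (hxy (by simp)) α α' ⟨β, w, hw, ex⟩ ⟨β', w', hw', ey⟩,
      sub_self]
  · refine comSpan_le fun a ha u hu => ?_
    rw [Submodule.mem_bot, sub_eq_zero]
    have : ∀ u ∈ P, u * a = a * u := by
      intro u hu
      induction hu using Submodule.span_induction with
      | mem z hz => obtain ⟨i, rfl⟩ := hz; exact (Commute.pow_left (hxc a ha) _).eq
      | zero => simp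
      | add a b _ _ ha hb => rw [mul_add, add_mul, ha, hb]
      | smul c a _ ha => rw [mul_smul_comm, smul_mul_assoc, ha]
    exact (this u (hN2P hu)).symm

end long

end Loc

end CfsgLib.Blocks.KFive
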