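import Cfsg.Agent.Lib.Blocks.KFive.Base
import Mathlib.Tactic.LinearCombination
import Mathlib.Tactic.Module

/-!
# An element with one dimensional products on both sides stops the algebra in degree four
-/

namespace CfsgLib.Blocks.KFive

open Module

set_option linter.unusedVariables false
set_option linter.unusedSectionVars false
set_option linter.unusedSimpArgs false

variable {k : Type*} [Field k] {V U X Y : Type*} [AddCommGroup V] [Module k V] [AddCommGroup U]
  [Module k U] [AddCommGroup X] [Module k X] [AddCommGroup Y] [Module k Y]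
  {T : Tower k V U X}

/-- The one identity of the relation among the three cyclic monomials. -/
theorem coeff_kill {A : k} {y : Y} (hA : A ≠ 0) (h : A • y = 0) : y = 0 :=
  (smul_eq_zero.1 h).resolve_left hA

/-- No element has one dimensional products on both sides, unless degree four vanishes. -/
theorem config_zero [FiniteDimensional k V] [FiniteDimensional k U] (hV : finrank k V = 3)
    (hU : finrank k U = 3) (hc : T.CommU) (hX : T.CommX) (N : Next Y T) {b : V} (hb : b ≠ 0)
    (h1 : LeOne (T.m b)) (h2 : LeOne (T.m.flip b)) : ∀ y : Y, y = 0 := by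
  classical
  set P := LinearMap.ker (T.m b) with hP
  set Q := LinearMap.ker (T.m.flip b) with hQ
  have hP2 : 2 ≤ finrank k P := by
    have e1 := LinearMap.finrank_range_add_finrank_ker (T.m b)
    have e2 := finrank_range_of_leOne h1
    rw [← hP] at e1
    omega
  have hQ2 : 2 ≤ finrank k Q := by
    have e1 := LinearMap.finrank_range_add_finrank_ker (T.m.flip b)
    have e2 := finrank_range_of_leOne h2
    rw [← hQ] at e1
    omega
  -- the bracket is injective on the alternating part
  have hcU : ∀ h : V, T.m b h = 0 → T.m h b = 0 → ∃ c : k, h = c • b := by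
    intro h e1 e2
    by_contra hne
    push Not at hne
    have hli : LinearIndependent k ![b, h] := by
      refine LinearIndependent.pair_iff.2 fun s t hst => ?_
      by_cases ht : t = 0
      · subst ht
        rw [zero_smul, add_zero] at hst
        exact ⟨(smul_eq_zero.1 hst).resolve_right hb, rfl⟩
      · exfalso
        refine hne (-(t⁻¹ * s)) ?_
        have := congrArg (t⁻¹ • ·) (eq_neg_of_add_eq_zero_right hst)
        simp only [smul_smul, smul_neg, inv_mul_cancel₀ ht, one_smul] at this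
        rw [this, neg_smul]
    obtain ⟨z, hz⟩ : ∃ z, z ∉ Submodule.span k (Set.range ![b, h]) := by
      by_contra hall
      push Not at hall
      have := finrank_le_of_all_mem hall
      rw [finrank_span_eq_card hli, Fintype.card_fin, hV] at this
      omega
    have htop : Submodule.span k ({b, h, z} : Set V) = ⊤ := by
      have hli3 : LinearIndependent k ![z, b, h] :=
        linearIndependent_finCons.2 ⟨hli, hz⟩
      have := hli3.span_eq_top_of_card_eq_finrank (by rw [Fintype.card_fin, hV])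
      rw [eq_top_iff, ← this, Submodule.span_le]
      rintro _ ⟨i, rfl⟩
      fin_cases i <;> exact Submodule.subset_span (by simp)
    have := finrank_le_of_all_mem (S := Submodule.span k
      ({T.m b z - T.m z b, T.m h z - T.m z h} : Set U)) (fun u => ?_)
    · have h' := finrank_span_pair_le (k := k) (T.m b z - T.m z b) (T.m h z - T.m z h)
      omega
    refine Tower.commU_of_gen T hc htop ?_ u
    rintro a (rfl | rfl | rfl) c (rfl | rfl | rfl) <;>
      first
      | (rw [sub_self]; exact Submodule.zero_mem _)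
      | (rw [e1, e2, sub_self]; exact Submodule.zero_mem _)
      | (refine Submodule.subset_span ?_; simp; done)
      | (refine neg_mem_iff.1 ?_; rw [neg_sub]; refine Submodule.subset_span ?_; simp; done)
  -- the basis `b, p, q`
  have hPQ : ∀ h, h ∈ P → h ∈ Q → ∃ c : k, h = c • b := fun h e1 e2 => hcU h e1 e2
  have hbb : T.m b b = 0 := by
    have e := Submodule.finrank_sup_add_finrank_inf_eq P Q
    have e' := Submodule.finrank_le (P ⊔ Q)
    have hne : P ⊓ Q ≠ ⊥ := fun h => by rw [h, finrank_bot] at e; omega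
    obtain ⟨h, hh, hh0⟩ := Submodule.exists_mem_ne_zero_of_ne_bot hne
    obtain ⟨c, rfl⟩ := hPQ h hh.1 hh.2
    have hc0 : c ≠ 0 := fun h => hh0 (by rw [h, zero_smul])
    have := hh.1
    rw [SetLike.mem_coe, hP, LinearMap.mem_ker, map_smul] at this
    exact coeff_kill hc0 this
  have hnot : ∀ S : Submodule k V, 2 ≤ finrank k S → ¬ S ≤ Submodule.span k {b} := by
    intro S hS hle
    have := Submodule.finrank_mono hle
    rw [finrank_span_singleton hb] at this
    omega
  obtain ⟨p, hp, hpb⟩ := SetLike.not_le_iff_exists.1 (hnot P hP2)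
  obtain ⟨q, hq, hqb'⟩ := SetLike.not_le_iff_exists.1 (hnot Q hQ2)
  have hbp : T.m b p = 0 := hp
  have hqb : T.m q b = 0 := hq
  have hli : LinearIndependent k ![b, p] := by
    refine LinearIndependent.pair_iff.2 fun s t hst => ?_
    by_cases ht : t = 0
    · subst ht
      rw [zero_smul, add_zero] at hst
      exact ⟨(smul_eq_zero.1 hst).resolve_right hb, rfl⟩
    · exfalso
      refine hpb (Submodule.mem_span_singleton.2 ⟨-(t⁻¹ * s), ?_⟩)
      have := congrArg (t⁻¹ • ·) (eq_neg_of_add_eq_zero_right hst)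
      simp only [smul_smul, smul_neg, inv_mul_cancel₀ ht, one_smul] at this
      rw [this, neg_smul]
  have hq3 : q ∉ Submodule.span k (Set.range ![b, p]) := by
    intro hmem
    have hqP : q ∈ P := by
      refine Submodule.span_le.2 ?_ hmem
      rintro _ ⟨i, rfl⟩
      fin_cases i
      · exact hbb
      · exact hp
    obtain ⟨c, hc'⟩ := hPQ q hqP hq
    exact hqb' (Submodule.mem_span_singleton.2 ⟨c, hc'.symm⟩)
  have hgen : Submodule.span k ({b, p, q} : Set V) = ⊤ := by
    have hli3 : LinearIndependent k ![q, b, p] := linearIndependent_finCons.2 ⟨hli, hq3⟩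
    have := hli3.span_eq_top_of_card_eq_finrank (by rw [Fintype.card_fin, hV])
    rw [eq_top_iff, ← this, Submodule.span_le]
    rintro _ ⟨i, rfl⟩
    fin_cases i <;> exact Submodule.subset_span (by simp)
  set u₁ := T.m b q with hu₁
  set u₂ := T.m p b with hu₂
  have hbasis : ∀ u : U, u ∈ Submodule.span k ({u₁, u₂, T.m p q - T.m q p} : Set U) := by
    intro u
    refine Tower.commU_of_gen T hc hgen ?_ u
    rintro a (rfl | rfl | rfl) c (rfl | rfl | rfl) <;>
      (try simp only [hbb, hbp, hqb, sub_self, sub_zero, zero_sub]) <;>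
      first
      | exact Submodule.zero_mem _
      | (refine Submodule.subset_span ?_; simp [hu₁, hu₂]; done)
      | (refine Submodule.neg_mem _ (Submodule.subset_span ?_); simp [hu₁, hu₂]; done)
      | (refine neg_mem_iff.1 ?_; rw [neg_sub]; refine Submodule.subset_span ?_; simp; done)
  -- what `b` kills on each side
  have hkillL : ∀ u : U, T.l b u = 0 → u ∈ Submodule.span k ({u₁, u₂} : Set U) := by
    intro u hu
    obtain ⟨α, β, γ, rfl⟩ : ∃ α β γ : k, α • u₁ + β • u₂ + γ • (T.m p q - T.m q p) = u := by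
      obtain ⟨α, w, hw, rfl⟩ := Submodule.mem_span_insert.1 (hbasis u)
      obtain ⟨β, γ, rfl⟩ := Submodule.mem_span_pair.1 hw
      exact ⟨α, β, γ, by abel⟩
    by_contra hne
    have hγ : γ ≠ 0 := fun h => hne (by
      rw [h, zero_smul, add_zero]; exact Submodule.mem_span_pair.2 ⟨α, β, rfl⟩)
    have e1 : T.l b u₁ = 0 := T.zero_of_mul hbb q
    have e2 : T.l b u₂ = 0 := T.zero_of_mul hbp b
    rw [map_add, map_add, map_smul, map_smul, map_smul, e1, e2, smul_zero, smul_zero, zero_add,
      zero_add] at hu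
    refine hb (T.l_ne fun v => ?_)
    have hv := hbasis v
    refine (Submodule.span_le.2 ?_ : _ ≤ LinearMap.ker (T.l b)) hv
    rintro _ (rfl | rfl | rfl)
    exacts [e1, e2, coeff_kill hγ hu]
  have hkillR : ∀ u : U, T.r u b = 0 → u ∈ Submodule.span k ({u₁, u₂} : Set U) := by
    intro u hu
    obtain ⟨α, β, γ, rfl⟩ : ∃ α β γ : k, α • u₁ + β • u₂ + γ • (T.m p q - T.m q p) = u := by
      obtain ⟨α, w, hw, rfl⟩ := Submodule.mem_span_insert.1 (hbasis u)
      obtain ⟨β, γ, rfl⟩ := Submodule.mem_span_pair.1 hw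
      exact ⟨α, β, γ, by abel⟩
    by_contra hne
    have hγ : γ ≠ 0 := fun h => hne (by
      rw [h, zero_smul, add_zero]; exact Submodule.mem_span_pair.2 ⟨α, β, rfl⟩)
    have e1 : T.r u₁ b = 0 := T.zero_of_mul' hqb b
    have e2 : T.r u₂ b = 0 := T.zero_of_mul' hbb p
    simp only [map_add, map_smul, LinearMap.add_apply, LinearMap.smul_apply, e1, e2, smul_zero,
      zero_add] at hu
    refine hb (T.r_ne fun v => ?_)
    refine (Submodule.span_le.2 ?_ : _ ≤ LinearMap.ker (T.r.flip b)) (hbasis v)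
    rintro _ (rfl | rfl | rfl)
    exacts [e1, e2, coeff_kill hγ hu]
  obtain ⟨α₁, α₂, hpq⟩ := Submodule.mem_span_pair.1 (hkillL (T.m p q) (T.zero_of_mul hbp q))
  obtain ⟨v₁, v₂, hpp⟩ := Submodule.mem_span_pair.1 (hkillL (T.m p p) (T.zero_of_mul hbp p))
  obtain ⟨r₁, r₂, hqq⟩ := Submodule.mem_span_pair.1 (hkillR (T.m q q) (T.zero_of_mul' hqb q))
  have hbasis' : ∀ u : U, u ∈ Submodule.span k ({u₁, u₂, T.m q p} : Set U) := by
    intro u
    refine (Submodule.span_le.2 ?_) (hbasis u)
    rintro _ (rfl | rfl | rfl)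
    · exact Submodule.subset_span (by simp)
    · exact Submodule.subset_span (by simp)
    · refine Submodule.sub_mem _ ?_ (Submodule.subset_span (by simp))
      rw [← hpq]
      exact Submodule.add_mem _ (Submodule.smul_mem _ _ (Submodule.subset_span (by simp)))
        (Submodule.smul_mem _ _ (Submodule.subset_span (by simp)))
  -- degree three
  set e₁ := T.l b (T.m q p) with he₁
  set e₂ := T.l p u₁ with he₂
  set e₃ := T.l q u₂ with he₃
  have z1 : T.l b u₁ = 0 := T.zero_of_mul hbb q
  have z2 : T.l b u₂ = 0 := T.zero_of_mul hbp b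
  have z3 : T.l q u₁ = 0 := T.zero_of_mul hqb q
  have z4 : T.l p u₂ = 0 := by
    rw [hu₂, ← T.assoc, ← hpp, map_add, LinearMap.add_apply, map_smul, map_smul,
      LinearMap.smul_apply, LinearMap.smul_apply, T.zero_of_mul' hqb b, T.zero_of_mul' hbb p,
      smul_zero, smul_zero, add_zero]
  have y1 : T.r u₁ p = e₁ := by rw [hu₁, T.assoc]
  have y2 : T.r u₂ q = e₂ := by rw [hu₂, T.assoc]
  have y3 : T.r u₂ p = 0 := by rw [hu₂, T.assoc, hbp, map_zero]
  have y4 : T.r u₁ b = 0 := T.zero_of_mul' hqb b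
  have y5 : T.r u₂ b = 0 := T.zero_of_mul' hbb p
  have y6 : T.r u₁ q = 0 := by
    rw [hu₁, T.assoc, ← hqq, map_add, map_smul, map_smul, z1, z2, smul_zero, smul_zero, add_zero]
  have w1 : T.l p (T.m q p) = α₁ • e₁ := by
    rw [← T.assoc, ← hpq, map_add, LinearMap.add_apply, map_smul, map_smul,
      LinearMap.smul_apply, LinearMap.smul_apply, y1, y3, smul_zero, add_zero]
  have w2 : T.l q (T.m q p) = r₁ • e₁ := by
    rw [← T.assoc, ← hqq, map_add, LinearMap.add_apply, map_smul, map_smul,
      LinearMap.smul_apply, LinearMap.smul_apply, y1, y3, smul_zero, add_zero]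
  have w3 : T.r (T.m q p) b = e₃ := by rw [T.assoc]
  have w4 : T.r (T.m q p) p = v₂ • e₃ := by
    rw [T.assoc, ← hpp, map_add, map_smul, map_smul, z3, smul_zero, zero_add]
  have w5 : T.r (T.m q p) q = α₂ • e₃ := by
    rw [T.assoc, ← hpq, map_add, map_smul, map_smul, z3, smul_zero, zero_add]
  have he₁0 : e₁ ≠ 0 := by
    intro h
    refine hb (T.l_ne fun u => ?_)
    refine (Submodule.span_le.2 ?_ : _ ≤ LinearMap.ker (T.l b)) (hbasis' u)
    rintro _ (rfl | rfl | rfl)
    exacts [z1, z2, h]
  have hu₁0 : u₁ ≠ 0 := fun h => hqb' (by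
    obtain ⟨c, hc'⟩ := hPQ q h hq
    exact Submodule.mem_span_singleton.2 ⟨c, hc'.symm⟩)
  have hu₂0 : u₂ ≠ 0 := fun h => hpb (by
    obtain ⟨c, hc'⟩ := hPQ p hp h
    exact Submodule.mem_span_singleton.2 ⟨c, hc'.symm⟩)
  have hext : ∀ u : U, T.l b u = 0 → T.l p u = 0 → T.l q u = 0 → u = 0 := fun u a1 a2 a3 =>
    T.lf u fun a => by
      refine (Submodule.span_le.2 ?_ : _ ≤ LinearMap.ker (T.l.flip u)) (hgen ▸ Submodule.mem_top)
      rintro _ (rfl | rfl | rfl)
      exacts [a1, a2, a3]
  have he₂0 : e₂ ≠ 0 := fun h => hu₁0 (hext u₁ z1 h z3)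
  have he₃0 : e₃ ≠ 0 := fun h => hu₂0 (hext u₂ z2 z4 h)
  have hαv : α₁ = v₂ := by
    have e : T.r (T.m p p) q = T.l p (T.m p q) := T.assoc p p q
    rw [← hpp, ← hpq] at e
    simp only [map_add, map_smul, LinearMap.add_apply, LinearMap.smul_apply, y6, y2, z4,
      smul_zero, zero_add, add_zero, ← he₂] at e
    exact (sub_eq_zero.1 ((smul_eq_zero.1 (by rw [sub_smul, e, sub_self] :
      (v₂ - α₁) • e₂ = 0)).resolve_right he₂0)).symm
  have hαr : α₂ = r₁ := by
    have e : T.r (T.m p q) q = T.l p (T.m q q) := T.assoc p q q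
    rw [← hpq, ← hqq] at e
    simp only [map_add, map_smul, LinearMap.add_apply, LinearMap.smul_apply, y6, y2, z4,
      smul_zero, zero_add, add_zero, ← he₂] at e
    exact sub_eq_zero.1 ((smul_eq_zero.1 (by rw [sub_smul, e, sub_self] :
      (α₂ - r₁) • e₂ = 0)).resolve_right he₂0)
  -- a relation between the three monomials
  obtain ⟨A, B, C, hrel, hsum⟩ : ∃ A B C : k, A • e₁ + B • e₂ + C • e₃ = 0 ∧ A + B + C = 1 := by
    set S := Submodule.span k ({e₁ - e₂, e₂ - e₃} : Set X) with hS
    have s12 : e₁ - e₂ ∈ S := Submodule.subset_span (by simp)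
    have s23 : e₂ - e₃ ∈ S := Submodule.subset_span (by simp)
    have s13 : e₁ - e₃ ∈ S := by
      have := S.add_mem s12 s23
      rwa [show e₁ - e₂ + (e₂ - e₃) = e₁ - e₃ by abel] at this
    have hall : ∀ x, x ∈ S := sub_of_top hX fun s : V × U => by
      obtain ⟨a, u⟩ := s
      show T.l a u - T.r u a ∈ S
      let D : V →ₗ[k] U →ₗ[k] X := T.l - T.r.flip
      show D a u ∈ S
      have hD : ∀ a u, D a u = T.l a u - T.r u a := fun a u => rfl
      refine (Submodule.span_le.2 ?_ : _ ≤ S.comap (D a)) (hbasis' u)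
      rintro w hw
      refine (Submodule.span_le.2 ?_ : _ ≤ S.comap (D.flip w)) (hgen ▸ Submodule.mem_top)
      rintro c hc'
      show D c w ∈ S
      rw [hD]
      rcases hc' with rfl | rfl | rfl <;> rcases hw with rfl | rfl | rfl
      · rw [z1, y4, sub_self]; exact S.zero_mem
      · rw [z2, y5, sub_self]; exact S.zero_mem
      · rw [w3]; exact s13
      · rw [y1, ← he₂, ← neg_sub]; exact S.neg_mem s12
      · rw [z4, y3, sub_self]; exact S.zero_mem
      · rw [w1, w4, ← hαv, ← smul_sub]; exact S.smul_mem _ s13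
      · rw [z3, y6, sub_self]; exact S.zero_mem
      · rw [y2, ← he₃, ← neg_sub]; exact S.neg_mem s23
      · rw [w2, w5, hαr, ← smul_sub]; exact S.smul_mem _ s13
    obtain ⟨s, t, hst⟩ := Submodule.mem_span_pair.1 (hall e₁)
    refine ⟨1 - s, s - t, t, ?_, by ring⟩
    linear_combination (norm := module) -hst
  -- degree four
  set c₁ := N.l b e₃ with hc₁
  set c₂ := N.l p e₁ with hc₂
  set c₃ := N.l q e₂ with hc₃
  have mb : N.mm u₁ u₁ = 0 := by rw [hu₁, ← N.assocl, T.zero_of_mul hqb q, map_zero]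
  have mp : N.mm u₂ u₂ = 0 := by rw [hu₂, ← N.assocl, T.zero_of_mul hbp b, map_zero]
  have mpb : N.mm u₂ u₁ = 0 := by rw [hu₂, ← N.assocl, T.zero_of_mul hbb q, map_zero]
  have mc : N.mm u₁ u₂ = c₁ := by rw [hu₁, ← N.assocl]
  have f1 : N.l b e₁ = 0 := by rw [he₁, N.assocl, hbb, map_zero, LinearMap.zero_apply]
  have f2 : N.l b e₂ = 0 := by rw [he₂, N.assocl, hbp, map_zero, LinearMap.zero_apply]
  have f5 : N.l p e₂ = 0 := by
    rw [he₂, N.assocl, ← hpp, map_add, LinearMap.add_apply, map_smul, map_smul,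
      LinearMap.smul_apply, LinearMap.smul_apply, mb, mpb, smul_zero, smul_zero, add_zero]
  have f6 : N.l p e₃ = α₁ • c₁ := by
    rw [he₃, N.assocl, ← hpq, map_add, LinearMap.add_apply, map_smul, map_smul,
      LinearMap.smul_apply, LinearMap.smul_apply, mc, mp, smul_zero, add_zero]
  have f7 : N.l q e₁ = 0 := by rw [he₁, N.assocl, hqb, map_zero, LinearMap.zero_apply]
  have f9 : N.l q e₃ = r₁ • c₁ := by
    rw [he₃, N.assocl, ← hqq, map_add, LinearMap.add_apply, map_smul, map_smul,
      LinearMap.smul_apply, LinearMap.smul_apply, mc, mp, smul_zero, add_zero]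
  have g1 : N.r e₁ b = c₁ := by rw [hc₁, he₁, N.assoc, w3]
  have g2 : N.r e₂ b = 0 := by rw [he₂, N.assoc, y4, map_zero]
  have g3 : N.r e₃ b = 0 := by rw [he₃, N.assoc, y5, map_zero]
  have g4 : N.r e₁ p = v₂ • c₁ := by rw [he₁, N.assoc, w4, map_smul, ← hc₁]
  have g5 : N.r e₂ p = c₂ := by rw [he₂, N.assoc, y1, ← hc₂]
  have g6 : N.r e₃ p = 0 := by rw [he₃, N.assoc, y3, map_zero]
  have g7 : N.r e₁ q = α₂ • c₁ := by rw [he₁, N.assoc, w5, map_smul, ← hc₁]
  have g8 : N.r e₂ q = 0 := by rw [he₂, N.assoc, y6, map_zero]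
  have g9 : N.r e₃ q = c₃ := by rw [he₃, N.assoc, y2, ← hc₃]
  have Lb := congrArg (N.l b) hrel
  have Lp := congrArg (N.l p) hrel
  have Lq := congrArg (N.l q) hrel
  have Rb := congrArg (fun x => N.r x b) hrel
  have Rp := congrArg (fun x => N.r x p) hrel
  have Rq := congrArg (fun x => N.r x q) hrel
  simp only [map_add, map_smul, map_zero, LinearMap.add_apply, LinearMap.smul_apply,
    LinearMap.zero_apply, f1, f2, f5, f6, f7, f9, g1, g2, g3, g4, g5, g6, g7, g8, g9,
    ← hc₁, ← hc₂, ← hc₃, smul_zero, zero_add, add_zero] at Lb Lp Lq Rb Rp Rq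
  -- two coefficients are nonzero
  have hAB : A ≠ 0 ∨ B ≠ 0 := by
    by_contra h
    push Not at h
    rw [h.1, h.2, zero_smul, zero_smul, zero_add, zero_add] at hrel
    rw [h.1, h.2] at hsum
    simp only [zero_add] at hsum
    rw [hsum, one_smul] at hrel
    exact he₃0 hrel
  have hBC : B ≠ 0 ∨ C ≠ 0 := by
    by_contra h
    push Not at h
    rw [h.1, h.2, zero_smul, zero_smul, add_zero, add_zero] at hrel
    rw [h.1, h.2] at hsum
    simp only [add_zero] at hsum
    rw [hsum, one_smul] at hrel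
    exact he₁0 hrel
  have hAC : A ≠ 0 ∨ C ≠ 0 := by
    by_contra h
    push Not at h
    rw [h.1, h.2, zero_smul, zero_smul, zero_add, add_zero] at hrel
    rw [h.1, h.2] at hsum
    simp only [zero_add, add_zero] at hsum
    rw [hsum, one_smul] at hrel
    exact he₂0 hrel
  have hz1 : c₁ = 0 := hAC.elim (fun h => coeff_kill h Rb) (fun h => coeff_kill h Lb)
  simp only [hz1, smul_zero, add_zero, zero_add] at Lp Lq Rp Rq
  have hz2 : c₂ = 0 := hAB.elim (fun h => coeff_kill h Lp) (fun h => coeff_kill h Rp)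
  have hz3 : c₃ = 0 := hBC.elim (fun h => coeff_kill h Lq) (fun h => coeff_kill h Rq)
  intro y
  refine (Submodule.mem_bot k).1 (N.mem3 (fun a c u => ?_) y)
  rw [Submodule.mem_bot]
  have key : ∀ d ∈ ({b, p, q} : Set V), ∀ e ∈ ({e₁, e₂, e₃} : Set X), N.l d e = 0 := by
    intro d hd e he
    rcases hd with rfl | rfl | rfl <;> rcases he with rfl | rfl | rfl
    exacts [f1, f2, hz1, hz2, f5, by rw [f6, hz1, smul_zero], f7, hz3,
      by rw [f9, hz1, smul_zero]]
  have hXspan : ∀ c u, T.l c u ∈ Submodule.span k ({e₁, e₂, e₃} : Set X) := by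
    intro c u
    refine (Submodule.span_le.2 ?_ : _ ≤ Submodule.comap (T.l c) (Submodule.span k ({e₁, e₂, e₃} : Set X))) (hbasis' u)
    intro w hw
    refine (Submodule.span_le.2 ?_ : _ ≤ Submodule.comap (T.l.flip w)
      (Submodule.span k ({e₁, e₂, e₃} : Set X))) (hgen ▸ Submodule.mem_top)
    intro d hd
    show T.l d w ∈ Submodule.span k ({e₁, e₂, e₃} : Set X)
    rcases hd with rfl | rfl | rfl <;> rcases hw with rfl | rfl | rfl <;>
      simp only [z1, z2, z3, z4, w1, w2, ← he₁, ← he₂, ← he₃] <;>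
      first
      | exact Submodule.zero_mem _
      | (refine Submodule.smul_mem _ _ (Submodule.subset_span ?_); simp; done)
      | (refine Submodule.subset_span ?_; simp; done)
  refine (Submodule.span_le.2 ?_ : _ ≤ LinearMap.ker (N.l.flip (T.l c u))) (hgen ▸ Submodule.mem_top)
  intro d hd
  refine (Submodule.span_le.2 ?_ : _ ≤ LinearMap.ker (N.l d)) (hXspan c u)
  exact fun e he => key d hd e he

end CfsgLib.Blocks.KFive
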