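import Cfsg.Agent.Lib.Blocks.AbData
import Cfsg.Agent.Lib.Blocks.AbelianTriv
import Cfsg.Agent.Lib.Blocks.AbelianRankOne
import Cfsg.Agent.Lib.Blocks.OneMore

/-!
# Abelian defect group: the subsection at an element with trivial stabilizer
-/

namespace CfsgLib.Blocks.KFive

open Cfsg CfsgLib.CharTheory CfsgLib.Blocks
open scoped ComplexConjugate

set_option linter.unusedVariables false
set_option linter.unusedSimpArgs false
set_option linter.style.haveILetI false
set_option linter.unusedSectionVars false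

universe u

variable {p : ℕ} {M : Ideal AlgInt} {G : Type u} [Group G] [Fintype G]

/-- A maximal pair with abelian group. -/
structure Pr (p : ℕ) (M : Ideal AlgInt) (B : Set (IrrCharacter G)) (P : Subgroup G)
    (c : Set (IrrCharacter (Subgroup.centralizer (P : Set G)))) : Prop where
  mod : IsPModular p M
  max : IsMaximalBrauerPair p M B P c
  comm : ∀ x ∈ P, ∀ y ∈ P, x * y = y * x

namespace Pr

variable {B : Set (IrrCharacter G)} {P : Subgroup G}
  {c : Set (IrrCharacter (Subgroup.centralizer (P : Set G)))} (h : Pr p M B P c)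

include h

theorem isP : IsPGroup p P := h.max.1.1.1

theorem isBlock : IsPBlock M B := h.max.1.2.1

theorem isBlockC : IsPBlock M c := h.max.1.1.2

theorem card : Nat.card P = p ^ blockDefect p B := by
  haveI : Fact p.Prime := ⟨h.mod.1⟩
  exact card_defectGroup h.mod h.isBlock (maximal_isDefectGroup h.mod h.max)

theorem zpowers_le {u : G} (hu : u ∈ P) : Subgroup.zpowers u ≤ P := Subgroup.zpowers_le.2 hu

theorem ord {u : G} (hu : u ∈ P) : ∃ k : ℕ, orderOf u = p ^ k := by
  haveI : Fact p.Prime := ⟨h.mod.1⟩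
  obtain ⟨k, hk⟩ := IsPGroup.iff_orderOf.1 h.isP ⟨u, hu⟩
  exact ⟨k, by rw [← hk, Subgroup.orderOf_mk]⟩

theorem below_spec {Q : Subgroup G} (hQ : Q ≤ P) :
    IsPBlock M (belowIdx p M P c Q).2 ∧ SubpairLE p M Q (belowIdx p M P c Q).2 P c := by
  obtain ⟨f, hf, -⟩ := existsUnique_subpair h.mod h.isP h.isBlockC Q hQ
  exact Classical.epsilon_spec (p := fun f => IsPBlock M f ∧ SubpairLE p M Q f P c) ⟨f, hf⟩

theorem induced_below {Q : Subgroup G} (hQ : Q ≤ P)
    [Fintype (Subgroup.centralizer (Q : Set G))] :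
    IsInducedBlock M (Subgroup.centralizer (Q : Set G)) (belowIdx p M P c Q).2 B :=
  (induced_centralizer_iff h.mod (h.isP.to_le hQ)).2
    ((pairOf_subpair_iff h.mod (a := ⟨Q, (belowIdx p M P c Q).2⟩) (b := ⟨P, c⟩)
      (h.below_spec hQ).2 B).2 h.max.1)

theorem defect_below {Q : Subgroup G} (hQ : Q ≤ P) :
    blockDefect p (belowIdx p M P c Q).2 = blockDefect p B := by
  haveI := Fintype.ofFinite (Subgroup.centralizer (Q : Set G))
  obtain ⟨f, hstep, -, hdef, -⟩ := exists_local_abelian h.mod h.max h.comm hQ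
  obtain ⟨hb, hle⟩ := h.below_spec hQ
  obtain rfl := subpair_unique h.mod h.isP h.isBlockC hstep.1.2 hb
    (Relation.ReflTransGen.single hstep) hle
  exact hdef

/-- An element with trivial stabilizer has a subsection with one Brauer character. -/
theorem rank_below {u : G} (hu : u ∈ P)
    (hst : ∀ t ∈ pairStab P c, t * u = u * t → t ∈ Subgroup.centralizer (P : Set G)) :
    blockRank p (belowIdx p M P c (Subgroup.zpowers u)).2 = 1 := by
  classical
  haveI := Fintype.ofFinite (Subgroup.centralizer ((Subgroup.zpowers u : Subgroup G) : Set G))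
  obtain ⟨f, hstep, -, -, a, ha, hup, hmax'⟩ :=
    exists_local_abelian h.mod h.max h.comm (h.zpowers_le hu)
  obtain ⟨hb, hle⟩ := h.below_spec (h.zpowers_le hu)
  obtain rfl := subpair_unique h.mod h.isP h.isBlockC hstep.1.2 hb
    (Relation.ReflTransGen.single hstep) hle
  obtain ⟨-, hab', hst', hcent⟩ := local_abelian_props hup h.comm
  exact (rank_one_of_abelian_triv h.mod hmax' hab' fun y hy =>
    (hcent y).1 (hst _ (hst' y hy) ((isCentr_zpowers u y).1 y.2))).1

/-- A block below an element has at most three Brauer characters if the defect group has order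
eight and some other element has trivial common stabilizer with it. -/
theorem rank_below_le (h8 : p ^ blockDefect p B = 8) {u w : G} (hu : u ∈ P) (hu1 : u ≠ 1)
    (hw : w ∈ P) (hw1 : w ≠ 1) (hwu : w ≠ u)
    (hst : ∀ t ∈ pairStab P c, t * u = u * t → t * w = w * t →
      t ∈ Subgroup.centralizer (P : Set G))
    {f : Set (IrrCharacter (Subgroup.centralizer ((Subgroup.zpowers u : Subgroup G) : Set G)))}
    (hf : SubpairLE p M (Subgroup.zpowers u) f P c) (hfb : IsPBlock M f) :
    blockRank p f ≤ 3 := by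
  classical
  set H := Subgroup.centralizer ((Subgroup.zpowers u : Subgroup G) : Set G) with hH
  haveI := Fintype.ofFinite H
  obtain ⟨f', hstep, -, hdef, a, ha, hup, hmax'⟩ :=
    exists_local_abelian h.mod h.max h.comm (h.zpowers_le hu)
  obtain rfl := subpair_unique h.mod h.isP h.isBlockC hstep.1.2 hfb
    (Relation.ReflTransGen.single hstep) hf
  obtain ⟨-, hab', hst', hcent⟩ := local_abelian_props hup h.comm
  have hmap : a.1.map H.subtype = P := le_map_subtype_of_eq hup
  obtain ⟨w', hw', rfl⟩ : ∃ w' ∈ a.1, (w' : G) = w := by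
    rw [← hmap] at hw
    obtain ⟨w', hw', e⟩ := hw
    exact ⟨w', hw', e⟩
  obtain ⟨u', hu', hu'u⟩ : ∃ u' ∈ a.1, (u' : G) = u := by
    rw [← hmap] at hu
    obtain ⟨u', hu', e⟩ := hu
    exact ⟨u', hu', e⟩
  have hu'c : u' ∈ Subgroup.center H :=
    Subgroup.mem_center_iff.2 fun g => Subtype.ext (by
      show (g : G) * u' = u' * g
      rw [hu'u]; exact (isCentr_zpowers u g).1 g.2)
  have hord : ∀ {z : H}, z ∈ a.1 → ∃ k : ℕ, orderOf z = p ^ k := by
    intro z hz
    haveI : Fact p.Prime := ⟨h.mod.1⟩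
    obtain ⟨k, hk⟩ := IsPGroup.iff_orderOf.1 hmax'.1.1.1 ⟨z, hz⟩
    exact ⟨k, (Subgroup.orderOf_coe (⟨z, hz⟩ : a.1)).trans hk⟩
  -- the block below `w'` inside `C(u)`
  have hQ' : Subgroup.zpowers w' ≤ a.1 := Subgroup.zpowers_le.2 hw'
  haveI := Fintype.ofFinite (Subgroup.centralizer ((Subgroup.zpowers w' : Subgroup H) : Set H))
  obtain ⟨f2, -, hind2, hdef2, a2, ha2, hup2, hmax2⟩ :=
    exists_local_abelian h.mod hmax' hab' hQ'
  obtain ⟨-, hab2, hst2, hcent2⟩ := local_abelian_props hup2 hab'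
  have hl2 : blockRank p f2 = 1 := (rank_one_of_abelian_triv h.mod hmax2 hab2 fun y hy =>
    (hcent2 y).1 ((hcent y).1 (hst _ (hst' _ (hst2 y hy))
      ((isCentr_zpowers u _).1 (y : H).2)
      (congrArg Subtype.val ((isCentr_zpowers w' _).1 y.2).eq)))).1
  have hk : Nat.card f' ≤ 8 := by
    rw [← h8, ← hdef]
    exact card_le_of_major_rank_one h.mod (isCentr_zpowers w') (hord hw') hind2 hdef2 hl2
  have hne1 : ∀ {z : H}, (z : G) ≠ 1 → z ≠ 1 := fun hz e => hz (congrArg Subtype.val e)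
  have hwu' : w' ≠ u' := fun e => hwu (by rw [e]; exact hu'u)
  have hsum := sum_rankSum_le h.mod hfb {1, u', w'} (fun s hs => by
      simp only [Finset.mem_insert, Finset.mem_singleton] at hs
      rcases hs with rfl | rfl | rfl
      exacts [⟨0, by simp⟩, hord hu', hord hw'])
    (fun s hs t ht hst' => by
      simp only [Finset.mem_insert, Finset.mem_singleton] at hs ht
      have hc : ∀ {z : H}, IsConj u' z → z = u' := by
        intro z hz
        obtain ⟨g, hg⟩ := isConj_iff.1 hz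
        rw [← hg, Subgroup.mem_center_iff.1 hu'c g, mul_inv_cancel_right]
      rcases hs with rfl | rfl | rfl <;> rcases ht with rfl | rfl | rfl
      · rfl
      · exact (isConj_one_right.1 hst').symm
      · exact (isConj_one_right.1 hst').symm
      · exact isConj_one_right.1 hst'.symm
      · rfl
      · exact (hc hst').symm
      · exact isConj_one_right.1 hst'.symm
      · exact hc hst'.symm
      · rfl)
  haveI := Fintype.ofFinite (Subgroup.centralizer ((Subgroup.zpowers (1 : H) : Subgroup H) : Set H))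
  haveI := Fintype.ofFinite (Subgroup.centralizer ((Subgroup.zpowers u' : Subgroup H) : Set H))
  have hu'1 : (u' : G) ≠ 1 := fun e => hu1 (hu'u.symm.trans e)
  rw [Finset.sum_insert (by simp [(hne1 hu'1).symm, (hne1 hw1).symm]),
    Finset.sum_insert (by simp [hwu'.symm]), Finset.sum_singleton,
    rankSum_central h.mod (isCentr_zpowers (1 : H)) ⟨0, by simp⟩ (Subgroup.one_mem _) hfb,
    rankSum_central h.mod (isCentr_zpowers u') (hord hu') hu'c hfb] at hsum
  have := rankSum_pos h.mod hmax' hw'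
  omega

theorem dsec_off {u : G} (hu : u ∈ P) {χ : IrrCharacter G} (hχ : χ ∉ B) :
    dsec p M P c u (χ : G → ℂ) = 0 := by
  haveI := Fintype.ofFinite (Subgroup.centralizer ((Subgroup.zpowers u : Subgroup G) : Set G))
  exact cval_off h.mod (isCentr_zpowers u) (h.ord hu) (h.induced_below (h.zpowers_le hu)) hχ

theorem dsec_sq {u : G} (hu : u ∈ P)
    (hl : blockRank p (belowIdx p M P c (Subgroup.zpowers u)).2 = 1) :
    ∑ χ ∈ bset B, dsec p M P c u (χ : G → ℂ) * conj (dsec p M P c u (χ : G → ℂ)) =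
      (p : ℂ) ^ blockDefect p B := by
  haveI := Fintype.ofFinite (Subgroup.centralizer ((Subgroup.zpowers u : Subgroup G) : Set G))
  rw [← h.defect_below (h.zpowers_le hu)]
  exact sum_cval_sq h.mod (isCentr_zpowers u) (h.ord hu) (h.induced_below (h.zpowers_le hu)) hl

theorem conj_related {u v : G} (hu : u ∈ P) (hv : v ∈ P) {g : G} (hg : g * u * g⁻¹ = v)
    (hidx : conjIdx g (belowIdx p M P c (Subgroup.zpowers u)) =
      belowIdx p M P c (Subgroup.zpowers v)) :
    ∃ t ∈ pairStab P c, t * u * t⁻¹ = v := by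
  have hF := blockFusion_isBlockFusion h.mod h.max
  obtain ⟨-, h1⟩ := h.below_spec (h.zpowers_le hu)
  have h2 : Relation.ReflTransGen (NormalSubpairRel p M)
      (conjIdx g (belowIdx p M P c (Subgroup.zpowers u))) ⟨P, c⟩ := by
    rw [hidx]; exact (h.below_spec (h.zpowers_le hv)).2
  have hmem : conjHom (Subgroup.zpowers u) g ∈
      (blockFusion h.mod h.max).Hom (Subgroup.zpowers u) :=
    (hF.2 (Subgroup.zpowers u) _).2 ⟨h.zpowers_le hu, g, fun _ => rfl,
      subpairLE_le h2, _, h1, h2⟩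
  obtain ⟨t, ht, hte⟩ := exists_extend_abelian h.mod hF h.comm hmem
  exact ⟨t, ht, (hte ⟨u, Subgroup.mem_zpowers u⟩).symm.trans hg⟩

theorem dsec_orth {u v : G} (hu : u ∈ P) (hv : v ∈ P)
    (hr : ¬ ∃ t ∈ pairStab P c, t * u * t⁻¹ = v) :
    ∑ χ ∈ bset B, dsec p M P c u (χ : G → ℂ) * conj (dsec p M P c v (χ : G → ℂ)) = 0 := by
  classical
  haveI : ∀ Q : Subgroup G, Fintype (Subgroup.centralizer (Q : Set G)) :=
    fun Q => Fintype.ofFinite _
  have hb := fun {w : G} (hw : w ∈ P) => (h.below_spec (h.zpowers_le hw)).1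
  rw [Finset.sum_subset (Finset.subset_univ _) fun χ _ hχ => by
    rw [h.dsec_off hu (fun h' => hχ (mem_bset.2 h')), zero_mul]]
  by_cases hc : IsConj u v
  · obtain ⟨g, rfl⟩ := isConj_iff.1 hc
    set a' := conjIdx g⁻¹ (belowIdx p M P c (Subgroup.zpowers (g * u * g⁻¹))) with ha'
    have hgu : g⁻¹ * (g * u * g⁻¹) * g⁻¹⁻¹ = u := by group
    have e : ∀ χ : IrrCharacter G, dsec p M P c (g * u * g⁻¹) (χ : G → ℂ) =
        cval u a' (χ : G → ℂ) := fun χ => by
      have e2 := cval_conj χ g⁻¹ (g * u * g⁻¹) (belowIdx p M P c (Subgroup.zpowers (g * u * g⁻¹)))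
      rw [hgu] at e2
      exact e2.symm
    simp only [e]
    have hblk : IsPBlock M a'.2 := isPBlock_conjBlock (hb hv) g⁻¹
    have h1 : a'.1 = Subgroup.zpowers u := by
      show (Subgroup.zpowers (g * u * g⁻¹)).map (MulAut.conj g⁻¹).toMonoidHom = _
      rw [CfsgLib.Blocks.zpowers_conj, hgu]
    have hback : conjIdx g a' = belowIdx p M P c (Subgroup.zpowers (g * u * g⁻¹)) := by
      rw [ha', conjIdx_mul, mul_inv_cancel, conjIdx_one]
    obtain ⟨Q, b'⟩ := a'
    change Q = Subgroup.zpowers u at h1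
    subst h1
    refine sum_cval_disjoint h.mod (isCentr_zpowers u) (h.ord hu) (hb hu) hblk fun heq => hr ?_
    refine h.conj_related hu hv (g := g) rfl ?_
    rw [← hback, ← heq]
  · exact sum_cval_ne h.mod (hb hv) (isCentr_zpowers u) (isCentr_zpowers v) (h.ord hu)
      (h.ord hv) (hb hu) hc

theorem dsec_one {u : G} (hu : u ∈ P) (hu1 : u ≠ 1) :
    ∑ χ ∈ bset B, dsec p M P c u (χ : G → ℂ) * (χ : G → ℂ) 1 = 0 := by
  classical
  haveI : ∀ Q : Subgroup G, Fintype (Subgroup.centralizer (Q : Set G)) :=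
    fun Q => Fintype.ofFinite _
  rw [Finset.sum_subset (Finset.subset_univ _) fun χ _ hχ => by
    rw [h.dsec_off hu (fun h' => hχ (mem_bset.2 h')), zero_mul]]
  have e : ∀ χ : IrrCharacter G, (χ : G → ℂ) 1 = conj ((χ : G → ℂ) 1) := fun χ => by
    rw [irr_one_conj]
  simp only [fun χ : IrrCharacter G => congrArg (fun z => dsec p M P c u (χ : G → ℂ) * z) (e χ)]
  refine sum_cval_mul_conj_irr h.mod (h.below_spec (h.zpowers_le hu)).1 fun y hy hcj => ?_
  obtain ⟨g, hg⟩ := isConj_iff.1 hcj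
  have e1 : u * (y : G) = 1 := conj_eq_one_iff.1 hg
  obtain ⟨k, hk⟩ := h.ord hu
  have e2 : orderOf u = orderOf y := by
    rw [← orderOf_inv u, ← Subgroup.orderOf_coe, inv_eq_of_mul_eq_one_right e1]
  rcases Nat.eq_zero_or_pos k with rfl | hk0
  · exact hu1 (orderOf_eq_one_iff.1 (by rw [hk, pow_zero]))
  · exact hy (e2 ▸ hk ▸ dvd_pow_self p hk0.ne')

theorem dsec_ne_zero {u : G} (hu : u ∈ P)
    (hl : blockRank p (belowIdx p M P c (Subgroup.zpowers u)).2 = 1) {ψ : IrrCharacter G}
    (hψ : ψ ∈ B) : dsec p M P c u (ψ : G → ℂ) ≠ 0 := by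
  haveI := Fintype.ofFinite (Subgroup.centralizer ((Subgroup.zpowers u : Subgroup G) : Set G))
  obtain ⟨χ, hχ, h0⟩ := exists_height_zero h.mod h.isBlock
  obtain ⟨w, hw, -, hw0⟩ := secPair_div h.mod (isCentr_zpowers u) (h.ord hu)
    (h.induced_below (h.zpowers_le hu)) (h.defect_below (h.zpowers_le hu)) hχ hψ h0
  intro h1
  rw [secPair_eq_cval h.mod (h.below_spec (h.zpowers_le hu)).1 hl u,
    show cval u ⟨_, (belowIdx p M P c (Subgroup.zpowers u)).2⟩ (ψ : G → ℂ) = 0 from h1,
    map_zero, mul_zero] at hw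
  exact mul_ne_zero (pow_ne_zero _ (Nat.cast_ne_zero.2 h.mod.1.ne_zero)) hw0 hw.symm

/-- At an involution the values are integers. -/
theorem dsec_int {u : G} (hu : u ∈ P) (hu2 : u * u = 1)
    (hl : blockRank p (belowIdx p M P c (Subgroup.zpowers u)).2 = 1) (χ : IrrCharacter G) :
    ∃ z : ℤ, dsec p M P c u (χ : G → ℂ) = (z : ℂ) := by
  classical
  set Q := Subgroup.zpowers u with hQ
  set H := Subgroup.centralizer (Q : Set G) with hH
  haveI : Fintype H := Fintype.ofFinite _
  obtain ⟨φ, d, n, hf, -, -, -, hdeg, -⟩ :=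
    single_block h.mod (h.below_spec (h.zpowers_le hu)).1 hl
  choose k hk using fun θ : IrrCharacter H =>
    classInner_char_nat (isCharacter_restrict_irr H χ) (isCharacter_of_irr θ.2)
  have hexp : ∀ y : H, (χ : G → ℂ) y = ∑ θ, (k θ : ℂ) * (θ : H → ℂ) y := fun y => by
    have := congrFun (eq_sum_irr (isClassFunction_char (isCharacter_restrict_irr H χ))) y
    simpa [hk] using this
  have huH : u ∈ H := (isCentr_zpowers u).self_mem
  set z : H := ⟨u, huH⟩ with hz
  have hzc : z ∈ Subgroup.center H :=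
    Subgroup.mem_center_iff.2 fun g => Subtype.ext ((isCentr_zpowers u g).1 g.2)
  have hpm : ∀ θ : IrrCharacter H, ∃ s : ℤ,
      (θ : H → ℂ) z / (θ : H → ℂ) 1 = (s : ℂ) := by
    intro θ
    have e := central_value_mul hzc θ z
    rw [show z * z = 1 from Subtype.ext hu2] at e
    have e1 : ((θ : H → ℂ) z / (θ : H → ℂ) 1) * ((θ : H → ℂ) z / (θ : H → ℂ) 1) = 1 := by
      rw [← mul_div_assoc, ← e, div_self (irr_one_ne_zero θ)]
    rcases mul_self_eq_one_iff.1 e1 with hh | hh
    · exact ⟨1, by rw [hh]; simp⟩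
    · exact ⟨-1, by rw [hh]; simp⟩
  choose s hs using hpm
  refine ⟨∑ θ : IrrCharacter H,
    if θ ∈ (belowIdx p M P c Q).2 then (k θ : ℤ) * s θ * (d θ : ℤ) else 0, ?_⟩
  show cval u (belowIdx p M P c Q) (χ : G → ℂ) = _
  rw [show u = ((z : H) : G) from rfl,
    cval_sext_expand (H := H) (a := belowIdx p M P c Q) z.2 le_rfl (fun θ => (k θ : ℂ)) hexp]
  push_cast
  refine Finset.sum_congr rfl fun θ _ => ?_
  rw [cval_central hzc le_rfl θ, cval_self h.mod hf hdeg θ, hs]
  by_cases hθ : θ ∈ (belowIdx p M P c Q).2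
  · rw [ind_of_mem hθ, if_pos hθ]; ring
  · rw [ind_of_notMem hθ, if_neg hθ]; ring

end Pr

end CfsgLib.Blocks.KFive
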