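import Cfsg.Agent.Lib.Blocks.KFive.Arith
import Cfsg.Agent.Lib.Blocks.KFive.Action
import Cfsg.Agent.Lib.Blocks.KFive.Pair
import Cfsg.Agent.Lib.Blocks.SmallNilpotent

/-!
# Five characters and one Brauer character: a defect group of order eight is not abelian
-/

namespace CfsgLib.Blocks.KFive

open Cfsg CfsgLib.CharTheory CfsgLib.Blocks
open scoped ComplexConjugate

set_option linter.unusedVariables false
set_option linter.unusedSimpArgs false
set_option linter.style.haveILetI false
set_option linter.unusedSectionVars false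

universe u

variable {p : ℕ} {M : Ideal AlgInt} {G : Type u} [Group G] [Fintype G]

theorem not_abelian_eight [Fact p.Prime] (hM : IsPModular p M) {B : Set (IrrCharacter G)}
    {P : Subgroup G} {c : Set (IrrCharacter (Subgroup.centralizer (P : Set G)))}
    (hmax : IsMaximalBrauerPair p M B P c) (hab : ∀ x ∈ P, ∀ y ∈ P, x * y = y * x)
    (hl : blockRank p B = 1) (hk : Nat.card B = 5) (h8 : p ^ blockDefect p B = 8) : False := by
  classical
  have h : Pr p M B P c := ⟨hM, hmax, hab⟩
  have hcP : Nat.card P = 8 := h.card.trans h8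
  have hp2 : p = 2 := (Nat.prime_dvd_prime_iff_eq hM.1 Nat.prime_two).1 (hM.1.dvd_of_dvd_pow
    (show p ∣ 2 ^ 3 from (show p ∣ p ^ blockDefect p B from dvd_pow_self p (by
      intro h0; rw [h0, pow_zero] at h8; omega)).trans (by rw [h8]; norm_num)))
  letI : CommGroup P :=
    { (inferInstance : Group P) with
      mul_comm := fun x y => Subtype.ext (hab x x.2 y y.2) }
  have hTN : pairStab P c ≤ Subgroup.normalizer (P : Set G) :=
    fun t ht => ((mem_pairStab t).1 ht).1
  set ρ := autHom P hTN with hρ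
  set E : Subgroup (MulAut P) := ρ.range with hEdef
  have hEauto : E = autInducedBy (pairStab P c) P := by
    ext α
    rw [mem_autInducedBy_iff]
    constructor
    · rintro ⟨t, rfl⟩
      exact ⟨t, t.2, hTN t.2, fun x => rfl⟩
    · rintro ⟨g, hg, -, hga⟩
      exact ⟨⟨g, hg⟩, MulEquiv.ext fun x => Subtype.ext (hga x).symm⟩
  have hodd : Odd (Nat.card E) := by
    rw [hEauto, Nat.odd_iff, ← Nat.two_dvd_ne_zero]
    have := inertial_coprime hM hmax hab
    rwa [hp2] at this
  have hcent : ∀ t ∈ pairStab P c, ∀ ht : t ∈ pairStab P c, ρ ⟨t, ht⟩ = 1 →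
      t ∈ Subgroup.centralizer (P : Set G) := by
    intro t _ ht e x hx
    have := congrArg (fun α : MulAut P => ((α ⟨x, hx⟩ : P) : G)) e
    exact (mul_inv_eq_iff_eq_mul.1 this).symm
  have hE : E ≠ ⊥ := by
    intro e
    have htriv : pairStab P c ≤ Subgroup.centralizer (P : Set G) := fun t ht =>
      hcent t ht ht (Subgroup.mem_bot.1 (e ▸ ⟨⟨t, ht⟩, rfl⟩ : ρ ⟨t, ht⟩ ∈ (⊥ : Subgroup _)))
    have := (rank_one_of_abelian_triv hM hmax hab htriv).2
    omega
  have hinv := sq_eq_one hodd hcP hE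
  have hact : ∀ {x : G} (hx : x ∈ P) {t : G} (ht : t ∈ pairStab P c) {y : G},
      t * x = y * t → ((ρ ⟨t, ht⟩ ⟨x, hx⟩ : P) : G) = y := by
    intro x hx t ht y e
    show t * x * t⁻¹ = y
    rw [e, mul_inv_cancel_right]
  rcases cases_of_eight hodd hcP with ⟨u, v, hu1, hv1, huv, hsu, hsv⟩ | htrans
  · -- two integer columns
    have hrk : ∀ w : P, (∀ α ∈ E, α w = w → α = 1) →
        blockRank p (belowIdx p M P c (Subgroup.zpowers (w : G))).2 = 1 := fun w hw =>
      h.rank_below w.2 fun t ht e =>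
        hcent t ht ht (hw _ ⟨⟨t, ht⟩, rfl⟩ (Subtype.ext (hact w.2 ht e)))
    have hlu := hrk u hsu
    have hlv := hrk v hsv
    choose a ha using h.dsec_int u.2 (congrArg Subtype.val (hinv u)) hlu
    choose b hb using h.dsec_int v.2 (congrArg Subtype.val (hinv v)) hlv
    obtain ⟨φ, f, d, n, hf, -, -, hdeg, -, hsq⟩ := exists_single_brauer hM h.isBlock hl
    have hs5 : (bset B).card = 5 := by rw [card_bset, hk]
    have hd0 : ∀ χ ∈ bset B, (0 : ℤ) < (d χ : ℤ) := fun χ hχ => by
      refine Int.natCast_pos.2 (Nat.pos_of_ne_zero fun h0 => (irr_charDegree_pos χ).ne' ?_)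
      rw [hdeg χ (mem_bset.1 hχ), h0, zero_mul]
    have hd8 : ∑ χ ∈ bset B, (d χ : ℤ) ^ 2 = 8 := by
      have e := hsq.trans h8
      exact_mod_cast e
    have hpC : (p : ℂ) ^ blockDefect p B = 8 := by exact_mod_cast h8
    have hcol : ∀ (w : P) (z : IrrCharacter G → ℤ), (w : G) ≠ 1 →
        blockRank p (belowIdx p M P c (Subgroup.zpowers (w : G))).2 = 1 →
        (∀ χ : IrrCharacter G, dsec p M P c (w : G) (χ : G → ℂ) = (z χ : ℂ)) →
        (∀ χ ∈ bset B, z χ ≠ 0) ∧ ∑ χ ∈ bset B, z χ ^ 2 = 8 ∧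
          ∑ χ ∈ bset B, z χ * (d χ : ℤ) = 0 := by
      intro w z hw1 hlw hz
      refine ⟨fun χ hχ h0 => h.dsec_ne_zero w.2 hlw (mem_bset.1 hχ) (by rw [hz, h0, Int.cast_zero]),
        ?_, ?_⟩
      · have e := h.dsec_sq w.2 hlw
        simp only [hz, map_intCast, hpC, ← sq] at e
        exact_mod_cast e
      · have e := h.dsec_one w.2 hw1
        rw [Finset.sum_congr rfl fun (χ : IrrCharacter G) hχ => show
          dsec p M P c (w : G) (χ : G → ℂ) * (χ : G → ℂ) 1 =
            ((z χ * (d χ : ℤ) : ℤ) : ℂ) * (f : ℂ) by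
            rw [hz, ← irr_charDegree_cast χ, hdeg χ (mem_bset.1 hχ)]
            push_cast
            ring,
          ← Finset.sum_mul, mul_eq_zero] at e
        have e' := e.resolve_right (Nat.cast_ne_zero.2 hf.ne')
        exact_mod_cast e'
    obtain ⟨ha0, ha8, had⟩ := hcol u a (fun e => hu1 (Subtype.ext e)) hlu ha
    obtain ⟨hb0, hb8, hbd⟩ := hcol v b (fun e => hv1 (Subtype.ext e)) hlv hb
    refine not_two_cols hs5 hd0 hd8 ha0 ha8 had hb0 hb8 hbd ?_
    have e := h.dsec_orth u.2 v.2 (fun ⟨t, ht, e⟩ =>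
      huv _ ⟨⟨t, ht⟩, rfl⟩ (Subtype.ext (hact u.2 ht (mul_inv_eq_iff_eq_mul.1 e))))
    simp only [ha, hb, map_intCast] at e
    exact_mod_cast e
  · -- transitive
    have h3 : ∀ u ∈ P, u ≠ 1 →
        ∀ f : Set (IrrCharacter (Subgroup.centralizer ((Subgroup.zpowers u : Subgroup G) : Set G))),
          SubpairLE p M (Subgroup.zpowers u) f P c → blockRank p f ≤ 3 := by
      intro u hu hu1 f hf
      have hfb : IsPBlock M f := by
        rcases Relation.ReflTransGen.cases_head
          (show Relation.ReflTransGen (NormalSubpairRel p M)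
            (⟨Subgroup.zpowers u, f⟩ : BrauerPairIdx G) ⟨P, c⟩ from hf) with e | ⟨x, hx, -⟩
        · have key : ∀ a b : BrauerPairIdx G, a = b → IsPBlock M b.2 → IsPBlock M a.2 := by
            rintro a b rfl h'; exact h'
          exact key _ _ e h.isBlockC
        · exact hx.1.2
      obtain ⟨w, hw⟩ : ∃ w : P, w ∉ ({1, ⟨u, hu⟩} : Set P) := by
        by_contra hc
        push Not at hc
        have h1 : (Set.univ : Set P).ncard ≤ _ := Set.ncard_le_ncard fun z _ => hc z
        have h2 := Set.ncard_insert_le (1 : P) ({⟨u, hu⟩} : Set P)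
        rw [Set.ncard_univ, hcP] at h1
        rw [Set.ncard_singleton] at h2
        omega
      simp only [Set.mem_insert_iff, Set.mem_singleton_iff, not_or] at hw
      refine h.rank_below_le h8 hu hu1 w.2 (fun e => hw.1 (Subtype.ext e))
        (fun e => hw.2 (Subtype.ext e)) (fun t ht e e' => hcent t ht ht ?_) hf hfb
      exact auto_eq_one hcP (orderOf_odd hodd ⟨⟨t, ht⟩, rfl⟩)
        (fun e0 => hu1 (congrArg Subtype.val e0)) hw.1 (Ne.symm hw.2)
        (Subtype.ext (hact hu ht e)) (Subtype.ext (hact w.2 ht e'))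
    have := card_le_of_transitive hM hmax (fun u hu hu1 v hv hv1 => by
      obtain ⟨α, ⟨t, rfl⟩, e⟩ := htrans ⟨u, hu⟩ ⟨v, hv⟩ (fun e => hu1 (congrArg Subtype.val e))
        (fun e => hv1 (congrArg Subtype.val e))
      exact ⟨t, t.2, congrArg Subtype.val e⟩) 3 h3
    omega

end CfsgLib.Blocks.KFive
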