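import Cfsg.Agent.Lib.Blocks.KFive.Upper
import Mathlib.Algebra.Algebra.Operations

/-!
# The pairing quotient of the graded pieces of a nilpotent subspace
-/

namespace CfsgLib.Blocks.KFive

open Module

set_option linter.unusedVariables false
set_option linter.unusedSectionVars false

/-- A nilpotent subspace with a trace-like functional. -/
structure Filt (k A : Type*) [Field k] [Ring A] [Algebra k A] where
  N : Submodule k A
  t : A →ₗ[k] k
  top : ℕ
  hts : ∀ a b : A, t (a * b) = t (b * a)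
  hnil : N ^ (top + 1) = ⊥

variable {k A : Type*} [Field k] [Ring A] [Algebra k A]

namespace Filt

variable (D : Filt k A)

/-- The elements pairing to zero with the complementary power. -/
def null (i : ℕ) : Submodule k A where
  carrier := {x | ∀ y ∈ D.N ^ (D.top - i), D.t (x * y) = 0}
  zero_mem' := fun y _ => by rw [zero_mul, map_zero]
  add_mem' := fun ha hb y hy => by rw [add_mul, map_add, ha y hy, hb y hy, add_zero]
  smul_mem' := fun c x hx y hy => by rw [smul_mul_assoc, map_smul, hx y hy, smul_zero]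

theorem pow_le_null {i j : ℕ} (hi : i ≤ D.top) (hij : i < j) : D.N ^ j ≤ D.null i := by
  intro x hx y hy
  have h := Submodule.mul_mem_mul hx hy
  rw [← pow_add, show j + (D.top - i) = (D.top + 1) + (j - i - 1) by omega, pow_add, D.hnil,
    Submodule.bot_mul, Submodule.mem_bot] at h
  rw [h, map_zero]

/-- One graded piece. -/
abbrev Lev (i : ℕ) : Type _ := ↥(D.N ^ i) ⧸ (D.null i).comap (D.N ^ i).subtype

/-- The class of an element. -/
def cls (i : ℕ) : ↥(D.N ^ i) →ₗ[k] D.Lev i := Submodule.mkQ _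

theorem cls_surjective (i : ℕ) : Function.Surjective (D.cls i) := Submodule.mkQ_surjective _

theorem cls_eq_zero {i : ℕ} {x : A} (hx : x ∈ D.N ^ i) :
    D.cls i ⟨x, hx⟩ = 0 ↔ x ∈ D.null i := Submodule.Quotient.mk_eq_zero _

theorem mul_mem_pow {i j l : ℕ} (h : i + j = l) {x y : A} (hx : x ∈ D.N ^ i) (hy : y ∈ D.N ^ j) :
    x * y ∈ D.N ^ l := by
  rw [← h, pow_add]
  exact Submodule.mul_mem_mul hx hy

/-- The product before passing to classes. -/
def mulAux {i j l : ℕ} (h : i + j = l) : ↥(D.N ^ i) →ₗ[k] ↥(D.N ^ j) →ₗ[k] D.Lev l :=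
  LinearMap.mk₂ k (fun x y => D.cls l ⟨(x : A) * y, D.mul_mem_pow h x.2 y.2⟩)
    (fun a b c => by rw [← map_add]; congr 1; exact Subtype.ext (add_mul (a : A) b c))
    (fun r a c => by rw [← map_smul]; congr 1; exact Subtype.ext (smul_mul_assoc r (a : A) (c : A)))
    (fun a b c => by rw [← map_add]; congr 1; exact Subtype.ext (mul_add (a : A) b c))
    (fun r a c => by rw [← map_smul]; congr 1; exact Subtype.ext (mul_smul_comm r (a : A) (c : A)))

theorem null_mul {i j l : ℕ} (h : i + j = l) (hl : l ≤ D.top) {x y : A} (hx : x ∈ D.null i)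
    (hy : y ∈ D.N ^ j) : x * y ∈ D.null l ∧ y * x ∈ D.null l := by
  constructor
  · intro z hz
    rw [mul_assoc]
    refine hx _ ?_
    exact D.mul_mem_pow (by omega) hy hz
  · intro z hz
    rw [mul_assoc, D.hts, mul_assoc]
    refine hx _ ?_
    exact D.mul_mem_pow (by omega) hz hy

/-- The product of classes. -/
def mul {i j l : ℕ} (h : i + j = l) (hl : l ≤ D.top) : D.Lev i →ₗ[k] D.Lev j →ₗ[k] D.Lev l :=
  (Submodule.liftQ _ ((Submodule.liftQ _ (D.mulAux h) (fun x hx => LinearMap.mem_ker.2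
    (LinearMap.ext fun y => (D.cls_eq_zero _).2 (D.null_mul h hl hx y.2).1))).flip)
    (fun y hy => LinearMap.mem_ker.2 (LinearMap.ext fun q => by
      obtain ⟨x, rfl⟩ := Submodule.mkQ_surjective _ q
      exact (D.cls_eq_zero _).2 (D.null_mul (show j + i = l by omega) hl hy x.2).2))).flip

theorem mul_cls {i j l : ℕ} (h : i + j = l) (hl : l ≤ D.top) (x : ↥(D.N ^ i)) (y : ↥(D.N ^ j)) :
    D.mul h hl (D.cls i x) (D.cls j y) = D.cls l ⟨(x : A) * y, D.mul_mem_pow h x.2 y.2⟩ := rfl

theorem mul_assoc' {a b c ab bc l : ℕ} (h1 : a + b = ab) (h2 : b + c = bc) (h3 : ab + c = l)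
    (h4 : a + bc = l) (hl : l ≤ D.top) (hab : ab ≤ D.top) (hbc : bc ≤ D.top)
    (x : D.Lev a) (y : D.Lev b) (z : D.Lev c) :
    D.mul h3 hl (D.mul h1 hab x y) z = D.mul h4 hl x (D.mul h2 hbc y z) := by
  obtain ⟨x, rfl⟩ := D.cls_surjective a x
  obtain ⟨y, rfl⟩ := D.cls_surjective b y
  obtain ⟨z, rfl⟩ := D.cls_surjective c z
  simp only [mul_cls]
  congr 1
  exact Subtype.ext (mul_assoc _ _ _)

theorem mul_span {i j l : ℕ} (h : i + j = l) (hl : l ≤ D.top) :
    Submodule.span k (Set.range fun q : D.Lev i × D.Lev j => D.mul h hl q.1 q.2) = ⊤ := by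
  refine eq_top_iff.2 fun z _ => ?_
  obtain ⟨⟨w, hw⟩, rfl⟩ := D.cls_surjective l z
  have key : ∀ v, v ∈ D.N ^ i * D.N ^ j → ∃ hv : v ∈ D.N ^ l, D.cls l ⟨v, hv⟩ ∈
      Submodule.span k (Set.range fun q : D.Lev i × D.Lev j => D.mul h hl q.1 q.2) := by
    intro v hv
    induction hv using Submodule.mul_induction_on' with
    | mem_mul_mem a ha b hb =>
      exact ⟨D.mul_mem_pow h ha hb,
        Submodule.subset_span ⟨(D.cls i ⟨a, ha⟩, D.cls j ⟨b, hb⟩), rfl⟩⟩
    | add a _ b _ ha hb =>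
      obtain ⟨h1, h1'⟩ := ha
      obtain ⟨h2, h2'⟩ := hb
      exact ⟨add_mem h1 h2, (map_add (D.cls l) ⟨a, h1⟩ ⟨b, h2⟩).symm ▸ add_mem h1' h2'⟩
  obtain ⟨_, h'⟩ := key w (by rw [← pow_add, h]; exact hw)
  exact h'

theorem mul_left_faithful {i l : ℕ} (h : 1 + i = l) (hl : l ≤ D.top) (x : D.Lev i)
    (hx : ∀ a, D.mul h hl a x = 0) : x = 0 := by
  obtain ⟨⟨v, hv⟩, rfl⟩ := D.cls_surjective i x
  rw [D.cls_eq_zero]
  intro y hy
  rw [show D.top - i = (D.top - l) + 1 by omega, pow_succ] at hy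
  induction hy using Submodule.mul_induction_on' with
  | mem_mul_mem z hz a ha =>
    have := (D.cls_eq_zero _).1 (hx (D.cls 1 ⟨a, (pow_one D.N).symm ▸ ha⟩)) z hz
    rw [← mul_assoc, D.hts, ← mul_assoc]
    exact this
  | add a _ b _ ha hb => rw [mul_add, map_add, ha, hb, add_zero]

theorem mul_right_faithful {i l : ℕ} (h : i + 1 = l) (hl : l ≤ D.top) (x : D.Lev i)
    (hx : ∀ a, D.mul h hl x a = 0) : x = 0 := by
  obtain ⟨⟨v, hv⟩, rfl⟩ := D.cls_surjective i x
  rw [D.cls_eq_zero]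
  intro y hy
  rw [show D.top - i = 1 + (D.top - l) by omega, pow_add, pow_one] at hy
  induction hy using Submodule.mul_induction_on' with
  | mem_mul_mem a ha z hz =>
    have := (D.cls_eq_zero _).1 (hx (D.cls 1 ⟨a, (pow_one D.N).symm ▸ ha⟩)) z hz
    rw [← mul_assoc]
    exact this
  | add a _ b _ ha hb => rw [mul_add, map_add, ha, hb, add_zero]

/-- The degree one piece pairs faithfully with the last but one. -/
theorem finrank_one_le [FiniteDimensional k A] (h : 1 ≤ D.top) :
    finrank k (D.Lev 1) ≤ finrank k (D.Lev (D.top - 1)) := by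
  let B : ↥(D.N ^ 1) →ₗ[k] ↥(D.N ^ (D.top - 1)) →ₗ[k] k :=
    LinearMap.mk₂ k (fun x y => D.t ((x : A) * y))
      (fun a b c => by simp [add_mul]) (fun r a c => by simp)
      (fun a b c => by simp [mul_add]) (fun r a c => by simp)
  let C : ↥(D.N ^ 1) →ₗ[k] Module.Dual k (D.Lev (D.top - 1)) :=
    (Submodule.liftQ _ B.flip (fun y hy => LinearMap.mem_ker.2 (LinearMap.ext fun x => by
      show D.t ((x : A) * y) = 0
      rw [D.hts]
      refine hy _ ?_
      rw [show D.top - (D.top - 1) = 1 by omega]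
      exact x.2))).flip
  let C' : D.Lev 1 →ₗ[k] Module.Dual k (D.Lev (D.top - 1)) :=
    Submodule.liftQ _ C (fun x hx => LinearMap.mem_ker.2 (LinearMap.ext fun q => by
      obtain ⟨y, rfl⟩ := Submodule.mkQ_surjective _ q
      exact hx (y : A) y.2))
  have hC : Function.Injective C' := by
    rw [injective_iff_map_eq_zero]
    intro q hq
    obtain ⟨⟨x, hx⟩, rfl⟩ := D.cls_surjective 1 q
    rw [D.cls_eq_zero]
    exact fun y hy => LinearMap.congr_fun hq (D.cls _ ⟨y, hy⟩)
  exact (LinearMap.finrank_le_finrank_of_injective hC).trans Subspace.dual_finrank_eq.le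

theorem finrank_one_pos [FiniteDimensional k A] (h : 1 ≤ D.top) {s : A}
    (hs : s ∈ D.N ^ D.top) (hts : D.t s ≠ 0) : 0 < finrank k (D.Lev 1) := by
  by_contra h0
  haveI : Subsingleton (D.Lev 1) := (Module.finrank_zero_iff (R := k)).1 (by omega)
  rw [show D.top = 1 + (D.top - 1) by omega, pow_add, pow_one] at hs
  refine hts (LinearMap.mem_ker.1 ((Submodule.mul_le.2 fun a ha b hb => ?_ :
    D.N * D.N ^ (D.top - 1) ≤ LinearMap.ker D.t) hs))
  exact (D.cls_eq_zero ((pow_one D.N).symm ▸ ha)).1 (Subsingleton.elim _ 0) b hb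

theorem eq_smul_of_finrank_le_one [FiniteDimensional k A] {i : ℕ}
    (h : finrank k (D.Lev i) ≤ 1) {w : D.Lev i} (hw : w ≠ 0) (z : D.Lev i) :
    ∃ c : k, z = c • w := by
  obtain ⟨q, hq⟩ := finrank_le_one_iff.1 h
  obtain ⟨s, hs⟩ := hq w
  obtain ⟨t, ht⟩ := hq z
  have hs0 : s ≠ 0 := fun h => hw (by rw [← hs, h, zero_smul])
  exact ⟨t * s⁻¹, by rw [← hs, ← ht, smul_smul, mul_assoc, inv_mul_cancel₀ hs0, mul_one]⟩

/-- A piece that is at most a line is followed by such pieces. -/
theorem line_succ [FiniteDimensional k A] {i : ℕ} (h : 2 ≤ i) (hi : i + 1 ≤ D.top)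
    (h1 : finrank k (D.Lev i) ≤ 1) : finrank k (D.Lev (i + 1)) ≤ 1 := by
  obtain ⟨j, rfl⟩ : ∃ j, i = j + 1 := ⟨i - 1, by omega⟩
  have hj : j + 1 ≤ D.top := by omega
  by_cases hz : ∀ x y, D.mul (rfl : j + 1 = j + 1) hj x y = 0
  · have h0 : ∀ w : D.Lev (j + 1), w = 0 := fun w => (Submodule.mem_bot k).1
      (sub_of_top (D.mul_span (rfl : j + 1 = j + 1) hj)
        (fun q : D.Lev j × D.Lev 1 => (Submodule.mem_bot k).2 (hz q.1 q.2)) w)
    have h2 : ∀ w : D.Lev (j + 1 + 1), w ∈ (⊥ : Submodule k _) :=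
      sub_of_top (D.mul_span (rfl : j + 1 + 1 = j + 1 + 1) hi) fun q => by
        rw [h0 q.1, map_zero, LinearMap.zero_apply]; exact Submodule.zero_mem _
    exact (finrank_le_of_all_mem h2).trans (by simp)
  · push Not at hz
    obtain ⟨x, y, hxy⟩ := hz
    set w := D.mul (rfl : j + 1 = j + 1) hj x y with hw
    have h2 : ∀ v : D.Lev (j + 1 + 1),
        v ∈ Submodule.span k {D.mul (rfl : j + 1 + 1 = j + 1 + 1) hi w y} :=
      sub_of_top (D.mul_span (show 1 + (j + 1) = j + 1 + 1 by omega) hi) fun q => by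
        obtain ⟨a, b⟩ := q
        obtain ⟨c, rfl⟩ := D.eq_smul_of_finrank_le_one h1 hxy b
        obtain ⟨d, hd⟩ := D.eq_smul_of_finrank_le_one h1 hxy
          (D.mul (show 1 + j = j + 1 by omega) hj a x)
        simp only [map_smul]
        refine Submodule.smul_mem _ _ ?_
        rw [hw, ← D.mul_assoc' (show 1 + j = j + 1 by omega) rfl
          (rfl : j + 1 + 1 = j + 1 + 1) (show 1 + (j + 1) = j + 1 + 1 by omega) hi hj hj, hd,
          map_smul, LinearMap.smul_apply]
        exact Submodule.smul_mem _ _ (Submodule.mem_span_singleton_self _)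
    exact (finrank_le_of_all_mem h2).trans ((finrank_span_le_card _).trans (by simp))

theorem line_from [FiniteDimensional k A] {i j : ℕ} (h : 2 ≤ i) (hij : i ≤ j) (hj : j ≤ D.top)
    (h1 : finrank k (D.Lev i) ≤ 1) : finrank k (D.Lev j) ≤ 1 := by
  induction j, hij using Nat.le_induction with
  | base => exact h1
  | succ j hij ih => exact D.line_succ (by omega) hj (ih (by omega))

variable (h6 : 6 ≤ D.top)

/-- Degrees one to three. -/
def tower : Tower k (D.Lev 1) (D.Lev 2) (D.Lev 3) where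
  m := D.mul (rfl : 1 + 1 = 2) (by omega)
  l := D.mul (rfl : 1 + 2 = 3) (by omega)
  r := D.mul (rfl : 2 + 1 = 3) (by omega)
  assoc a b c := D.mul_assoc' rfl rfl rfl rfl (by omega) (by omega) (by omega) a b c
  spanU := D.mul_span _ _
  spanX := D.mul_span _ _
  mf a h := D.mul_right_faithful _ _ a h
  mf' b h := D.mul_left_faithful _ _ b h
  lf u h := D.mul_left_faithful _ _ u h
  rf u h := D.mul_right_faithful _ _ u h

/-- Degree four. -/
def next : Next (D.Lev 4) (D.tower h6) where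
  l := D.mul (rfl : 1 + 3 = 4) (by omega)
  r := D.mul (rfl : 3 + 1 = 4) (by omega)
  mm := D.mul (rfl : 2 + 2 = 4) (by omega)
  assoc a b c := D.mul_assoc' rfl rfl rfl rfl (by omega) (by omega) (by omega) a b c
  assocl a b u := (D.mul_assoc' rfl rfl rfl rfl (by omega) (by omega) (by omega) a b u).symm
  assocr a b c := D.mul_assoc' rfl rfl rfl rfl (by omega) (by omega) (by omega) a b c
  span := D.mul_span _ _
  lf x h := D.mul_left_faithful _ _ x h
  rf x h := D.mul_right_faithful _ _ x h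

/-- Degree five. -/
def fifth : Top (D.Lev 5) (D.next h6) where
  l := D.mul (rfl : 1 + 4 = 5) (by omega)
  r := D.mul (rfl : 4 + 1 = 5) (by omega)
  mm := D.mul (rfl : 2 + 3 = 5) (by omega)
  assoc a b c := D.mul_assoc' rfl rfl rfl rfl (by omega) (by omega) (by omega) a b c
  assocl a b u := (D.mul_assoc' rfl rfl rfl rfl (by omega) (by omega) (by omega) a b u).symm
  span := D.mul_span _ _

/-- The degree one piece is small when some middle piece is a line. -/
theorem finrank_one_le_of_line [FiniteDimensional k A] {i : ℕ} (h2 : 2 ≤ i) (hi : i ≤ 5)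
    (h1 : finrank k (D.Lev i) ≤ 1) (h6 : 6 ≤ D.top) : finrank k (D.Lev 1) ≤ 1 :=
  (D.finrank_one_le (by omega)).trans (D.line_from h2 (by omega) (by omega) h1)

end Filt

end CfsgLib.Blocks.KFive
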