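import Cfsg.Agent.Lib.Blocks.KFive.Bound

/-!
# The bound on a local symmetric algebra
-/

namespace CfsgLib.Blocks.KFive

open Module

set_option linter.unusedVariables false
set_option linter.unusedSectionVars false

variable {k A : Type*} [Field k] [Ring A] [Algebra k A] [FiniteDimensional k A]

namespace Loc

variable (D : Loc k A)

theorem two_le_one : D.N ^ 2 ≤ D.N := (pow_two D.N).le.trans D.hNN

/-- The powers strictly decrease. -/
theorem finrank_pow_ge {m : ℕ} (hm : D.N ^ (m + 1) = ⊥) (hm0 : D.N ^ m ≠ ⊥) :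
    ∀ l i : ℕ, 1 ≤ i → i + l = m + 1 → l ≤ finrank k ↥(D.N ^ i) := by
  intro l
  induction l with
  | zero => intros; exact Nat.zero_le _
  | succ l ih =>
    intro i hi hil
    have hlt : D.N ^ (i + 1) < D.N ^ i := by
      refine lt_of_le_not_ge (D.pow_le hi (by omega)) fun hge => hm0 ?_
      have key : ∀ j, D.N ^ i ≤ D.N ^ (i + j) := by
        intro j
        induction j with
        | zero => exact le_rfl
        | succ j ihj =>
          calc D.N ^ i ≤ D.N ^ (i + 1) := hge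
            _ = D.N ^ i * D.N := pow_succ _ _
            _ ≤ D.N ^ (i + j) * D.N := mul_le_mul' ihj le_rfl
            _ = D.N ^ (i + (j + 1)) := (pow_succ _ _).symm
      refine le_bot_iff.1 ?_
      rw [← hm]
      exact (D.pow_le hi (by omega)).trans ((key (l + 1)).trans (le_of_eq (by rw [hil])))
    have := Submodule.finrank_lt_finrank_of_lt hlt
    have := ih (i + 1) (by omega) (by omega)
    omega

/-- Degree one and two bounds from the true graded pieces. -/
theorem lev_le {m : ℕ} (hm : D.N ^ (m + 1) = ⊥) {i : ℕ} (hi : 1 ≤ i) (him : i ≤ m) :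
    finrank k ((D.filt hm).Lev i) + finrank k ↥(D.N ^ (i + 1)) ≤ finrank k ↥(D.N ^ i) := by
  have h2 : finrank k ((D.N ^ (i + 1)).comap (D.N ^ i).subtype) = finrank k ↥(D.N ^ (i + 1)) :=
    (Submodule.comapSubtypeEquivOfLe (D.pow_le hi (by omega))).finrank_eq
  have h3 : finrank k ((D.N ^ (i + 1)).comap (D.N ^ i).subtype) ≤
      finrank k (((D.filt hm).null i).comap (D.N ^ i).subtype) :=
    Submodule.finrank_mono fun x hx => (D.filt hm).pow_le_null (show i ≤ m from him)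
      (Nat.lt_succ_self i) hx
  have h4 : finrank k ((D.filt hm).Lev i) +
      finrank k (((D.filt hm).null i).comap (D.N ^ i).subtype) =
      finrank k ↥(D.N ^ i) :=
    Submodule.finrank_quotient_add_finrank (((D.filt hm).null i).comap (D.N ^ i).subtype)
  omega

/-- When the true piece is no larger, nothing more is killed. -/
theorem mem_succ_of_null {m : ℕ} (hm : D.N ^ (m + 1) = ⊥) {i : ℕ} (hi : 1 ≤ i) (him : i ≤ m)
    (h : finrank k ↥(D.N ^ i) ≤ finrank k ((D.filt hm).Lev i) + finrank k ↥(D.N ^ (i + 1))) {x : A}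
    (hx : x ∈ D.N ^ i) (h0 : (D.filt hm).cls i ⟨x, hx⟩ = 0) : x ∈ D.N ^ (i + 1) := by
  set P : Submodule k ↥((D.filt hm).N ^ i) :=
    (D.N ^ (i + 1)).comap (D.N ^ i).subtype with hP
  set Q := ((D.filt hm).null i).comap ((D.filt hm).N ^ i).subtype with hQ
  have hPQ : P ≤ Q := fun y hy =>
    (D.filt hm).pow_le_null (show i ≤ m from him) (Nat.lt_succ_self i) hy
  have h1 : finrank k ((D.filt hm).Lev i) + finrank k Q = finrank k ↥(D.N ^ i) :=
    Submodule.finrank_quotient_add_finrank Q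
  have h2 : finrank k P = finrank k ↥(D.N ^ (i + 1)) :=
    (Submodule.comapSubtypeEquivOfLe (D.pow_le hi (by omega))).finrank_eq
  have heq : P = Q := Submodule.eq_of_le_of_finrank_le hPQ (by omega)
  have : (⟨x, hx⟩ : ↥((D.filt hm).N ^ i)) ∈ P :=
    heq.ge (((D.filt hm).cls_eq_zero hx).1 h0)
  exact this

section long

variable [IsAlgClosed k] {m : ℕ} (hm : D.N ^ (m + 1) = ⊥) (h6 : 6 ≤ m) {s : A}
  (hs : s ∈ D.N ^ m) (hts : D.t s ≠ 0)

include hm h6 hs hts in
/-- Three generators give a short algebra. -/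
theorem three_gen {x y z : A} (hg : ({x, y, z} : Set A) ⊆ D.N)
    (hgen : D.N ≤ Submodule.span k {x, y, z} ⊔ D.N ^ 2)
    (h2 : D.N ^ 2 ≤ D.K ⊔ Submodule.span k {s}) : False := by
  classical
  set F := D.filt hm with hF
  have h6' : 6 ≤ F.top := h6
  set T := F.tower h6' with hT
  have hpow1 : ∀ a, a ∈ D.N → a ∈ D.N ^ 1 := fun a ha => (pow_one D.N).symm ▸ ha
  have hx : x ∈ D.N ^ 1 := hpow1 x (hg (by simp))
  have hy : y ∈ D.N ^ 1 := hpow1 y (hg (by simp))
  have hz : z ∈ D.N ^ 1 := hpow1 z (hg (by simp))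
  set cx := F.cls 1 ⟨x, hx⟩ with hcx
  set cy := F.cls 1 ⟨y, hy⟩ with hcy
  set cz := F.cls 1 ⟨z, hz⟩ with hcz
  have hV : ∀ w : F.Lev 1, w ∈ Submodule.span k ({cx, cy, cz} : Set (F.Lev 1)) := fun w => by
    refine Submodule.span_mono ?_ (D.lev_one_gen hm hg hgen (by omega) w)
    rintro _ ⟨a, ha, hag, rfl⟩
    rcases hag with rfl | rfl | rfl
    · exact Or.inl rfl
    · exact Or.inr (Or.inl rfl)
    · exact Or.inr (Or.inr rfl)
  have hsm : ∀ i, 1 ≤ i → i ≤ m → s ∈ D.N ^ i := fun i h1 h2 => D.pow_le h1 h2 hs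
  have hcU : T.CommU := D.commU_of_sq hm h6 (h2.trans (sup_le le_sup_left
    ((Submodule.span_singleton_le_iff_mem _ _).2
      (Submodule.mem_sup_right (hsm 3 (by omega) (by omega))))))
  have hV3 : finrank k (F.Lev 1) ≤ 3 := (finrank_le_of_all_mem hV).trans (finrank_span_three_le _ _ _)
  by_cases hv : finrank k (F.Lev 1) = 3
  · have hcX : finrank k (F.Lev 2) = 3 → T.CommX := by
      intro hU
      refine D.commX_of_cube hm h6 ?_ ?_
      · refine ((D.pow_le (by omega) (by omega : 2 ≤ 3)).trans h2).trans (sup_le le_sup_left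
          ((Submodule.span_singleton_le_iff_mem _ _).2
            (Submodule.mem_sup_right (hsm 4 (by omega) (by omega)))))
      · intro v hvK hv3
        obtain ⟨p, hp, w, hw, rfl⟩ := Submodule.mem_sup.1 (D.K_le_gens hg hgen hvK)
        obtain ⟨a, q, hq, rfl⟩ := Submodule.mem_span_insert.1 (comSpan_span_three x y z hp)
        obtain ⟨b, c, rfl⟩ := Submodule.mem_span_pair.1 hq
        have hsq : ∀ {p q : A}, p ∈ D.N ^ 1 → q ∈ D.N ^ 1 → p * q - q * p ∈ D.N ^ 2 :=
          fun hp hq => Submodule.sub_mem _ (F.mul_mem_pow rfl hp hq) (F.mul_mem_pow rfl hq hp)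
        have hw3 : w ∈ D.N ^ 3 := comSpan_le (fun p hp q hq => D.com3 hp hq) hw
        have hsum : F.cls 2 (a • ⟨_, hsq hx hy⟩ + (b • ⟨_, hsq hx hz⟩ + c • ⟨_, hsq hy hz⟩)) = 0 :=
          (F.cls_eq_zero _).2 (F.pow_le_null (j := 3) (show 2 ≤ m by omega) (by omega) (by
            have := Submodule.sub_mem _ hv3 hw3
            rw [add_sub_cancel_right] at this
            exact this))
        have hcom : ∀ {p q : A} (hp : p ∈ D.N ^ 1) (hq : q ∈ D.N ^ 1),
            F.cls 2 ⟨_, hsq hp hq⟩ =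
              T.m (F.cls 1 ⟨p, hp⟩) (F.cls 1 ⟨q, hq⟩) - T.m (F.cls 1 ⟨q, hq⟩) (F.cls 1 ⟨p, hp⟩) :=
          fun hp hq => map_sub (F.cls 2) ⟨_, F.mul_mem_pow rfl hp hq⟩ ⟨_, F.mul_mem_pow rfl hq hp⟩
        rw [map_add, map_add, map_smul, map_smul, map_smul, hcom hx hy, hcom hx hz, hcom hy hz,
          ← hcx, ← hcy, ← hcz] at hsum
        set f : Fin 3 → F.Lev 2 :=
          ![T.m cx cy - T.m cy cx, T.m cx cz - T.m cz cx, T.m cy cz - T.m cz cy] with hf
        have hli : LinearIndependent k f := by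
          refine linearIndependent_of_top_le_span_of_card_eq_finrank (fun u _ => ?_) (by simp [hU])
          refine T.commU_of_gen hcU (eq_top_iff.2 fun w _ => hV w) ?_ u
          have s0 : f 0 ∈ Submodule.span k (Set.range f) := Submodule.subset_span ⟨0, rfl⟩
          have s1 : f 1 ∈ Submodule.span k (Set.range f) := Submodule.subset_span ⟨1, rfl⟩
          have s2 : f 2 ∈ Submodule.span k (Set.range f) := Submodule.subset_span ⟨2, rfl⟩
          rintro p (rfl | rfl | rfl) q (rfl | rfl | rfl) <;>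
            first
            | (rw [sub_self]; exact Submodule.zero_mem _)
            | exact s0
            | exact s1
            | exact s2
            | (refine neg_mem_iff.1 ?_; rw [neg_sub]; first | exact s0 | exact s1 | exact s2)
        have h0 := Fintype.linearIndependent_iff.1 hli ![a, b, c] (by
          simp only [hf, Fin.sum_univ_three, Matrix.cons_val_zero, Matrix.cons_val_one,
            Matrix.cons_val_two, Matrix.tail_cons, Matrix.head_cons, add_assoc]
          exact hsum)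
        have ha : a = 0 := h0 0
        have hb : b = 0 := h0 1
        have hc : c = 0 := h0 2
        rw [ha, hb, hc, zero_smul, zero_smul, zero_smul, add_zero, zero_add, zero_add]
        exact hw
    rcases exists_line (F.fifth h6') hv hcU hcX with h | h | h | h
    all_goals
      have := F.finrank_one_le_of_line (by omega) (by omega) h h6'
      omega
  · -- two classes of generators
    obtain ⟨f, -, hf⟩ := (show ∃ f : Fin 2 → F.Lev 1, True ∧
        ∀ w, w ∈ Submodule.span k (Set.range f) from by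
      let b := Module.finBasis k (F.Lev 1)
      let f : Fin 2 → F.Lev 1 := fun i => if h : (i : ℕ) < finrank k (F.Lev 1) then b ⟨i, h⟩ else 0
      refine ⟨f, trivial, fun w => ?_⟩
      refine (Submodule.span_mono ?_) (b.span_eq ▸ Submodule.mem_top : w ∈ _)
      rintro _ ⟨i, rfl⟩
      exact ⟨⟨i, by omega⟩, by simp [f, i.2]⟩)
    have hU1 : finrank k (F.Lev 2) ≤ 1 := by
      refine (finrank_le_of_all_mem (S := Submodule.span k {T.m (f 0) (f 1) - T.m (f 1) (f 0)})
        fun u => ?_).trans ((finrank_span_le_card _).trans (by simp))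
      refine T.commU_of_gen hcU (eq_top_iff.2 fun w _ => hf w) ?_ u
      rintro _ ⟨i, rfl⟩ _ ⟨j, rfl⟩
      fin_cases i <;> fin_cases j <;>
        first
        | (rw [sub_self]; exact Submodule.zero_mem _)
        | exact Submodule.mem_span_singleton_self _
        | (refine neg_mem_iff.1 ?_; rw [neg_sub]; exact Submodule.mem_span_singleton_self _)
    have h11 := F.finrank_one_le_of_line (le_refl 2) (by omega) hU1 h6'
    obtain ⟨q, hq⟩ := finrank_le_one_iff.1 h11
    refine D.lev2_ne_zero hm h6 hs hts fun u => (Submodule.mem_bot k).1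
      (T.commU_of_gen hcU (g := {q}) (eq_top_iff.2 fun w _ => ?_) ?_ u)
    · obtain ⟨c, hc⟩ := hq w
      exact Submodule.mem_span_singleton.2 ⟨c, hc⟩
    · rintro a rfl b rfl
      rw [sub_self]
      exact Submodule.zero_mem _

include hm h6 hs hts in
/-- Two generators give a short algebra. -/
theorem two_gen {x y : A} (hg : ({x, y} : Set A) ⊆ D.N)
    (hgen : D.N ≤ Submodule.span k {x, y} ⊔ D.N ^ 2)
    (hc3 : x * y - y * x ∉ D.N ^ 3)
    (h2 : finrank k ↥(D.N ^ 2) ≤ finrank k ↥(D.N ^ 3) + 2)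
    (h1 : finrank k D.N ≤ finrank k ↥(D.N ^ 2) + 2)
    (h3 : D.N ^ 3 ≤ D.K ⊔ Submodule.span k {s}) : False := by
  classical
  set F := D.filt hm with hF
  have h6' : 6 ≤ F.top := h6
  set T := F.tower h6' with hT
  set N₄ := F.next h6' with hN₄
  have hcX : T.CommX := by
    refine D.commX_of_cube hm h6 (h3.trans (sup_le le_sup_left
      ((Submodule.span_singleton_le_iff_mem _ _).2
        (Submodule.mem_sup_right (D.pow_le (by omega) (by omega : 4 ≤ m) hs))))) fun v hvK hv3 => ?_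
    obtain ⟨p, hp, w, hw, rfl⟩ := Submodule.mem_sup.1 (D.K_le_gens hg hgen hvK)
    obtain ⟨a, rfl⟩ := Submodule.mem_span_singleton.1 (comSpan_span_two x y hp)
    have hw3 : w ∈ D.N ^ 3 := comSpan_le (fun p hp q hq => D.com3 hp hq) hw
    have ha : a = 0 := by
      by_contra ha
      refine hc3 ((Submodule.smul_mem_iff _ ha).1 ?_)
      have := Submodule.sub_mem _ hv3 hw3
      rwa [add_sub_cancel_right] at this
    rw [ha, zero_smul, zero_add]
    exact hw
  have hpos : 0 < finrank k (F.Lev 1) := D.lev_one_pos hm h6 hs hts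
  have hN1 : finrank k ↥(D.N ^ 1) = finrank k D.N := by rw [pow_one]
  have hle1' : finrank k (F.Lev 1) + finrank k ↥(D.N ^ 2) ≤ finrank k ↥(D.N ^ 1) :=
    D.lev_le hm (le_refl 1) (by omega)
  have hle2' : finrank k (F.Lev 2) + finrank k ↥(D.N ^ 3) ≤ finrank k ↥(D.N ^ 2) :=
    D.lev_le hm (i := 2) (by omega) (by omega)
  by_cases hv : finrank k (F.Lev 1) ≤ 1
  · obtain ⟨q, hq⟩ := finrank_le_one_iff.1 hv
    refine D.lev3_ne_zero hm h6 hs hts fun u => (Submodule.mem_bot k).1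
      (sub_of_top hcX (fun r => ?_) u)
    obtain ⟨a, b⟩ := r
    obtain ⟨c, rfl⟩ := hq a
    have hb : b ∈ Submodule.span k {T.m q q} := T.memU (fun p p' => by
      obtain ⟨d, rfl⟩ := hq p
      obtain ⟨d', rfl⟩ := hq p'
      simp only [map_smul, LinearMap.smul_apply]
      exact Submodule.smul_mem _ _ (Submodule.smul_mem _ _ (Submodule.mem_span_singleton_self _))) b
    obtain ⟨d, rfl⟩ := Submodule.mem_span_singleton.1 hb
    simp only [map_smul, LinearMap.smul_apply, T.assoc, smul_smul, mul_comm, sub_self]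
    exact Submodule.zero_mem _
  have hV : finrank k (F.Lev 1) = 2 := by omega
  have hU : finrank k (F.Lev 2) = 2 := by
    by_contra hne
    have := F.finrank_one_le_of_line (le_refl 2) (by omega) (by omega) h6'
    omega
  have hX : 2 ≤ finrank k (F.Lev 3) := by
    by_contra hne
    have := F.finrank_one_le_of_line (i := 3) (by omega) (by omega) (by omega) h6'
    omega
  have heq1 : finrank k ↥(D.N ^ 1) ≤ finrank k (F.Lev 1) + finrank k ↥(D.N ^ (1 + 1)) := by
    show finrank k ↥(D.N ^ 1) ≤ finrank k (F.Lev 1) + finrank k ↥(D.N ^ 2)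
    omega
  have heq2 : finrank k ↥(D.N ^ 2) ≤ finrank k (F.Lev 2) + finrank k ↥(D.N ^ (2 + 1)) := by
    show finrank k ↥(D.N ^ 2) ≤ finrank k (F.Lev 2) + finrank k ↥(D.N ^ 3)
    omega
  obtain ⟨u, v, huv, huu, hvv, hUi, hXi, hXspan⟩ := exists_square_zero T hV hU hcX hX
  obtain ⟨⟨a, ha⟩, rfl⟩ := F.cls_surjective 1 u
  obtain ⟨⟨b, hb⟩, rfl⟩ := F.cls_surjective 1 v
  set u := F.cls 1 ⟨a, ha⟩ with hu
  set v := F.cls 1 ⟨b, hb⟩ with hv'
  have hab1 : a ∈ D.N := (pow_one D.N).le ha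
  have hbb1 : b ∈ D.N := (pow_one D.N).le hb
  have hgab : ({a, b} : Set A) ⊆ D.N := by
    rintro w (rfl | rfl)
    exacts [hab1, hbb1]
  have hgenab : D.N ≤ Submodule.span k {a, b} ⊔ D.N ^ 2 := by
    intro w hw
    have hw1 : w ∈ D.N ^ 1 := (pow_one D.N).symm ▸ hw
    obtain ⟨c, d, e⟩ := Submodule.mem_span_pair.1 (top_of_pair hV huv (F.cls 1 ⟨w, hw1⟩))
    rw [hu, hv', ← map_smul, ← map_smul, ← map_add, eq_comm, ← sub_eq_zero, ← map_sub] at e
    have := D.mem_succ_of_null hm (le_refl 1) (by omega) heq1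
      (Submodule.sub_mem _ hw1 (Submodule.add_mem _ (Submodule.smul_mem _ c ha)
        (Submodule.smul_mem _ d hb))) e
    exact Submodule.mem_sup.2 ⟨c • a + d • b, Submodule.mem_span_pair.2 ⟨c, d, rfl⟩,
      w - (c • a + d • b), this, by abel⟩
  have haa : a * a ∈ D.N ^ 3 :=
    D.mem_succ_of_null hm (i := 2) (by omega) (by omega) heq2 (F.mul_mem_pow rfl ha ha) huu
  have hbb : b * b ∈ D.N ^ 3 :=
    D.mem_succ_of_null hm (i := 2) (by omega) (by omega) heq2 (F.mul_mem_pow rfl hb hb) hvv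
  have hgen2 : D.N ^ 2 ≤ Submodule.span k {a * b, b * a} ⊔ D.N ^ 3 := by
    intro w hw
    obtain ⟨c, d, e⟩ := Submodule.mem_span_pair.1 (top_of_pair hU hUi (F.cls 2 ⟨w, hw⟩))
    have e' : F.cls 2 (c • ⟨a * b, F.mul_mem_pow rfl ha hb⟩ + d • ⟨b * a, F.mul_mem_pow rfl hb ha⟩) =
        F.cls 2 ⟨w, hw⟩ := by rw [map_add, map_smul, map_smul]; exact e
    rw [eq_comm, ← sub_eq_zero, ← map_sub] at e'
    have := D.mem_succ_of_null hm (i := 2) (by omega) (by omega) heq2
      (Submodule.sub_mem _ hw (Submodule.add_mem _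
        (Submodule.smul_mem _ c (F.mul_mem_pow rfl ha hb))
        (Submodule.smul_mem _ d (F.mul_mem_pow rfl hb ha)))) e'
    exact Submodule.mem_sup.2 ⟨c • (a * b) + d • (b * a), Submodule.mem_span_pair.2 ⟨c, d, rfl⟩,
      w - (c • (a * b) + d • (b * a)), this, by abel⟩
  -- the commutator of the generators
  have hcab : a * b - b * a ∉ D.N ^ 3 := by
    intro h
    have h0 : F.cls 2 (⟨a * b, F.mul_mem_pow rfl ha hb⟩ - ⟨b * a, F.mul_mem_pow rfl hb ha⟩) = 0 :=
      (F.cls_eq_zero _).2 (F.pow_le_null (show 2 ≤ m by omega) (by omega) h)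
    rw [map_sub] at h0
    have := LinearIndependent.pair_iff.1 hUi 1 (-1) (by
      rw [one_smul, neg_one_smul, ← sub_eq_add_neg]; exact h0)
    exact one_ne_zero this.1
  -- degree four is at most a line
  set E : F.Lev 4 := N₄.l u (T.l v (T.m u v)) - N₄.l v (T.l u (T.m v u)) with hE
  set S := Submodule.span k ({E} : Set (F.Lev 4)) with hS
  set G : Submodule k A := (S.comap (F.cls 4)).map (D.N ^ 4).subtype with hG
  have hGmem : ∀ w (hw : w ∈ F.N ^ 4), F.cls 4 ⟨w, hw⟩ ∈ S → w ∈ G := fun w hw h =>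
    Submodule.mem_map.2 ⟨⟨w, hw⟩, h, rfl⟩
  let C : F.Lev 1 → F.Lev 3 → F.Lev 4 := fun p w => N₄.r w p - N₄.l p w
  have z1 : T.l u (T.m u v) = 0 := T.zero_of_mul huu v
  have z2 : T.l v (T.m v u) = 0 := T.zero_of_mul hvv u
  have z3 : T.r (T.m v u) u = 0 := T.zero_of_mul' huu v
  have z4 : T.r (T.m u v) v = 0 := T.zero_of_mul' hvv u
  have hC : ∀ p ∈ ({u, v} : Set (F.Lev 1)), ∀ w, C p w ∈ S := by
    intro p hp w
    obtain ⟨c, d, rfl⟩ := Submodule.mem_span_pair.1 (hXspan w)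
    have hlin : C p (c • T.l u (T.m v u) + d • T.l v (T.m u v)) =
        c • C p (T.l u (T.m v u)) + d • C p (T.l v (T.m u v)) := by
      simp only [C, map_add, map_smul, LinearMap.add_apply, LinearMap.smul_apply, smul_sub]
      abel
    rw [hlin]
    have hz : N₄.r (T.l u (T.m v u)) u = 0 := by rw [N₄.assoc, z3, map_zero]
    have hz' : N₄.r (T.l v (T.m u v)) v = 0 := by rw [N₄.assoc, z4, map_zero]
    have hy : N₄.l u (T.l u (T.m v u)) = 0 := by
      rw [N₄.assocl, huu, map_zero, LinearMap.zero_apply]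
    have hy' : N₄.l v (T.l v (T.m u v)) = 0 := by
      rw [N₄.assocl, hvv, map_zero, LinearMap.zero_apply]
    have hr : N₄.r (T.l u (T.m v u)) v = N₄.l u (T.l v (T.m u v)) := by
      rw [N₄.assoc, T.assoc]
    have hr' : N₄.r (T.l v (T.m u v)) u = N₄.l v (T.l u (T.m v u)) := by
      rw [N₄.assoc, T.assoc]
    refine S.add_mem (S.smul_mem _ ?_) (S.smul_mem _ ?_) <;> rcases hp with rfl | rfl <;>
      simp only [C, hz, hz', hy, hy', hr, hr', sub_zero, zero_sub, sub_self]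
    · exact S.zero_mem
    · exact Submodule.mem_span_singleton_self _
    · rw [← neg_sub]; exact S.neg_mem (Submodule.mem_span_singleton_self _)
    · exact S.zero_mem
  -- commutators of degree four
  have hw1 : ∀ p (hp : p ∈ D.N ^ 1), F.cls 1 ⟨p, hp⟩ ∈ ({u, v} : Set (F.Lev 1)) →
      ∀ w ∈ D.N ^ 3, p * w - w * p ∈ G := by
    intro p hp hpuv w hw
    refine hGmem _ (Submodule.sub_mem _ (F.mul_mem_pow rfl hp hw) (F.mul_mem_pow rfl hw hp)) ?_
    have : F.cls 4 ⟨p * w, F.mul_mem_pow rfl hp hw⟩ - F.cls 4 ⟨w * p, F.mul_mem_pow rfl hw hp⟩ =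
        -C (F.cls 1 ⟨p, hp⟩) (F.cls 3 ⟨w, hw⟩) := by
      show _ = -(N₄.r _ _ - N₄.l _ _)
      rw [neg_sub]
      rfl
    rw [← map_sub] at this
    rw [show (⟨p * w - w * p, _⟩ : ↥(F.N ^ 4)) = ⟨p * w, F.mul_mem_pow rfl hp hw⟩ -
      ⟨w * p, F.mul_mem_pow rfl hw hp⟩ from rfl, this]
    exact S.neg_mem (hC _ hpuv _)
  have hmm : F.cls 4 ⟨a * b * (b * a), F.mul_mem_pow rfl (F.mul_mem_pow rfl ha hb)
      (F.mul_mem_pow rfl hb ha)⟩ = 0 ∧ F.cls 4 ⟨b * a * (a * b),
      F.mul_mem_pow rfl (F.mul_mem_pow rfl hb ha) (F.mul_mem_pow rfl ha hb)⟩ = 0 := by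
    constructor
    · show N₄.mm (T.m u v) (T.m v u) = 0
      rw [← N₄.assocl, z2, map_zero]
    · show N₄.mm (T.m v u) (T.m u v) = 0
      rw [← N₄.assocl, z1, map_zero]
  have hfour : ∀ w ∈ D.N ^ 5, w ∈ G := fun w hw => by
    have hw4 : w ∈ F.N ^ 4 := D.pow_le (by omega) (by omega : 4 ≤ 5) hw
    have h0 : F.cls 4 ⟨w, hw4⟩ = 0 :=
      (F.cls_eq_zero hw4).2 (F.pow_le_null (show 4 ≤ m by omega) (by omega) hw)
    exact hGmem w hw4 (h0.symm ▸ S.zero_mem)
  have h22 : ∀ p ∈ D.N ^ 2, ∀ q ∈ D.N ^ 2, p * q - q * p ∈ G := by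
    have hb5 : ∀ {p q : A}, p ∈ D.N ^ 3 → q ∈ D.N ^ 2 → p * q - q * p ∈ G := fun hp hq =>
      hfour _ (Submodule.sub_mem _ (F.mul_mem_pow rfl hp hq) (F.mul_mem_pow rfl hq hp))
    intro p hp q hq
    obtain ⟨p₁, hp₁, p₂, hp₂, rfl⟩ := Submodule.mem_sup.1 (hgen2 hp)
    obtain ⟨q₁, hq₁, q₂, hq₂, rfl⟩ := Submodule.mem_sup.1 (hgen2 hq)
    have hp1' : p₁ ∈ D.N ^ 2 := by
      have := Submodule.sub_mem _ hp (D.pow_le (by omega) (by omega : 2 ≤ 3) hp₂)
      rwa [add_sub_cancel_right] at this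
    rw [show (p₁ + p₂) * (q₁ + q₂) - (q₁ + q₂) * (p₁ + p₂) = (p₁ * q₁ - q₁ * p₁) +
      ((p₂ * (q₁ + q₂) - (q₁ + q₂) * p₂) - (q₂ * p₁ - p₁ * q₂)) by noncomm_ring]
    refine G.add_mem ?_ (G.sub_mem (hb5 hp₂ hq) (hb5 hq₂ hp1'))
    obtain ⟨c, d, rfl⟩ := Submodule.mem_span_pair.1 hp₁
    obtain ⟨c', d', rfl⟩ := Submodule.mem_span_pair.1 hq₁
    have e1 : a * b * (b * a) ∈ G := hGmem _ (F.mul_mem_pow rfl (F.mul_mem_pow rfl ha hb)
      (F.mul_mem_pow rfl hb ha)) (hmm.1.symm ▸ S.zero_mem)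
    have e2 : b * a * (a * b) ∈ G := hGmem _ (F.mul_mem_pow rfl (F.mul_mem_pow rfl hb ha)
      (F.mul_mem_pow rfl ha hb)) (hmm.2.symm ▸ S.zero_mem)
    rw [show (c • (a * b) + d • (b * a)) * (c' • (a * b) + d' • (b * a)) -
        (c' • (a * b) + d' • (b * a)) * (c • (a * b) + d • (b * a)) =
        (c * d' - d * c') • (a * b * (b * a) - b * a * (a * b)) by
      simp only [mul_add, add_mul, smul_mul_assoc, mul_smul_comm]; module]
    exact G.smul_mem _ (G.sub_mem e1 e2)
  -- shape of the commutators in degree three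
  have key : ∀ p ∈ comSpan D.N (D.N ^ 2), ∃ α β α' β' : k, ∃ g ∈ G,
      p = α • (a * (a * b) - a * b * a) + β • (a * (b * a) - b * a * a) +
        (α' • (b * (a * b) - a * b * b) + β' • (b * (b * a) - b * a * b)) + g := by
    intro p hp
    induction hp using Submodule.span_induction with
    | mem q hq =>
      obtain ⟨⟨q₁, q₂⟩, ⟨hq1, hq2⟩, rfl⟩ := hq
      obtain ⟨l, hl, r, hr, e⟩ := Submodule.mem_sup.1 (hgenab hq1)
      obtain ⟨c, d, rfl⟩ := Submodule.mem_span_pair.1 hl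
      obtain ⟨l', hl', r', hr', e'⟩ := Submodule.mem_sup.1 (hgen2 hq2)
      obtain ⟨c', d', rfl⟩ := Submodule.mem_span_pair.1 hl'
      refine ⟨c * c', c * d', d * c', d * d',
        c • (a * r' - r' * a) + d • (b * r' - r' * b) + (r * q₂ - q₂ * r),
        G.add_mem (G.add_mem (G.smul_mem _ (hw1 a ha (Or.inl rfl) r' hr'))
          (G.smul_mem _ (hw1 b hb (Or.inr rfl) r' hr'))) (h22 r hr q₂ hq2), ?_⟩
      show q₁ * q₂ - q₂ * q₁ = _
      replace e : c • a + d • b + r = q₁ := e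
      replace e' : c' • (a * b) + d' • (b * a) + r' = q₂ := e'
      subst e e'
      simp only [mul_add, add_mul, smul_mul_assoc, mul_smul_comm]
      module
    | zero => exact ⟨0, 0, 0, 0, 0, G.zero_mem, by simp⟩
    | add p q _ _ hp hq =>
      obtain ⟨α, β, α', β', g, hg', rfl⟩ := hp
      obtain ⟨γ, δ, γ', δ', g', hg'', rfl⟩ := hq
      exact ⟨α + γ, β + δ, α' + γ', β' + δ', g + g', G.add_mem hg' hg'', by module⟩
    | smul c p _ hp =>
      obtain ⟨α, β, α', β', g, hg', rfl⟩ := hp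
      exact ⟨c * α, c * β, c * α', c * β', c • g, G.smul_mem _ hg', by module⟩
  have hG4 : G ≤ D.N ^ 4 := Submodule.map_subtype_le _ _
  have hall : ∀ w ∈ D.N ^ 4, w ∈ G := by
    intro w hw
    obtain ⟨κ, hκ, r, hr, rfl⟩ := Submodule.mem_sup.1
      (h3 (D.pow_le (by omega) (by omega : 3 ≤ 4) hw))
    obtain ⟨e, rfl⟩ := Submodule.mem_span_singleton.1 hr
    have hes : e • s ∈ D.N ^ 5 := Submodule.smul_mem _ _ (D.pow_le (by omega) (by omega) hs)
    have hκ4 : κ ∈ D.N ^ 4 := by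
      have := Submodule.sub_mem _ hw (D.pow_le (by omega) (by omega : 4 ≤ 5) hes)
      rwa [add_sub_cancel_right] at this
    refine G.add_mem ?_ (hfour _ hes)
    obtain ⟨p, hp, q, hq, rfl⟩ := Submodule.mem_sup.1 (D.K_le_gens hgab hgenab hκ)
    obtain ⟨γ, rfl⟩ := Submodule.mem_span_singleton.1 (comSpan_span_two a b hp)
    obtain ⟨α, β, α', β', g, hg', rfl⟩ := key q hq
    have hγ : γ = 0 := by
      by_contra hγ
      refine hcab ((Submodule.smul_mem_iff _ hγ).1 ?_)
      have := Submodule.sub_mem _ (D.pow_le (by omega) (by omega : 3 ≤ 4) hκ4)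
        (comSpan_le (fun p hp q hq => D.com3 hp hq) hq)
      rwa [add_sub_cancel_right] at this
    subst hγ
    rw [zero_smul, zero_add] at hκ4 ⊢
    have m21 : ∀ {p q : A}, p ∈ D.N ^ 1 → q ∈ D.N ^ 2 → p * q ∈ D.N ^ 3 := fun hp hq =>
      F.mul_mem_pow rfl hp hq
    have m12 : ∀ {p q : A}, p ∈ D.N ^ 2 → q ∈ D.N ^ 1 → p * q ∈ D.N ^ 3 := fun hp hq =>
      F.mul_mem_pow rfl hp hq
    have hab2 : a * b ∈ D.N ^ 2 := F.mul_mem_pow rfl ha hb
    have hba2 : b * a ∈ D.N ^ 2 := F.mul_mem_pow rfl hb ha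
    have hcls : F.cls 3 (α • (⟨_, m21 ha hab2⟩ - ⟨_, m12 hab2 ha⟩) +
        β • (⟨_, m21 ha hba2⟩ - ⟨_, m12 hba2 ha⟩) +
        (α' • (⟨_, m21 hb hab2⟩ - ⟨_, m12 hab2 hb⟩) +
          β' • (⟨_, m21 hb hba2⟩ - ⟨_, m12 hba2 hb⟩))) = 0 :=
      (F.cls_eq_zero _).2 (F.pow_le_null (j := 4) (show 3 ≤ m by omega) (by omega) (by
        have := Submodule.sub_mem _ hκ4 (hG4 hg')
        rw [add_sub_cancel_right] at this
        exact this))
    have hcls' : α • (T.l u (T.m u v) - T.r (T.m u v) u) +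
        β • (T.l u (T.m v u) - T.r (T.m v u) u) +
        (α' • (T.l v (T.m u v) - T.r (T.m u v) v) +
          β' • (T.l v (T.m v u) - T.r (T.m v u) v)) = 0 := by
      rw [← hcls]
      simp only [map_add, map_smul, map_sub]
      rfl
    rw [z1, z2, z3, z4, T.assoc, T.assoc] at hcls'
    obtain ⟨e1, e2⟩ := LinearIndependent.pair_iff.1 hXi (β - α) (α' - β') (by
      linear_combination (norm := module) hcls')
    rw [sub_eq_zero] at e1 e2
    subst e1 e2
    refine G.add_mem ?_ hg'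
    have hid : β • (a * (a * b) - a * b * a) + β • (a * (b * a) - b * a * a) +
        (α' • (b * (a * b) - a * b * b) + α' • (b * (b * a) - b * a * b)) =
        β • (a * a * b - b * (a * a)) + α' • (b * b * a - a * (b * b)) := by
      simp only [mul_assoc, smul_sub]
      abel
    rw [hid]
    refine G.add_mem (G.smul_mem _ ?_) (G.smul_mem _ ?_)
    · rw [← neg_sub]; exact G.neg_mem (hw1 b hb (Or.inr rfl) _ haa)
    · rw [← neg_sub]; exact G.neg_mem (hw1 a ha (Or.inl rfl) _ hbb)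
  have hX4 : finrank k (F.Lev 4) ≤ 1 := by
    refine (finrank_le_of_all_mem (S := S) fun q => ?_).trans
      ((finrank_span_le_card _).trans (by simp))
    obtain ⟨⟨w, hw⟩, rfl⟩ := F.cls_surjective 4 q
    obtain ⟨⟨w', hw'⟩, hm', e⟩ := Submodule.mem_map.1 (hall w hw)
    have e' : w' = w := e
    subst e'
    exact hm'
  have := F.finrank_one_le_of_line (i := 4) (by omega) (by omega) hX4 h6'
  omega

end long

theorem eq_bot_of_sq_le_K (hnil : ∃ m, D.N ^ (m + 1) = ⊥) (h : D.N * D.N ≤ D.K) :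
    D.N * D.N = ⊥ := by
  classical
  set m := Nat.find hnil with hm
  have hmb : D.N ^ (m + 1) = ⊥ := Nat.find_spec hnil
  rcases Nat.lt_or_ge m 2 with h1 | h1
  · refine le_bot_iff.1 ?_
    rw [← hmb, ← D.sq_eq]
    exact D.pow_le (by omega) (by omega)
  · exfalso
    have hne : D.N ^ m ≠ ⊥ := by
      obtain ⟨j, hj⟩ : ∃ j, m = j + 1 := ⟨m - 1, by omega⟩
      rw [hj]
      exact Nat.find_min hnil (by omega)
    obtain ⟨s, hs, hs0⟩ := Submodule.exists_mem_ne_zero_of_ne_bot hne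
    refine D.top_spec (by omega) hmb hs hs0 (D.tK (h ?_))
    rw [← D.sq_eq]
    exact D.pow_le (by omega) h1 hs

/-- A local symmetric algebra whose cocenter has dimension at most five has dimension at most
fifteen. -/
theorem finrank_le [IsAlgClosed k] (hnil : ∃ m, D.N ^ (m + 1) = ⊥)
    (hdim : finrank k D.N ≤ finrank k D.K + 4) : finrank k D.N ≤ 14 := by
  classical
  by_cases hKsq : D.N * D.N ≤ D.K
  · have h0 := D.eq_bot_of_sq_le_K hnil hKsq
    have hK : D.K = ⊥ := le_bot_iff.1 (h0 ▸ D.K_le)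
    rw [hK, finrank_bot] at hdim
    omega
  set m := Nat.find hnil with hmdef
  have hm : D.N ^ (m + 1) = ⊥ := Nat.find_spec hnil
  have hKlt : finrank k D.K < finrank k ↥(D.N ^ 2) := by
    rw [D.sq_eq]
    exact Submodule.finrank_lt_finrank_of_lt (lt_of_le_not_ge D.K_le hKsq)
  have h21 : finrank k ↥(D.N ^ 2) ≤ finrank k D.N := Submodule.finrank_mono D.two_le_one
  obtain ⟨g, hgN, hgen⟩ := exists_gens 3 D.two_le_one (by omega)
  have hg3 : Set.range g = {g 0, g 1, g 2} := by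
    ext w
    constructor
    · rintro ⟨i, rfl⟩
      fin_cases i <;> simp
    · rintro (rfl | rfl | rfl) <;> exact ⟨_, rfl⟩
  rw [hg3] at hgen
  have hgsub : ({g 0, g 1, g 2} : Set A) ⊆ D.N := by
    rintro w (rfl | rfl | rfl) <;> exact hgN _
  have hK3 : D.K ⊔ D.N ^ 3 ≤ Submodule.span k ({g 0 * g 1 - g 1 * g 0, g 0 * g 2 - g 2 * g 0,
      g 1 * g 2 - g 2 * g 1} : Set A) ⊔ D.N ^ 3 :=
    sup_le ((D.K_le_gens hgsub hgen).trans (sup_le_sup (comSpan_span_three _ _ _)
      (comSpan_le fun p hp q hq => D.com3 hp hq))) le_sup_right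
  have hK3d : finrank k ↥(D.K ⊔ D.N ^ 3) ≤ finrank k ↥(D.N ^ 3) + 3 := by
    have h1 := Submodule.finrank_mono hK3
    have h2 := Submodule.finrank_add_le_finrank_add_finrank (Submodule.span k
      ({g 0 * g 1 - g 1 * g 0, g 0 * g 2 - g 2 * g 0, g 1 * g 2 - g 2 * g 1} : Set A)) (D.N ^ 3)
    have h3 := finrank_span_three_le (k := k) (g 0 * g 1 - g 1 * g 0) (g 0 * g 2 - g 2 * g 0)
      (g 1 * g 2 - g 2 * g 1)
    omega
  rcases Nat.lt_or_ge m 3 with hm3 | hm3
  · have h3 : D.N ^ 3 = ⊥ := le_bot_iff.1 (hm ▸ D.pow_le (by omega) (by omega))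
    rw [h3, finrank_bot, sup_bot_eq] at hK3d
    omega
  have hne : D.N ^ m ≠ ⊥ := by
    obtain ⟨j, hj⟩ : ∃ j, m = j + 1 := ⟨m - 1, by omega⟩
    rw [hj]
    exact Nat.find_min hnil (by omega)
  obtain ⟨s, hs, hs0⟩ := Submodule.exists_mem_ne_zero_of_ne_bot hne
  have hts : D.t s ≠ 0 := D.top_spec (by omega) hm hs hs0
  have hKlt3 : D.K < D.K ⊔ D.N ^ 3 := lt_of_le_not_ge le_sup_left fun h =>
    hts (D.tK (h (Submodule.mem_sup_right (D.pow_le (by omega) hm3 hs))))
  have hKd := Submodule.finrank_lt_finrank_of_lt hKlt3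
  have h32 : D.K ⊔ D.N ^ 3 ≤ D.N ^ 2 :=
    sup_le (D.sq_eq.symm ▸ D.K_le) (D.pow_le (by omega) (by omega))
  have h32d := Submodule.finrank_mono h32
  rcases Nat.lt_or_ge m 6 with hm6 | hm6
  · have h6 : D.N ^ 6 = ⊥ := le_bot_iff.1 (hm ▸ D.pow_le (by omega) (by omega))
    have := D.bound_short h6
    omega
  exfalso
  have hNbig : 6 ≤ finrank k D.N := by
    have := D.finrank_pow_ge hm hne m 1 le_rfl (by omega)
    rw [pow_one] at this
    omega
  by_cases ha : finrank k D.N ≤ finrank k ↥(D.N ^ 2) + 2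
  swap
  · -- three generators
    refine D.three_gen hm hm6 hs hts hgsub hgen ?_
    have hks : D.K ⊔ Submodule.span k {s} = D.N ^ 2 := by
      refine Submodule.eq_of_le_of_finrank_le (sup_le (D.sq_eq.symm ▸ D.K_le)
        ((Submodule.span_singleton_le_iff_mem _ _).2 (D.pow_le (by omega) (by omega) hs))) ?_
      have hlt : D.K < D.K ⊔ Submodule.span k {s} := lt_of_le_not_ge le_sup_left fun h =>
        hts (D.tK (h (Submodule.mem_sup_right (Submodule.mem_span_singleton_self s))))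
      have := Submodule.finrank_lt_finrank_of_lt hlt
      omega
    exact hks.ge
  obtain ⟨f, hfN, hfgen⟩ := exists_gens 2 D.two_le_one ha
  have hf2 : Set.range f = {f 0, f 1} := by
    ext w
    constructor
    · rintro ⟨i, rfl⟩
      fin_cases i <;> simp
    · rintro (rfl | rfl) <;> exact ⟨_, rfl⟩
  rw [hf2] at hfgen
  have hfsub : ({f 0, f 1} : Set A) ⊆ D.N := by
    rintro w (rfl | rfl) <;> exact hfN _
  have hline : ∀ b ∈ D.N ^ 2, D.N ^ 2 ≤ Submodule.span k {b} ⊔ D.N ^ 3 → False := by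
    intro b hb hle
    have hK0 := D.commutative_of_line hm hm6 hs hts hfsub hfgen hb hle
    rw [hK0, finrank_bot] at hdim
    omega
  set c := f 0 * f 1 - f 1 * f 0 with hc
  have hc2 : c ∈ D.N ^ 2 := D.sq_eq.symm ▸ D.K_le (com_mem (hfN 0) (hfN 1))
  have hKc : D.K ⊔ D.N ^ 3 ≤ Submodule.span k {c} ⊔ D.N ^ 3 :=
    sup_le ((D.K_le_gens hfsub hfgen).trans (sup_le_sup (comSpan_span_two _ _)
      (comSpan_le fun p hp q hq => D.com3 hp hq))) le_sup_right
  by_cases ha1 : finrank k D.N ≤ finrank k ↥(D.N ^ 2) + 1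
  · -- one generator
    obtain ⟨e, heN, hegen⟩ := exists_gens 1 D.two_le_one ha1
    have he1 : Set.range e = {e 0} := by
      ext w
      constructor
      · rintro ⟨i, rfl⟩
        fin_cases i
        rfl
      · rintro rfl
        exact ⟨0, rfl⟩
    rw [he1] at hegen
    refine hline (e 0 * e 0) (D.sq_eq.symm ▸ Submodule.mul_mem_mul (heN 0) (heN 0)) ?_
    rw [D.sq_eq, Submodule.mul_le]
    intro p hp q hq
    obtain ⟨p₁, hp₁, p₂, hp₂, rfl⟩ := Submodule.mem_sup.1 (hegen hp)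
    obtain ⟨q₁, hq₁, q₂, hq₂, rfl⟩ := Submodule.mem_sup.1 (hegen hq)
    obtain ⟨c₁, rfl⟩ := Submodule.mem_span_singleton.1 hp₁
    obtain ⟨c₂, rfl⟩ := Submodule.mem_span_singleton.1 hq₁
    rw [show (c₁ • e 0 + p₂) * (c₂ • e 0 + q₂) = (c₁ * c₂) • (e 0 * e 0) +
      ((c₁ • e 0) * q₂ + p₂ * (c₂ • e 0 + q₂)) by
        simp only [mul_add, add_mul, smul_mul_assoc, mul_smul_comm]; module]
    rw [D.sq_eq] at hp₂ hq₂
    exact Submodule.add_mem _ (Submodule.mem_sup_left (Submodule.mem_span_singleton.2 ⟨_, rfl⟩))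
      (Submodule.mem_sup_right (Submodule.add_mem _
        (D.two_mul_le.2 (Submodule.mul_mem_mul (D.N.smul_mem _ (heN 0)) hq₂))
        (D.two_mul_le.1 (Submodule.mul_mem_mul hp₂ hq))))
  have hlt23 : finrank k ↥(D.K ⊔ D.N ^ 3) < finrank k ↥(D.N ^ 2) := by
    by_contra hge
    push Not at hge
    exact hline c hc2 ((Submodule.eq_of_le_of_finrank_le h32 hge).ge.trans hKc)
  have hKs : D.K ⊔ Submodule.span k {s} = D.K ⊔ D.N ^ 3 := by
    refine Submodule.eq_of_le_of_finrank_le (sup_le le_sup_left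
      ((Submodule.span_singleton_le_iff_mem _ _).2
        (Submodule.mem_sup_right (D.pow_le (by omega) hm3 hs)))) ?_
    have hlt : D.K < D.K ⊔ Submodule.span k {s} := lt_of_le_not_ge le_sup_left fun h =>
      hts (D.tK (h (Submodule.mem_sup_right (Submodule.mem_span_singleton_self s))))
    have := Submodule.finrank_lt_finrank_of_lt hlt
    omega
  have hc3 : c ∉ D.N ^ 3 := by
    intro h
    have hle : D.K ⊔ D.N ^ 3 ≤ D.N ^ 3 :=
      hKc.trans (sup_le ((Submodule.span_singleton_le_iff_mem _ _).2 h) le_rfl)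
    have hd := Submodule.finrank_mono hle
    obtain ⟨w, hw, hwgen⟩ := exists_gens 1 (D.pow_le (show 1 ≤ 2 by omega) (show 2 ≤ 3 by omega))
      (by omega)
    refine hline (w 0) (hw 0) (hwgen.trans (sup_le_sup_right ?_ _))
    refine Submodule.span_le.2 ?_
    rintro _ ⟨i, rfl⟩
    fin_cases i
    exact Submodule.mem_span_singleton_self _
  have h2 : finrank k ↥(D.N ^ 2) ≤ finrank k ↥(D.N ^ 3) + 2 := by
    have h1 := Submodule.finrank_mono hKc
    have h1' := finrank_step_le (D.N ^ 3) c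
    omega
  exact D.two_gen hm hm6 hs hts hfsub hfgen hc3 h2 (by omega) (le_sup_right.trans hKs.ge)

end Loc

end CfsgLib.Blocks.KFive
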