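import Cfsg.Agent.Lib.Blocks.KFive.Local
import Cfsg.Agent.Lib.Blocks.GroupAlgebraSmall

/-!
# Symmetric algebras with a simple top and cocenter of dimension at most five
-/

namespace CfsgLib.Blocks.KFive

open Module

set_option linter.unusedVariables false
set_option linter.unusedSectionVars false

universe u w

/-- A simple top with cocenter of dimension at most five gives a basic algebra of dimension at
most fifteen. -/
theorem topBound_five (k : Type u) [Field k] [IsAlgClosed k] {K : ℕ} (hK : K ≤ 5) :
    TopBound.{u, w} k K 15 := by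
  intro A _ _ _ n _ π hπ m hm hC t hts htn q hdiv
  classical
  obtain ⟨ε, hε, hεπ, hA, hX, hker⟩ := corner_structure π hπ hm
  set R := corner k ε with hR
  let q₀ : R →ₗ[k] A ⧸ commSub k A := (commSub k A).mkQ.comp R.subtype
  have hle : finrank k R ≤ finrank k (commOn R) + 5 := by
    have h1 := LinearMap.finrank_range_add_finrank_ker q₀
    have h2 := (Submodule.finrank_le (LinearMap.range q₀)).trans hC
    have h3 : finrank k (LinearMap.ker q₀) ≤ finrank k (commOn R) := by
      refine LinearMap.finrank_le_finrank_of_injective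
        (f := LinearMap.codRestrict (commOn R) (R.subtype.comp (LinearMap.ker q₀).subtype)
          fun r => hker _ r.1.2 ((Submodule.Quotient.mk_eq_zero _).1 r.2)) ?_
      intro a b h
      have := congrArg Subtype.val h
      exact Subtype.ext (Subtype.ext this)
    omega
  set L := LinearMap.ker π.toLinearMap with hL
  set N : Submodule k A := R ⊓ L with hN
  have hLmem : ∀ x, x ∈ L ↔ π x = 0 := fun x => Iff.rfl
  have hεR : ε ∈ R := (mem_corner hε).2 (by rw [hε.eq, hε.eq])
  have hRmul : ∀ x ∈ R, ∀ y ∈ R, x * y ∈ R := fun x hx y hy => by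
    rw [mem_corner hε, ← mul_assoc, (corner_unit hε hx).1, mul_assoc, (corner_unit hε hy).2]
  have hNN : N * N ≤ N := by
    rw [Submodule.mul_le]
    intro x hx y hy
    exact ⟨hRmul x hx.1 y hy.1, show π (x * y) = 0 by rw [map_mul, (hLmem x).1 hx.2, zero_mul]⟩
  have hdec : ∀ r ∈ R, ∃ c : k, r - c • ε ∈ N := by
    intro r hr
    refine ⟨π r 0 0, Submodule.sub_mem _ hr (Submodule.smul_mem _ _ hεR), ?_⟩
    show π (r - π r 0 0 • ε) = 0
    rw [map_sub, map_smul, hεπ]
    conv_lhs => arg 1; rw [← (mem_corner hε).1 hr, map_mul, map_mul, hεπ,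
      Matrix.single_mul_mul_single]
    simp
  have hexp : ∀ x ∈ R, ∀ y ∈ R, ∀ c c' : k, x * y - y * x =
      (x - c • ε) * (y - c' • ε) - (y - c' • ε) * (x - c • ε) := by
    intro x hx y hy c c'
    simp only [mul_sub, sub_mul, smul_mul_assoc, mul_smul_comm, smul_sub, smul_smul,
      (corner_unit hε hx).1, (corner_unit hε hx).2, (corner_unit hε hy).1, (corner_unit hε hy).2,
      hε.eq]
    rw [mul_comm c c']
    abel
  let D : Loc k A :=
    { N := N, t := t, hts := hts, hNN := hNN
      hnd := fun x hx h0 h => by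
        refine htn x fun a => ?_
        obtain ⟨h1, h2⟩ := corner_unit hε hx.1
        have key : t (x * a) = t (x * (ε * a * ε)) := by
          calc t (x * a) = t (ε * (x * (ε * a))) := by
                rw [← mul_assoc x, h2, ← mul_assoc ε, h1]
            _ = t (x * (ε * a) * ε) := hts _ _
            _ = t (x * (ε * a * ε)) := by rw [mul_assoc]
        rw [key]
        have hmem : ε * a * ε ∈ R := (mem_corner hε).2 (by
          simp only [← mul_assoc, hε.eq]
          simp only [mul_assoc, hε.eq])
        obtain ⟨c, hc⟩ := hdec _ hmem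
        have := h _ hc
        rwa [mul_sub, mul_smul_comm, h2, map_sub, map_smul, h0, smul_zero, sub_zero] at this }
  have hKR : commOn R ≤ D.K := by
    refine Submodule.span_le.2 ?_
    rintro _ ⟨⟨x, y⟩, ⟨hx, hy⟩, rfl⟩
    obtain ⟨c, hc⟩ := hdec x hx
    obtain ⟨c', hc'⟩ := hdec y hy
    show x * y - y * x ∈ D.K
    rw [hexp x hx y hy c c']
    exact com_mem hc hc'
  have hRN : finrank k R ≤ finrank k N + 1 := by
    refine le_trans (Submodule.finrank_mono ?_) (finrank_step_le N ε)
    intro r hr
    obtain ⟨c, hc⟩ := hdec r hr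
    exact Submodule.mem_sup.2 ⟨c • ε, Submodule.mem_span_singleton.2 ⟨c, rfl⟩, r - c • ε, hc,
      by abel⟩
  have hNR : finrank k N + 1 ≤ finrank k R := by
    have hεN : ε ∉ N := fun h => by
      have := congrFun (congrFun ((hLmem ε).1 h.2) 0) 0
      rw [hεπ] at this
      simp at this
    have hlt : N < R := lt_of_le_not_ge inf_le_left fun h => hεN (h hεR)
    exact Submodule.finrank_lt_finrank_of_lt hlt
  have h14 := D.finrank_le ⟨m, le_bot_iff.1 (by
    calc N ^ (m + 1) ≤ L ^ (m + 1) := by gcongr; exact inf_le_right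
      _ = ⊥ := by rw [pow_succ, hm, Submodule.bot_mul])⟩ (by
    have := Submodule.finrank_mono hKR
    show finrank k N ≤ finrank k D.K + 4
    omega)
  have h15 : finrank k R ≤ 15 := by
    have : finrank k N ≤ 14 := h14
    omega
  exact ⟨_, h15, hA, hX ▸ hdiv ε hε⟩

end CfsgLib.Blocks.KFive
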