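import Cfsg.Agent.Lib.Blocks.KFive.Eight
import Cfsg.Agent.Lib.Blocks.KFive.Simple
import Cfsg.Agent.Lib.Blocks.BlockAlgebraSmall
import Cfsg.Agent.Lib.Blocks.TwoChars
import Cfsg.Agent.Lib.Blocks.CyclicMain
import Cfsg.Agent.Lib.Blocks.HarrisKnorr

/-!
# Blocks with one Brauer character and five ordinary characters
-/

namespace CfsgLib.Blocks.KFive

open Cfsg CfsgLib.CharTheory CfsgLib.Blocks

set_option linter.unusedVariables false
set_option linter.style.haveILetI false
set_option linter.unusedSectionVars false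

universe u

variable {p : ℕ} {M : Ideal AlgInt} {G : Type u} [Group G] [Fintype G]

/-- With at most five characters the defect groups have order at most fifteen. -/
theorem pow_defect_le [Fact p.Prime] (hM : IsPModular p M) {B : Set (IrrCharacter G)}
    (hB : IsPBlock M B) (hl : blockRank p B = 1) (hk : (bset B).card ≤ 5) :
    p ^ blockDefect p B ≤ 15 := by
  classical
  obtain ⟨φ, f, d, n, hf, hφ, hval, hdeg, hdn, hsq⟩ := exists_single_brauer hM hB hl
  obtain ⟨r, c, hck, hA, hq⟩ := exists_algebra_of_top hM hB hl (C := 15)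
    fun k _ _ => topBound_five k hk
  refine le_trans ?_ hck
  have hsum : ∑ χ ∈ bset B, charDegree (χ : G → ℂ) ^ 2 = p ^ blockDefect p B * f ^ 2 := by
    rw [← hsq, Finset.sum_mul]
    exact Finset.sum_congr rfl fun χ hχ => by rw [hdeg χ (mem_bset.1 hχ), mul_pow]
  rw [hsum] at hA
  obtain ⟨χ, hχ, hχ0⟩ := exists_height_zero hM hB
  have hvf : f.factorization p ≤ minDv p B := by
    rw [← hχ0]
    exact (Nat.factorization_le_iff_dvd hf.ne' (irr_charDegree_pos χ).ne').2
      (by rw [hdeg χ hχ]; exact dvd_mul_left _ _) p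
  have hne : p ^ blockDefect p B * f ^ 2 ≠ 0 :=
    mul_ne_zero (pow_ne_zero _ hM.1.ne_zero) (pow_ne_zero _ hf.ne')
  have hr : r ≠ 0 := fun h => hne (by rw [hA, h, zero_mul])
  have hc : c ≠ 0 := fun h => hne (by rw [hA, h, mul_zero, mul_zero])
  have h1 := congrArg (fun x => Nat.factorization x p) hA
  simp only [Nat.factorization_mul (pow_ne_zero _ hM.1.ne_zero) (pow_ne_zero _ hf.ne'),
    Nat.factorization_mul hr (mul_ne_zero hr hc), Nat.factorization_mul hr hc,
    Finsupp.add_apply, Nat.factorization_pow, Finsupp.smul_apply, smul_eq_mul,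
    hM.1.factorization_self, mul_one] at h1
  have h2 := (hM.1.pow_dvd_iff_le_factorization (mul_ne_zero hr hc)).1 hq
  rw [Nat.factorization_mul hr hc, Finsupp.add_apply] at h2
  have hd := blockDefect_eq p B
  have hle := minDv_le_card hM hB (p := p)
  exact Nat.le_of_dvd (Nat.pos_of_ne_zero hc)
    ((hM.1.pow_dvd_iff_le_factorization hc).2 (by omega))

/-- A block of defect one with one Brauer character has `p` characters. -/
theorem card_eq_prime [Fact p.Prime] (hM : IsPModular p M) {B : Set (IrrCharacter G)}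
    (hB : IsPBlock M B) {D : Subgroup G} (hD : IsDefectGroup p M B D) (hl : blockRank p B = 1)
    (hd : blockDefect p B = 1) : Nat.card B = p := by
  classical
  have hcard := card_defectGroup hM hB hD
  rw [hd, pow_one] at hcard
  have hcyc : IsCyclic D := isCyclic_of_prime_card hcard
  obtain ⟨c, hmax⟩ := exists_maximal_at hM hB hD
  haveI := Fintype.ofFinite (Subgroup.centralizer (D : Set G))
  have hind := (induced_centralizer_iff hM (defectGroup_isPGroup hD)).2 hmax.1
  have h := cycData_of_defect (a := 1) hM hD hind hcyc (by rw [hcard, pow_one]) le_rfl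
  haveI : Finite (↥D →* ℂˣ) := finite_linearChars D
  haveI : Fintype (↥D →* ℂˣ) := Fintype.ofFinite _
  obtain ⟨s, m, ζ, δ, α, X, Y, hV, hS⟩ := h.exists_full
  have hB' : (B : Set (IrrCharacter G)) = ↑(X ∪ Y) := by ext χ; simp [hS.union χ]
  have hY := hS.cardY
  rw [← hS.rank, hl, mul_one, pow_one] at hY
  rw [hB', Nat.card_coe_set_eq, Set.ncard_coe_finset, Finset.card_union_of_disjoint hS.disj,
    hS.cardX, ← hS.rank, hl, hY]
  have := hM.1.one_lt
  omega

/-- One Brauer character and five characters: the defect group has order five, or is nonabelian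
of order eight. -/
theorem defect_five [Fact p.Prime] (hM : IsPModular p M) {B : Set (IrrCharacter G)}
    (hB : IsPBlock M B) {D : Subgroup G} (hD : IsDefectGroup p M B D) (hl : blockRank p B = 1)
    (hk : Nat.card B = 5) : Nat.card D = 5 ∨ (Nat.card D = 8 ∧ ¬ IsMulCommutative D) := by
  classical
  have hs5 : (bset B).card = 5 := by rw [card_bset, hk]
  obtain ⟨φ, f, d, n, hf, hφ, hval, hdeg, hdn, hsq⟩ := exists_single_brauer hM hB hl
  have hd0 : ∀ χ ∈ bset B, 0 < d χ := fun χ hχ => Nat.pos_of_ne_zero fun h0 =>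
    (irr_charDegree_pos χ).ne' (by rw [hdeg χ (mem_bset.1 hχ), h0, zero_mul])
  have h15 := pow_defect_le hM hB hl hs5.le
  have hlow : 5 ≤ p ^ blockDefect p B := by
    rw [← hsq, ← hs5]
    refine le_trans (by simp) (Finset.sum_le_sum (f := fun _ => 1) fun χ hχ => ?_)
    exact Nat.one_le_pow _ _ (hd0 χ hχ)
  have hno := five_squares hs5 hd0 hsq
  have hcard := card_defectGroup hM hB hD
  rw [hcard]
  have hp15 : p ≤ 15 := by
    refine le_trans (Nat.le_self_pow (fun h0 => ?_) p) h15
    rw [h0, pow_zero] at hlow; omega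
  have hpd : blockDefect p B ≤ 3 := by
    by_contra hc
    have h2 := (Nat.pow_le_pow_left hM.1.two_le (blockDefect p B)).trans h15
    have h16 := (Nat.pow_le_pow_right (show 1 ≤ 2 by norm_num) (show 4 ≤ blockDefect p B by omega)).trans h2
    norm_num at h16
  have hone : blockDefect p B = 1 → p = 5 := fun h1 => by
    have := card_eq_prime hM hB hD hl h1
    omega
  have hpr := hM.1
  by_cases h5 : p ^ blockDefect p B = 5
  · exact Or.inl h5
  have h8 : p ^ blockDefect p B = 8 := by
    obtain ⟨hn7, hn9⟩ := hno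
    interval_cases hb : blockDefect p B
    · simp at hlow
    · have := hone rfl
      subst this
      simp at h5
    · have hp4 : p < 4 := by nlinarith
      interval_cases p
      all_goals simp_all (config := {decide := true})
    · have hp3 : p < 3 := by
        by_contra hc
        have := Nat.pow_le_pow_left (show 3 ≤ p by omega) 3
        omega
      have hp2 := hpr.two_le
      obtain rfl : p = 2 := by omega
      norm_num
  refine Or.inr ⟨h8, fun hcomm => ?_⟩
  obtain ⟨c, hmax⟩ := exists_maximal_at hM hB hD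
  exact not_abelian_eight hM hmax
    (fun x hx y hy => congrArg Subtype.val (hcomm.is_comm.comm (⟨x, hx⟩ : D) ⟨y, hy⟩)) hl hk h8

end CfsgLib.Blocks.KFive
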