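import Cfsg.Agent.Lib.Blocks.KFive.Good
import Mathlib.LinearAlgebra.Dimension.OrzechProperty

/-!
# Degree three has dimension at most two
-/

namespace CfsgLib.Blocks.KFive

open Module

set_option linter.unusedVariables false
set_option linter.unusedSectionVars false

variable {k : Type*} [Field k] {V U X : Type*} [AddCommGroup V] [Module k V] [AddCommGroup U]
  [Module k U] [AddCommGroup X] [Module k X] [FiniteDimensional k V] [FiniteDimensional k U]
  [FiniteDimensional k X] {T : Tower k V U X}

/-- The degree three products of a basis of good elements. -/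
theorem good_span (hV : finrank k V = 3) {g : Fin 3 → V} (hg : LinearIndependent k g) {x : Fin 3 → X}
    (hx : ∀ i u, T.l (g i) u ∈ Submodule.span k {x i}) :
    Submodule.span k (Set.range x) = ⊤ := by
  refine eq_top_iff.2 fun z _ => T.memX (fun a u => ?_) z
  have hgt := hg.span_eq_top_of_card_eq_finrank (by rw [Fintype.card_fin, hV])
  refine (Submodule.span_le.2 ?_ : _ ≤ Submodule.comap (T.l.flip u) (Submodule.span k (Set.range x)))
    (hgt ▸ Submodule.mem_top)
  rintro _ ⟨i, rfl⟩
  exact Submodule.span_mono (Set.singleton_subset_iff.2 (Set.mem_range_self i)) (hx i u)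

theorem finrank_le_three_of_good (hV : finrank k V = 3) (h : ThreeGood T) : finrank k X ≤ 3 := by
  obtain ⟨g, hg, hgood⟩ := h
  choose x hx using fun i => (hgood i).2
  have h1 := finrank_range_le_card (R := k) x
  rw [Set.finrank, good_span hV hg hx, finrank_top, Fintype.card_fin] at h1
  exact h1

/-- Good elements on both sides leave at most two dimensions in degree three. -/
theorem not_three (hV : finrank k V = 3) (hU : finrank k U = 3) (hX : finrank k X = 3)
    (hcU : T.CommU) (hcX : T.CommX) (hl : ThreeGood T) (hr : ThreeGood T.opp) : False := by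
  classical
  obtain ⟨a, ha, hag⟩ := hl
  obtain ⟨a', ha', hag'⟩ := hr
  choose x hx using fun i => (hag i).2
  choose x' hx' using fun i => (hag' i).2
  let A : Basis (Fin 3) k V := basisOfLinearIndependentOfCardEqFinrank ha (by simp [hV])
  let A' : Basis (Fin 3) k V := basisOfLinearIndependentOfCardEqFinrank ha' (by simp [hV])
  have hA : ⇑A = a := coe_basisOfLinearIndependentOfCardEqFinrank ha _
  have hA' : ⇑A' = a' := coe_basisOfLinearIndependentOfCardEqFinrank ha' _
  have hxs := good_span hV ha hx
  have hxs' : Submodule.span k (Set.range x') = ⊤ := good_span (T := T.opp) hV ha' hx'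
  have hxi := linearIndependent_of_top_le_span_of_card_eq_finrank hxs.ge (by simp [hX])
  have hxi' := linearIndependent_of_top_le_span_of_card_eq_finrank hxs'.ge (by simp [hX])
  let Xb : Basis (Fin 3) k X := Basis.mk hxi hxs.ge
  let Xb' : Basis (Fin 3) k X := Basis.mk hxi' hxs'.ge
  have hXb : ⇑Xb = x := Basis.coe_mk hxi hxs.ge
  have hXb' : ⇑Xb' = x' := Basis.coe_mk hxi' hxs'.ge
  set G : Fin 3 → U →ₗ[k] k := fun i => (Xb.coord i).comp (T.l (a i)) with hG
  set H : Fin 3 → U →ₗ[k] k := fun j => (Xb'.coord j).comp (T.r.flip (a' j)) with hH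
  have hl' : ∀ i v u, Xb.coord i (T.l v u) = A.coord i v * G i u := by
    intro i v u
    conv_lhs => rw [← A.sum_repr v]
    rw [map_sum, LinearMap.sum_apply, map_sum, Finset.sum_eq_single i]
    · rw [map_smul, LinearMap.smul_apply, map_smul, smul_eq_mul, hA]; rfl
    · intro j _ hji
      obtain ⟨c, hc⟩ := Submodule.mem_span_singleton.1 (hx j u)
      rw [map_smul, LinearMap.smul_apply, hA, ← hc, map_smul, map_smul, ← hXb, Basis.coord_apply,
        Basis.repr_self, Finsupp.single_eq_of_ne hji.symm, smul_zero, smul_zero]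
    · simp
  have hr' : ∀ j v u, Xb'.coord j (T.r u v) = H j u * A'.coord j v := by
    intro j v u
    conv_lhs => rw [← A'.sum_repr v]
    rw [map_sum, map_sum, Finset.sum_eq_single j]
    · rw [map_smul, map_smul, smul_eq_mul, hA', mul_comm]; rfl
    · intro i _ hij
      obtain ⟨c, hc⟩ := Submodule.mem_span_singleton.1 (hx' i u)
      rw [Tower.opp_l] at hc
      rw [map_smul, map_smul, hA', ← hc, map_smul, ← hXb', Basis.coord_apply,
        Basis.repr_self, Finsupp.single_eq_of_ne hij.symm, smul_zero, smul_zero]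
    · simp
  set c : Fin 3 → Fin 3 → k := fun i j => Xb.coord i (x' j) with hc
  have hexp : ∀ i z, Xb.coord i z = ∑ j, c i j * Xb'.coord j z := by
    intro i z
    conv_lhs => rw [← Xb'.sum_repr z]
    simp only [map_sum, map_smul, smul_eq_mul, hXb', hc, Basis.coord_apply]
    exact Finset.sum_congr rfl fun j _ => mul_comm _ _
  have hcoord : ∀ (B : Basis (Fin 3) k V) (i j : Fin 3), B.coord i (B j) = if j = i then 1 else 0 :=
    fun B i j => by rw [Basis.coord_apply, Basis.repr_self, Finsupp.single_apply]
  have h0 : ∀ i l, l ≠ i → ∀ j b, c i j * H j (T.m (a l) b) = 0 := by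
    intro i l hli j b
    have h1 := hl' i (a l) (T.m b (a' j))
    rw [← hA, hcoord, if_neg hli, zero_mul, ← T.assoc, hexp, hA,
      Finset.sum_eq_single j (fun i' _ hne => by
        rw [hr', ← hA', hcoord, if_neg hne.symm, mul_zero, mul_zero]) (by simp),
      hr', ← hA', hcoord, if_pos rfl, mul_one] at h1
    exact h1
  have hHne : ∀ j, ∃ u, H j u ≠ 0 := by
    intro j
    by_contra h
    push Not at h
    have hz : ∀ z, z ∈ LinearMap.ker (Xb'.coord j) := fun z => T.memX3 (fun p q r => by
      rw [LinearMap.mem_ker, ← T.assoc, hr', h, zero_mul]) z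
    have := LinearMap.mem_ker.1 (hz (Xb' j))
    simp at this
  have huniq : ∀ j i i', c i j ≠ 0 → c i' j ≠ 0 → i = i' := by
    intro j i i' h h'
    by_contra hne
    obtain ⟨u, hu⟩ := hHne j
    refine hu (LinearMap.mem_ker.1 (T.memU (S := LinearMap.ker (H j)) (fun v b => ?_) u))
    rw [LinearMap.mem_ker, ← A.sum_repr v, map_sum, LinearMap.sum_apply, map_sum]
    refine Finset.sum_eq_zero fun l _ => ?_
    rw [map_smul, LinearMap.smul_apply, map_smul, hA, smul_eq_zero]
    right
    by_cases hl : l = i
    · exact (mul_eq_zero.1 (h0 i' l (hl ▸ hne) j b)).resolve_left h'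
    · exact (mul_eq_zero.1 (h0 i l hl j b)).resolve_left h
  have hex : ∀ j, ∃ i, c i j ≠ 0 := by
    intro j
    by_contra h
    push Not at h
    refine hxi'.ne_zero j (Xb.repr.injective ?_)
    rw [map_zero]
    exact Finsupp.ext fun i => h i
  choose π hπ using hex
  have hπsurj : Function.Surjective π := by
    intro i
    by_contra h
    push Not at h
    have : ∀ z, Xb.coord i z = 0 := fun z => by
      rw [hexp]
      refine Finset.sum_eq_zero fun j _ => ?_
      rw [by_contra fun hne => h j (huniq j i (π j) hne (hπ j)).symm, zero_mul]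
    have := this (Xb i)
    simp at this
  have hπinj : Function.Injective π := Finite.injective_iff_surjective.2 hπsurj
  set d : Fin 3 → k := fun j => c (π j) j with hd
  have hf : ∀ j z, Xb.coord (π j) z = d j * Xb'.coord j z := by
    intro j z
    rw [hexp, Finset.sum_eq_single j (fun j' _ hne => ?_) (by simp)]
    rw [by_contra fun h => hne (hπinj (huniq j' (π j) (π j') h (hπ j')).symm), zero_mul]
  -- three monomials
  set ν : Fin 3 → V →ₗ[k] k := fun j => d j • (H j).comp (T.m (a (π j))) with hν
  set β : Fin 3 → V →ₗ[k] k := fun j => A'.coord j with hβ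
  set α : Fin 3 → V →ₗ[k] k := fun j => A.coord (π j) with hα
  set G' : Fin 3 → U →ₗ[k] k := fun j => G (π j) with hG'
  set H' : Fin 3 → U →ₗ[k] k := fun j => d j • H j with hH'
  have hG'm : ∀ j p q, G' j (T.m p q) = ν j p * β j q := by
    intro j p q
    have h1 := hl' (π j) (a (π j)) (T.m p q)
    rw [← hA, hcoord, if_pos rfl, one_mul, ← T.assoc, hf, hr', hA] at h1
    show G (π j) (T.m p q) = d j * H j (T.m (a (π j)) p) * A'.coord j q
    rw [← h1, mul_assoc]
  have hH'm : ∀ j p q, H' j (T.m p q) = α j p * ν j q := by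
    intro j p q
    have h1 := hl' (π j) p (T.m q (a' j))
    rw [← T.assoc, hf, hr', ← hA', hcoord, if_pos rfl, mul_one] at h1
    show d j * H j (T.m p q) = A.coord (π j) p * ν j q
    rw [h1, hA']
    show _ * G' j (T.m q (a' j)) = _
    rw [hG'm]
    simp only [β, ← hA', hcoord, if_pos, mul_one]
  have hsepU : ∀ u, (∀ j, G' j u = 0) → u = 0 := by
    intro u h
    refine T.lf u fun v => Xb.repr.injective ?_
    rw [map_zero]
    refine Finsupp.ext fun i => ?_
    obtain ⟨j, rfl⟩ := hπsurj i
    show Xb.coord (π j) (T.l v u) = 0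
    rw [hl', show G (π j) u = 0 from h j, mul_zero]
  let Φ : U →ₗ[k] (Fin 3 → k) := LinearMap.pi G'
  have hΦ : Function.Bijective Φ := by
    have hi : Function.Injective Φ := (injective_iff_map_eq_zero Φ).2 fun u h =>
      hsepU u fun j => congrFun h j
    exact ⟨hi, (LinearMap.injective_iff_surjective_of_finrank_eq_finrank (by simp [hU])).1 hi⟩
  let Φe := LinearEquiv.ofBijective Φ hΦ
  set D : Fin 3 → Fin 3 → k := fun j l => H' j (Φe.symm (Pi.single l 1)) with hD
  have hHD : ∀ j u, H' j u = ∑ l, D j l * G' l u := by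
    intro j u
    conv_lhs => rw [← Φe.symm_apply_apply u, pi_eq_sum_univ' (Φe u)]
    simp only [map_sum, map_smul, smul_eq_mul, hD, mul_comm]
    rfl
  let Ψ : V →ₗ[k] (Fin 3 → k) := LinearMap.pi ν
  have hΨ : Function.Bijective Ψ := by
    have hi : Function.Injective Ψ := (injective_iff_map_eq_zero Ψ).2 fun b h =>
      T.mf b fun q => hsepU _ fun j => by
        rw [hG'm, show ν j b = 0 from congrFun h j, zero_mul]
    exact ⟨hi, (LinearMap.injective_iff_surjective_of_finrank_eq_finrank (by simp [hV])).1 hi⟩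
  choose e he using fun l => hΨ.2 (Pi.single l 1)
  have hνe : ∀ j l, ν j (e l) = if j = l then 1 else 0 := by
    intro j l
    rw [← Pi.single_apply l (1 : k) j, ← he l]
    rfl
  have hkey : ∀ j l q, α j (e l) * ν j q = D j l * β l q := by
    intro j l q
    have := hHD j (T.m (e l) q)
    rw [hH'm, Finset.sum_eq_single l (fun i _ hne => by
      rw [hG'm, hνe, if_neg hne, zero_mul, mul_zero]) (by simp), hG'm, hνe, if_pos rfl,
      one_mul] at this
    exact this
  have hβd : ∀ l i, β l (a' i) = if i = l then 1 else 0 := fun l i => by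
    simp only [β, ← hA', hcoord]
  have hDu : ∀ j l l', D j l ≠ 0 → D j l' ≠ 0 → l = l' := by
    intro j l l' h h'
    by_contra hne
    have e1 := hkey j l (a' l')
    rw [hβd, if_neg (fun h => hne h.symm), mul_zero] at e1
    have e2 := hkey j l' (a' l')
    rw [hβd, if_pos rfl, mul_one] at e2
    have e3 := hkey j l (a' l)
    rw [hβd, if_pos rfl, mul_one] at e3
    have hν0 : ν j (a' l') = 0 := (mul_eq_zero.1 e1).resolve_left fun h0 => h (by
      rw [← e3, h0, zero_mul])
    exact h' (by rw [← e2, hν0, mul_zero])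
  have hDe : ∀ j, ∃ l, D j l ≠ 0 := by
    intro j
    by_contra h
    push Not at h
    obtain ⟨u, hu⟩ := hHne j
    have := hHD j u
    simp only [h, zero_mul, Finset.sum_const_zero] at this
    exact hu ((mul_eq_zero.1 this).resolve_left (hπ j))
  choose σ hσ using hDe
  set P : Fin 3 → k := fun j => α j (e (σ j)) with hP
  have hP0 : ∀ j, P j ≠ 0 := fun j h => hσ j (by
    have := hkey j (σ j) (a' (σ j))
    rw [hβd, if_pos rfl, mul_one, show α j (e (σ j)) = 0 from h, zero_mul] at this
    exact this.symm)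
  have hν0 : ∀ j, ν j ≠ 0 := fun j h => by
    have := hνe j j
    rw [h, LinearMap.zero_apply, if_pos rfl] at this
    exact zero_ne_one this
  have hαν : ∀ j v, α j v = P j * ν (σ j) v := by
    intro j v
    have hv : v = ∑ l, ν l v • e l := hΨ.1 (by
      funext i
      rw [map_sum, Finset.sum_apply]
      simp only [map_smul, Pi.smul_apply, smul_eq_mul, he, Pi.single_apply, mul_ite, mul_one,
        mul_zero, Finset.sum_ite_eq, Finset.mem_univ, if_true]
      rfl)
    conv_lhs => rw [hv]
    rw [map_sum, Finset.sum_eq_single (σ j) (fun l _ hne => ?_) (by simp), map_smul, smul_eq_mul,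
      mul_comm]
    have hD0 : D j l = 0 := by_contra fun h => hne (hDu j l (σ j) h (hσ j))
    have hz : α j (e l) = 0 := by
      by_contra h
      refine hν0 j (LinearMap.ext fun q => ?_)
      have := hkey j l q
      rw [hD0, zero_mul] at this
      simpa [h] using this
    rw [map_smul, hz, smul_zero]
  have hσinj : Function.Injective σ := by
    intro i j hij
    by_contra hne
    have e1 : α i (A (π i)) = 1 := by simp only [α, hcoord, if_pos]
    have e2 : α j (A (π i)) = 0 := by
      simp only [α, hcoord, if_neg (fun h => hne (hπinj h))]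
    rw [hαν, hij] at e1
    rw [hαν, mul_eq_zero] at e2
    rw [e2.resolve_left (hP0 j), mul_zero] at e1
    exact zero_ne_one e1
  have hνβ : ∀ j q, P j * ν j q = D j (σ j) * β (σ j) q := fun j q => hkey j (σ j) q
  set F : Fin 3 → U →ₗ[k] k := fun j => (P j)⁻¹ • H' j with hF
  have hFm : ∀ j p q, F j (T.m p q) = ν (σ j) p * ν j q := by
    intro j p q
    rw [hF, LinearMap.smul_apply, smul_eq_mul, hH'm, hαν, ← mul_assoc, ← mul_assoc,
      inv_mul_cancel₀ (hP0 j), one_mul]
  have hsymm : ∀ F₀ : U →ₗ[k] k, (∀ p q, F₀ (T.m p q) = F₀ (T.m q p)) → F₀ = 0 := fun F₀ h =>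
    LinearMap.ext fun u => LinearMap.mem_ker.1 (sub_of_top hcU (S := LinearMap.ker F₀)
      (fun r : V × V => by rw [LinearMap.mem_ker, map_sub, h, sub_self]) u)
  by_cases hinv : ∃ j, σ (σ j) = j
  · obtain ⟨j, hj⟩ := hinv
    by_cases hfix : σ j = j
    · have := LinearMap.congr_fun (hsymm (F j) fun p q => by rw [hFm, hFm, hfix, mul_comm])
        (T.m (e j) (e j))
      rw [hFm, hfix, hνe, if_pos rfl, mul_one, LinearMap.zero_apply] at this
      exact one_ne_zero this
    · have := LinearMap.congr_fun (hsymm (F j + F (σ j)) fun p q => by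
        rw [LinearMap.add_apply, LinearMap.add_apply, hFm, hFm, hFm, hFm, hj]; ring)
        (T.m (e (σ j)) (e j))
      rw [LinearMap.add_apply, hFm, hFm, hj, hνe, hνe, hνe, hνe, if_pos rfl, if_pos rfl,
        if_neg (Ne.symm hfix), mul_one, zero_mul, add_zero, LinearMap.zero_apply] at this
      exact one_ne_zero this
  push Not at hinv
  have hcyc : ∀ j, σ (σ (σ j)) = j := by
    have := hinv
    have hi := hσinj
    revert this hi
    generalize σ = τ
    revert τ
    decide
  -- the cyclic functional
  set g : Fin 3 → X →ₗ[k] k := fun l =>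
    ((P (σ l))⁻¹ * (P l / D l (σ l))⁻¹) • Xb.coord (π (σ l)) with hg
  have hD0 : ∀ l, D l (σ l) ≠ 0 := hσ
  have hgm : ∀ l p q r, g l (T.l p (T.m q r)) = ν (σ (σ l)) p * ν (σ l) q * ν l r := by
    intro l p q r
    have hb : β (σ l) r = P l / D l (σ l) * ν l r := by
      rw [div_mul_eq_mul_div, eq_div_iff (hD0 l), mul_comm]
      exact (hνβ l r).symm
    rw [hg, LinearMap.smul_apply, smul_eq_mul, hl']
    show (P (σ l))⁻¹ * (P l / D l (σ l))⁻¹ * (α (σ l) p * G' (σ l) (T.m q r)) = _
    rw [hαν, hG'm, hb]
    have h1 := hP0 (σ l)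
    have h2 := div_ne_zero (hP0 l) (hD0 l)
    generalize P l / D l (σ l) = w at h2
    field_simp
  set F₃ : X →ₗ[k] k := ∑ l, g l with hF3
  have hF3m : ∀ p q r, F₃ (T.l p (T.m q r)) = ∑ l, ν (σ (σ l)) p * ν (σ l) q * ν l r := by
    intro p q r
    rw [hF3, LinearMap.sum_apply]
    exact Finset.sum_congr rfl fun l _ => hgm l p q r
  have hrot : ∀ p q r, F₃ (T.l p (T.m q r)) = F₃ (T.l q (T.m r p)) := by
    intro p q r
    rw [hF3m, hF3m]
    refine (Fintype.sum_equiv (Equiv.ofBijective σ (Finite.injective_iff_bijective.1 hσinj))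
      _ _ fun l => ?_).symm
    simp only [Equiv.ofBijective_apply, hcyc]
    ring
  have hz : F₃ = 0 := LinearMap.ext fun z => LinearMap.mem_ker.1 (sub_of_top hcX
    (S := LinearMap.ker F₃) (fun s : V × U => by
      obtain ⟨p, u⟩ := s
      show T.l p u - T.r u p ∈ LinearMap.ker F₃
      rw [LinearMap.mem_ker, map_sub, sub_eq_zero]
      refine T.extU (f := F₃.comp (T.l p)) (g := F₃.comp (T.r.flip p)) (fun q r => ?_) u
      show F₃ (T.l p (T.m q r)) = F₃ (T.r (T.m q r) p)
      rw [hrot, T.assoc]) z)
  have := hF3m (e (σ (σ 0))) (e (σ 0)) (e 0)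
  rw [hz, LinearMap.zero_apply, Finset.sum_eq_single (0 : Fin 3)] at this
  · simp [hνe] at this
  · intro l _ hl0
    rw [hνe l 0, if_neg hl0, mul_zero]
  · simp

end CfsgLib.Blocks.KFive
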