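import Cfsg.Agent.Lib.Blocks.KFive.Config
import Cfsg.Agent.Lib.Blocks.KFive.Three
import Mathlib.LinearAlgebra.Trace
import Mathlib.LinearAlgebra.FreeModule.Finite.Matrix

/-!
# One of the degrees two to five has dimension at most one
-/

namespace CfsgLib.Blocks.KFive

open Module

set_option linter.unusedVariables false
set_option linter.unusedSectionVars false

variable {k : Type*} [Field k] {V U X : Type*} [AddCommGroup V] [Module k V] [AddCommGroup U]
  [Module k U] [AddCommGroup X] [Module k X] [FiniteDimensional k V] [FiniteDimensional k U]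
  [FiniteDimensional k X] {T : Tower k V U X} {Y : Type*} [AddCommGroup Y] [Module k Y]
  [FiniteDimensional k Y]

/-- The degree five. -/
structure Top (Z : Type*) [AddCommGroup Z] [Module k Z] (N : Next Y T) where
  l : V →ₗ[k] Y →ₗ[k] Z
  r : Y →ₗ[k] V →ₗ[k] Z
  mm : U →ₗ[k] X →ₗ[k] Z
  assoc : ∀ a x c, r (N.l a x) c = l a (N.r x c)
  assocl : ∀ a c x, l a (N.l c x) = mm (T.m a c) x
  span : Submodule.span k (Set.range fun q : V × Y => l q.1 q.2) = ⊤

theorem finrank_le_of_leOne_range {P Q : Type*} [AddCommGroup P] [Module k P] [AddCommGroup Q]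
    [Module k Q] [FiniteDimensional k Q] {f g : P →ₗ[k] Q} (hf : LeOne f) (hg : LeOne g)
    (h : ∀ q, q ∈ LinearMap.range f ⊔ LinearMap.range g) : finrank k Q ≤ 2 := by
  have h1 := finrank_le_of_all_mem h
  have h2 := Submodule.finrank_add_le_finrank_add_finrank (LinearMap.range f) (LinearMap.range g)
  have h3 := finrank_range_of_leOne hf
  have h4 := finrank_range_of_leOne hg
  omega

/-- A plane of commutators forces every element to have a zero, so degree three is a line. -/
theorem finrank_X_of_two (T : Tower k V U X) (hV : finrank k V = 3) (hU : finrank k U = 2) : finrank k X ≤ 1 := by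
  have h1 : ∀ a, LeOne (T.l a) := fun a => by
    obtain ⟨b, hb, hab⟩ := exists_zero_of_lt (T.m a) (by omega)
    obtain ⟨c, hc⟩ : ∃ c, T.m b c ≠ 0 := by
      by_contra h
      push Not at h
      exact hb (T.mf b h)
    refine leOne_of_ker (S := Submodule.span k {T.m b c}) ?_ (by
      rw [finrank_span_singleton hc]; omega)
    intro x hx
    obtain ⟨t, rfl⟩ := Submodule.mem_span_singleton.1 hx
    rw [map_smul, T.zero_of_mul hab, smul_zero]
  obtain ⟨q, hq⟩ := rank_one_common T.l h1 T.lf hU.ge
  refine (finrank_le_of_all_mem fun x => T.memX hq x).trans ?_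
  exact (finrank_span_le_card _).trans (by simp)

theorem finrank_U_le (hV : finrank k V = 3) (hc : T.CommU) : finrank k U ≤ 3 := by
  let B := Module.finBasisOfFinrankEq k V hV
  refine (finrank_le_of_all_mem fun u => T.commU_of_gen hc B.span_eq (S := Submodule.span k
    ({T.m (B 0) (B 1) - T.m (B 1) (B 0), T.m (B 0) (B 2) - T.m (B 2) (B 0),
      T.m (B 1) (B 2) - T.m (B 2) (B 1)} : Set U)) ?_ u).trans (finrank_span_three_le _ _ _)
  rintro _ ⟨i, rfl⟩ _ ⟨j, rfl⟩
  fin_cases i <;> fin_cases j <;>
    first
    | (rw [sub_self]; exact Submodule.zero_mem _)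
    | (refine Submodule.subset_span ?_; simp; done)
    | (refine neg_mem_iff.1 ?_; rw [neg_sub]; refine Submodule.subset_span ?_; simp; done)

/-- With degree three of dimension two, singular elements have one dimensional products in degree
four. -/
theorem leOne_next (N : Next Y T) (hX : finrank k X = 2) {a : V} (ha : T.Sing a) :
    LeOne (N.l a) := by
  obtain ⟨b, hb, hab⟩ := ha
  refine leOne_of_ker (S := LinearMap.range (T.l b)) ?_ ?_
  · rintro _ ⟨u, rfl⟩
    rw [N.assocl, hab, map_zero, LinearMap.zero_apply]
  · have : LinearMap.range (T.l b) ≠ ⊥ := fun h => hb (T.l_ne fun u => by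
      have := LinearMap.mem_range_self (T.l b) u
      rw [h, Submodule.mem_bot] at this
      exact this)
    have := Submodule.one_le_finrank_iff.2 this
    omega

/-- Degree four has dimension at most two when degree three has. -/
theorem finrank_Y_le (N : Next Y T) (hV : finrank k V = 3) (hX : finrank k X = 2)
    (h : ThreeGood T ∨ ∃ g g', T.Good g ∧ T.Good g' ∧
      ∀ x, x ∈ LinearMap.range (T.l g) ⊔ LinearMap.range (T.l g')) : finrank k Y ≤ 2 := by
  classical
  rcases h with ⟨a, ha, hag⟩ | ⟨g, g', hg, hg', hall⟩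
  · choose y hy using fun i => leOne_next N hX (hag i).1
    choose xl hxl using fun i => (hag i).2
    have htop := ha.span_eq_top_of_card_eq_finrank (by rw [Fintype.card_fin, hV])
    have hys : ∀ z : Y, z ∈ Submodule.span k (Set.range y) := N.mem fun v x => by
      refine (Submodule.span_le.2 ?_ : _ ≤ Submodule.comap (N.l.flip x)
        (Submodule.span k (Set.range y))) (htop ▸ Submodule.mem_top)
      rintro _ ⟨i, rfl⟩
      exact Submodule.span_mono (Set.singleton_subset_iff.2 (Set.mem_range_self i)) (hy i x)
    have hY3 : finrank k Y ≤ 3 := by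
      refine (finrank_le_of_all_mem hys).trans ((finrank_range_le_card y).trans ?_)
      simp
    by_contra hgt
    have hY : finrank k Y = 3 := by omega
    have hyi : LinearIndependent k y := linearIndependent_of_top_le_span_of_card_eq_finrank
      (fun z _ => hys z) (by simp [hY])
    let Yb : Basis (Fin 3) k Y := Basis.mk hyi fun z _ => hys z
    have hYb : ⇑Yb = y := Basis.coe_mk _ _
    have hu : ∀ i, ∃ u, T.l (a i) u ≠ 0 := fun i => by
      by_contra h
      push Not at h
      exact ha.ne_zero i (T.l_ne h)
    choose u hu using hu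
    have hline : ∀ i v, ∃ t : k, T.l (a i) v = t • T.l (a i) (u i) := by
      intro i v
      obtain ⟨s, hs⟩ := Submodule.mem_span_singleton.1 (hxl i (u i))
      obtain ⟨t, ht⟩ := Submodule.mem_span_singleton.1 (hxl i v)
      have hs0 : s ≠ 0 := fun h => hu i (by rw [← hs, h, zero_smul])
      exact ⟨t * s⁻¹, by rw [← hs, ← ht, smul_smul, mul_assoc, inv_mul_cancel₀ hs0, mul_one]⟩
    have hxs : ∀ z : X, z ∈ Submodule.span k (Set.range fun i => T.l (a i) (u i)) :=
      T.memX fun v w => by
        refine (Submodule.span_le.2 ?_ : _ ≤ Submodule.comap (T.l.flip w)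
          (Submodule.span k (Set.range fun i => T.l (a i) (u i)))) (htop ▸ Submodule.mem_top)
        rintro _ ⟨i, rfl⟩
        obtain ⟨t, ht⟩ := hline i w
        rw [SetLike.mem_coe, Submodule.mem_comap, LinearMap.flip_apply, ht]
        exact Submodule.smul_mem _ _ (Submodule.subset_span ⟨i, rfl⟩)
    have hli : LinearIndependent k fun i => T.l (a i) (u i) := by
      rw [Fintype.linearIndependent_iff]
      intro s hs i
      -- a functional that sees only the `i`th line
      let g : V → X →ₗ[k] k := fun c => (Yb.coord i).comp (N.r.flip c)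
      have hg0 : ∀ c j, j ≠ i → ∀ w, g c (T.l (a j) w) = 0 := by
        intro c j hj w
        obtain ⟨t, ht⟩ := Submodule.mem_span_singleton.1 (hy j (T.r w c))
        show Yb.coord i (N.r (T.l (a j) w) c) = 0
        rw [N.assoc, ← ht, map_smul, ← hYb, Basis.coord_apply, Basis.repr_self,
          Finsupp.single_eq_of_ne hj.symm, smul_zero]
      obtain ⟨c, hc⟩ : ∃ c, g c (T.l (a i) (u i)) ≠ 0 := by
        by_contra hz
        push Not at hz
        have hall : ∀ c z, g c z = 0 := fun c z => LinearMap.mem_ker.1
          ((Submodule.span_le.2 (by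
            rintro _ ⟨j, rfl⟩
            by_cases hj : j = i
            · exact hj ▸ hz c
            · exact hg0 c j hj _) :
            Submodule.span k (Set.range fun i => T.l (a i) (u i)) ≤ LinearMap.ker (g c)) (hxs z))
        have := LinearMap.mem_ker.1 (N.mem_r (S := LinearMap.ker (Yb.coord i))
          (fun z c => hall c z) (Yb i))
        simp at this
      have := congrArg (g c) hs
      rw [map_sum, map_zero, Finset.sum_eq_single i (fun j _ hj => by
        rw [map_smul, hg0 c j hj, smul_zero]) (by simp), map_smul, smul_eq_mul] at this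
      exact (mul_eq_zero.1 this).resolve_right hc
    have := hli.fintype_card_le_finrank
    rw [Fintype.card_fin, hX] at this
    omega
  · refine finrank_le_of_leOne_range (leOne_next N hX hg.1) (leOne_next N hX hg'.1) ?_
    refine N.mem_r fun x c => ?_
    refine (show LinearMap.range (T.l g) ⊔ LinearMap.range (T.l g') ≤ Submodule.comap (N.r.flip c)
      (LinearMap.range (N.l g) ⊔ LinearMap.range (N.l g')) from ?_) (hall x)
    refine sup_le ?_ ?_ <;> rintro _ ⟨w, rfl⟩ <;>
      rw [Submodule.mem_comap, LinearMap.flip_apply, N.assoc]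
    · exact Submodule.mem_sup_left (LinearMap.mem_range_self _ _)
    · exact Submodule.mem_sup_right (LinearMap.mem_range_self _ _)

variable {Z : Type*} [AddCommGroup Z] [Module k Z] [FiniteDimensional k Z]

/-- Degree five is a line when degrees three and four are planes. -/
theorem finrank_Z_le {N : Next Y T} (W : Top Z N) (hcU : T.CommU) (hX : finrank k X = 2)
    (hY : finrank k Y = 2) : finrank k Z ≤ 1 := by
  classical
  -- some element acts bijectively from the right
  obtain ⟨b, hb⟩ : ∃ b, Function.Injective (N.r.flip b) := by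
    by_contra h
    push Not at h
    have h1 : ∀ b, LeOne (N.r.flip b) := fun b => by
      refine leOne_of_finrank ?_
      have h' := h b
      rw [← LinearMap.ker_eq_bot] at h'
      have e := LinearMap.finrank_range_add_finrank_ker (N.r.flip b)
      have := Submodule.one_le_finrank_iff.2 h'
      omega
    obtain ⟨q, hq⟩ := rank_one_common N.r.flip h1 N.rf hX.ge
    have h2 := finrank_le_of_all_mem (N.mem_r fun x c => hq c x)
    have h3 := finrank_span_le_card (R := k) ({q} : Set Y)
    simp at h3
    omega
  have hbs : Function.Surjective (N.r.flip b) :=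
    (LinearMap.injective_iff_surjective_of_finrank_eq_finrank (by omega)).1 hb
  let R : X ≃ₗ[k] Y := LinearEquiv.ofBijective (N.r.flip b) ⟨hb, hbs⟩
  have hR : ∀ x, R x = N.r x b := fun x => rfl
  set R' : Y →ₗ[k] Z := W.r.flip b with hR'
  have hR's : Function.Surjective R' := by
    intro z
    refine (sub_of_top W.span (S := LinearMap.range R') (fun q : V × Y => ?_) z)
    obtain ⟨a, y⟩ := q
    obtain ⟨x, rfl⟩ := hbs y
    exact ⟨N.l a x, W.assoc a x b⟩
  by_contra hgt
  have hZ2 : finrank k Z ≤ 2 := hY ▸ LinearMap.finrank_le_finrank_of_surjective hR's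
  have hR'i : Function.Injective R' :=
    (LinearMap.injective_iff_surjective_of_finrank_eq_finrank (by omega)).2 hR's
  let R2 : Y ≃ₗ[k] Z := LinearEquiv.ofBijective R' ⟨hR'i, hR's⟩
  let ψ : V →ₗ[k] X →ₗ[k] X := N.l.compr₂ R.symm.toLinearMap
  let Q : U →ₗ[k] X →ₗ[k] X := W.mm.compr₂ (R.symm.toLinearMap.comp R2.symm.toLinearMap)
  have hψ : ∀ a x, ψ a x = R.symm (N.l a x) := fun a x => rfl
  have hQ : ∀ a c, Q (T.m a c) = ψ a * ψ c := by
    intro a c
    refine LinearMap.ext fun x => ?_
    show R.symm (R2.symm (W.mm (T.m a c) x)) = ψ a (ψ c x)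
    rw [hψ, EmbeddingLike.apply_eq_iff_eq, LinearEquiv.symm_apply_eq]
    show _ = W.r (N.l a (ψ c x)) b
    rw [W.assoc, ← hR, hψ, LinearEquiv.apply_symm_apply, W.assocl]
  -- products are spanned by commutators
  set P : Submodule k (X →ₗ[k] X) :=
    Submodule.span k (Set.range fun q : V × V => ψ q.1 * ψ q.2 - ψ q.2 * ψ q.1) with hP
  have hprod : ∀ a c, ψ a * ψ c ∈ P := fun a c => by
    rw [← hQ]
    refine sub_of_top hcU (S := P.comap Q) (fun q : V × V => ?_) _
    rw [Submodule.mem_comap, map_sub, hQ, hQ]
    exact Submodule.subset_span ⟨q, rfl⟩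
  set W₀ := LinearMap.range ψ with hW₀
  have htr : ∀ a c, LinearMap.trace k X (ψ a * ψ c) = 0 := fun a c =>
    LinearMap.mem_ker.1 ((Submodule.span_le.2 (by
      rintro _ ⟨q, rfl⟩
      show LinearMap.trace k X _ = 0
      rw [map_sub, LinearMap.trace_mul_comm, sub_self]) :
      P ≤ LinearMap.ker (LinearMap.trace k X)) (hprod a c))
  have hW2 : finrank k W₀ ≤ 2 := by
    let Φ : (X →ₗ[k] X) →ₗ[k] Module.Dual k W₀ :=
      { toFun := fun f =>
          { toFun := fun w => LinearMap.trace k X (f * (w : X →ₗ[k] X))
            map_add' := fun v w => by simp [mul_add]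
            map_smul' := fun c v => by simp }
        map_add' := fun f g => by ext w; simp [add_mul]
        map_smul' := fun c f => by ext w; simp }
    have hker : W₀ ≤ LinearMap.ker Φ := by
      rintro _ ⟨a, rfl⟩
      refine LinearMap.mem_ker.2 (LinearMap.ext ?_)
      rintro ⟨_, c, rfl⟩
      exact htr a c
    have hsurj : Function.Surjective Φ := by
      rw [← LinearMap.dualMap_injective_iff, injective_iff_map_eq_zero]
      intro ξ hξ
      obtain ⟨⟨w, hw⟩, rfl⟩ := (Module.evalEquiv k W₀).surjective ξ
      rw [LinearEquiv.map_eq_zero_iff]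
      refine Subtype.ext ?_
      show w = 0
      refine LinearMap.ext fun v => ?_
      rw [LinearMap.zero_apply, ← Module.forall_dual_apply_eq_zero_iff k]
      intro φ
      have h' : LinearMap.trace k X ((φ.smulRight v) * w) = 0 :=
        LinearMap.congr_fun hξ (φ.smulRight v)
      rw [show (φ.smulRight v) * w = (φ.comp w).smulRight v from rfl,
        LinearMap.trace_smulRight] at h'
      exact h'
    have h1 := LinearMap.finrank_range_add_finrank_ker Φ
    rw [LinearMap.range_eq_top.2 hsurj, finrank_top, Subspace.dual_finrank_eq,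
      Module.finrank_linearMap, hX] at h1
    have h2 := Submodule.finrank_mono hker
    omega
  obtain ⟨A, hA, B, hB, hAB⟩ : ∃ A ∈ W₀, ∃ B ∈ W₀, W₀ ≤ Submodule.span k {A, B} := by
    let n := finrank k W₀
    let b' := Module.finBasis k W₀
    let f : Fin 2 → W₀ := fun i => if h : (i : ℕ) < n then b' ⟨i, h⟩ else 0
    refine ⟨f 0, (f 0).2, f 1, (f 1).2, fun w hw => ?_⟩
    have hle : Submodule.span k (Set.range b') ≤
        (Submodule.span k ({(f 0 : X →ₗ[k] X), (f 1 : X →ₗ[k] X)} : Set _)).comap W₀.subtype := by
      refine Submodule.span_le.2 ?_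
      rintro _ ⟨⟨i, hi⟩, rfl⟩
      rcases (show i = 0 ∨ i = 1 by omega) with rfl | rfl
      · refine Submodule.subset_span (Or.inl ?_)
        simp [f, n, hi]
      · refine Submodule.subset_span (Or.inr ?_)
        simp [f, n, hi]
    exact hle (b'.span_eq ▸ Submodule.mem_top : (⟨w, hw⟩ : W₀) ∈ _)
  set c := A * B - B * A with hc
  have hPc : P ≤ Submodule.span k {c} := by
    refine Submodule.span_le.2 ?_
    rintro _ ⟨q, rfl⟩
    obtain ⟨s, t, h1⟩ := Submodule.mem_span_pair.1 (hAB ⟨q.1, rfl⟩)
    obtain ⟨s', t', h2⟩ := Submodule.mem_span_pair.1 (hAB ⟨q.2, rfl⟩)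
    refine Submodule.mem_span_singleton.2 ⟨s * t' - t * s', ?_⟩
    simp only [← h1, ← h2, hc, mul_add, add_mul, smul_mul_assoc, mul_smul_comm]
    module
  have hall : ∀ p ∈ W₀, ∀ q ∈ W₀, ∃ r : k, r • c = p * q := by
    rintro _ ⟨p, rfl⟩ _ ⟨q, rfl⟩
    exact Submodule.mem_span_singleton.1 (hPc (hprod p q))
  by_cases hcinj : Function.Injective c
  · obtain ⟨α, hα⟩ := hall A hA A hA
    obtain ⟨γ, hγ⟩ := hall A hA B hB
    obtain ⟨δ, hδ⟩ := hall B hB A hA
    have hsmul : ∀ r : k, r ≠ 0 → Function.Injective ⇑(r • c) := fun r hr x y h =>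
      hcinj (smul_right_injective X hr h)
    have hc0 : c ≠ 0 := fun h => by
      haveI : Nontrivial X := Module.nontrivial_of_finrank_pos (R := k) (by omega)
      obtain ⟨x, hx⟩ := exists_ne (0 : X)
      exact hx (hcinj (by simp [h]))
    have hinjA : Function.Injective A := by
      by_cases hγ0 : γ = 0
      · have hδ0 : δ ≠ 0 := fun h => hc0 (by rw [hc, ← hγ, ← hδ, hγ0, h, zero_smul, sub_zero])
        exact Function.Injective.of_comp (f := B) (by
          have := hsmul δ hδ0
          rwa [hδ] at this)
      · have hinj : Function.Injective (A ∘ B) := by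
          have := hsmul γ hγ0
          rwa [hγ] at this
        exact hinj.of_comp_right (LinearMap.injective_iff_surjective.1 hinj.of_comp)
    have hα0 : α ≠ 0 := by
      intro h
      rw [h, zero_smul] at hα
      refine hc0 (LinearMap.ext fun x => hinjA (hinjA ?_))
      have h0 : ∀ z, A (A z) = 0 := fun z => (LinearMap.congr_fun hα z).symm
      rw [h0, h0]
    have hcomm : A * c = c * A := by
      refine smul_right_injective _ hα0 ?_
      show α • (A * c) = α • (c * A)
      rw [← mul_smul_comm, ← smul_mul_assoc, hα, mul_assoc]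
    have hfin : A * (A * B) = A * (B * A) := by
      rw [← hγ, mul_smul_comm, hcomm, ← smul_mul_assoc, hγ, mul_assoc]
    refine hc0 (LinearMap.ext fun x => hinjA ?_)
    have := LinearMap.congr_fun hfin x
    rw [hc, LinearMap.sub_apply, map_sub, LinearMap.zero_apply, map_zero]
    exact sub_eq_zero.2 this
  · have hr1 : finrank k (LinearMap.range c) ≤ 1 := by
      rw [← LinearMap.ker_eq_bot] at hcinj
      have e := LinearMap.finrank_range_add_finrank_ker c
      have := Submodule.one_le_finrank_iff.2 hcinj
      omega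
    have hspan : ∀ (S : Submodule k X), (∀ a x, ψ a x ∈ S) → ∀ x, x ∈ S := fun S h x => by
      have := N.mem (S := S.comap R.symm.toLinearMap) h (R x)
      rwa [Submodule.mem_comap, LinearEquiv.coe_coe, LinearEquiv.symm_apply_apply] at this
    have hmem : ∀ x, x ∈ LinearMap.range c := by
      refine hspan _ fun a x => ?_
      refine hspan ((LinearMap.range c).comap (ψ a)) (fun d z => ?_) x
      obtain ⟨r, hr⟩ := hall _ ⟨a, rfl⟩ _ ⟨d, rfl⟩
      exact ⟨r • z, by rw [map_smul]; exact LinearMap.congr_fun hr z⟩
    have := finrank_le_of_all_mem hmem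
    omega

/-- One of the degrees two to five is at most a line. -/
theorem exists_line [IsAlgClosed k] {N : Next Y T} (W : Top Z N) (hV : finrank k V = 3)
    (hcU : T.CommU) (hcX : finrank k U = 3 → T.CommX) :
    finrank k U ≤ 1 ∨ finrank k X ≤ 1 ∨ finrank k Y ≤ 1 ∨ finrank k Z ≤ 1 := by
  by_contra h
  push Not at h
  obtain ⟨hU1, hX1, hY1, hZ1⟩ := h
  have hU3 := finrank_U_le hV hcU
  by_cases hU2 : finrank k U = 2
  · have := finrank_X_of_two T hV hU2
    omega
  have hU : finrank k U = 3 := by omega
  have hn : T.NoConfig := fun b hb h1 h2 => by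
    have h0 := config_zero hV hU hcU (hcX hU) N hb h1 h2
    have := finrank_le_of_all_mem (S := (⊥ : Submodule k Y)) fun y => by
      rw [h0 y]; exact Submodule.zero_mem _
    rw [finrank_bot] at this
    omega
  have hcase := goods_or_small hV hU hn hcU
  have hX : finrank k X = 2 := by
    rcases hcase with hl | ⟨g, g', hg, hg', hall⟩
    · have hX3 := finrank_le_three_of_good hV hl
      by_contra hne
      have hX : finrank k X = 3 := by omega
      rcases goods_or_small (T := T.opp) hV hU hn.opp hcU.opp with hr | ⟨g, g', hg, hg', hall⟩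
      · exact not_three hV hU hX hcU (hcX hU) hl hr
      · have := finrank_le_of_leOne_range hg.2 hg'.2 hall
        omega
    · have := finrank_le_of_leOne_range hg.2 hg'.2 hall
      omega
  have hY := finrank_Y_le N hV hX hcase
  have := finrank_Z_le W hcU hX (by omega)
  omega

end CfsgLib.Blocks.KFive
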